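import Mathlib
import Cfsg.Agent.Lib.Maximal.DerangementCount

/-! Elementary facts on derangements and normal subgroups of primitive groups. -/
set_option autoImplicit false

namespace CfsgLib.PrimRecog

open MulAction

variable {G Ω : Type*} [Group G] [MulAction G Ω]

/-- A group element is a derangement if it fixes no point. -/
def IsDer (Ω : Type*) [MulAction G Ω] (g : G) : Prop := ∀ ω : Ω, g • ω ≠ ω

lemma IsDer.ne_one [Nonempty Ω] {g : G} (h : IsDer Ω g) : g ≠ 1 := fun hg =>
  h (Classical.arbitrary Ω) (by rw [hg, one_smul])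

lemma isDer_conj {g : G} (h : IsDer Ω g) (x : G) : IsDer Ω (x * g * x⁻¹) := fun ω hω =>
  h (x⁻¹ • ω) (by rw [eq_inv_smul_iff, ← mul_smul, ← mul_smul, hω])

lemma not_isDer_iff {g : G} : ¬ IsDer Ω g ↔ ∃ ω : Ω, g • ω = ω := by
  simp [IsDer]

/-- Jordan: a finite transitive group on at least two points has a derangement. -/
theorem exists_isDer [Finite G] [Finite Ω] [Nontrivial Ω] (htr : IsPretransitive G Ω) :
    ∃ g : G, IsDer Ω g := by
  classical
  have := Fintype.ofFinite G
  by_contra hne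
  push Not at hne
  have hpos : ∀ g : G, 1 ≤ Nat.card (fixedBy Ω g) := by
    intro g
    obtain ⟨ω, hω⟩ := not_isDer_iff.mp (hne g)
    have : Nonempty (fixedBy Ω g) := ⟨⟨ω, hω⟩⟩
    exact Nat.card_pos
  have h1 : Nat.card (fixedBy Ω (1 : G)) = Nat.card Ω :=
    Nat.card_congr (Equiv.subtypeUnivEquiv (fun ω => one_smul _ ω))
  have hlt : ∑ _g : G, 1 < ∑ g : G, Nat.card (fixedBy Ω g) :=
    Finset.sum_lt_sum (fun g _ => hpos g)
      ⟨1, Finset.mem_univ _, by rw [h1]; exact Finite.one_lt_card⟩
  rw [CfsgLib.Maximal.sum_natCard_fixedBy_of_transitive htr] at hlt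
  simp at hlt

/-- The conjugates of a proper subgroup of a finite group do not cover it. -/
theorem exists_not_conj_mem [Finite G] {T P : Subgroup G} (hP : ¬ T ≤ P) :
    ∃ a ∈ T, ∀ x ∈ T, x⁻¹ * a * x ∉ P := by
  let Q : Subgroup T := P.subgroupOf T
  have hQ : Q ≠ ⊤ := fun h => hP (Subgroup.subgroupOf_eq_top.mp h)
  have : Nontrivial (T ⧸ Q) := by
    rw [← Finite.one_lt_card_iff_nontrivial]
    exact Subgroup.one_lt_index_of_ne_top hQ
  obtain ⟨a, ha⟩ := exists_isDer (G := T) (Ω := T ⧸ Q) inferInstance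
  refine ⟨a, a.2, fun x hx h => ha (QuotientGroup.mk (⟨x, hx⟩ : T)) ?_⟩
  rw [MulAction.Quotient.smul_mk, smul_eq_mul, eq_comm, QuotientGroup.eq]
  have : (⟨x, hx⟩ : T)⁻¹ * (a * ⟨x, hx⟩) = ⟨x⁻¹ * (a : G) * x, T.mul_mem (T.mul_mem (T.inv_mem hx) a.2) hx⟩ :=
    Subtype.ext (by simp [mul_assoc])
  rw [this]
  exact Subgroup.mem_subgroupOf.mpr h

/-- A finite group whose non-identity elements are all conjugate is abelian. -/
theorem commute_of_all_conj [Finite G] (t : G) (h : ∀ u : G, u ≠ 1 → IsConj t u) (x y : G) :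
    x * y = y * x := by
  classical
  by_cases hx : x = 1
  · simp [hx]
  by_cases hy : y = 1
  · simp [hy]
  by_cases hxy : x = y
  · simp [hxy]
  exfalso
  have ht : t ≠ 1 := by
    intro h1
    obtain ⟨c, hc⟩ := isConj_iff.mp (h x hx)
    exact hx (by rw [← hc, h1]; simp)
  have horb : orbit (ConjAct G) t = {u : G | u ≠ 1} := by
    ext u
    rw [ConjAct.mem_orbit_conjAct]
    refine ⟨fun hu h1 => ht ?_, fun hu => (h u hu).symm⟩
    obtain ⟨c, hc⟩ := isConj_iff.mp hu
    rw [← hc, h1]; simp
  have hd : Nat.card (orbit (ConjAct G) t) ∣ Nat.card G := by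
    rw [Nat.card_congr (orbitEquivQuotientStabilizer (ConjAct G) t)]
    exact Subgroup.card_quotient_dvd_card _
  have hc : Nat.card (orbit (ConjAct G) t) = Nat.card G - 1 := by
    rw [Nat.card_congr (Equiv.setCongr horb), Nat.card_coe_set_eq,
      show {u : G | u ≠ 1} = ({1} : Set G)ᶜ from rfl, Set.ncard_compl, Set.ncard_singleton]
  have h3 : 3 ≤ Nat.card G := by
    calc 3 = ({1, x, y} : Finset G).card := by
          rw [Finset.card_eq_three.mpr ⟨1, x, y, Ne.symm hx, Ne.symm hy, hxy, rfl⟩]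
      _ ≤ Nat.card G := by
          have := Fintype.ofFinite G
          rw [Nat.card_eq_fintype_card]; exact Finset.card_le_univ _
  rw [hc] at hd
  have := Nat.dvd_sub hd (dvd_refl (Nat.card G - 1))
  rw [show Nat.card G - (Nat.card G - 1) = 1 by omega, Nat.dvd_one] at this
  omega

/-- A finite group which is not a `p`-group has an element of prime order other than `p`. -/
theorem exists_prime_orderOf_ne [Finite G] (p : ℕ) (h : ¬ IsPGroup p G) :
    ∃ g : G, (orderOf g).Prime ∧ orderOf g ≠ p := by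
  by_contra hne
  push Not at hne
  apply h
  refine IsPGroup.of_card (n := (Nat.card G).factorization p) ?_
  apply Nat.dvd_antisymm
  · rw [← Nat.factorization_le_iff_dvd Nat.card_pos.ne']
    · intro r
      rcases Decidable.em r.Prime with hr | hr
      · by_cases hrp : r = p
        · subst hrp
          rw [hr.factorization_pow, Finsupp.single_eq_same]
        · have : ¬ r ∣ Nat.card G := by
            intro hd
            have := Fact.mk hr
            obtain ⟨g, hg⟩ := exists_prime_orderOf_dvd_card' r hd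
            exact hrp (hg ▸ hne g (hg ▸ hr))
          rw [Nat.factorization_eq_zero_of_not_dvd this]
          exact Nat.zero_le _
      · rw [Nat.factorization_eq_zero_of_not_prime _ hr]
        exact Nat.zero_le _
    · intro h0
      obtain ⟨h1, -⟩ := pow_eq_zero_iff'.mp h0
      subst h1
      simp at h0
  · exact Nat.ordProj_dvd _ _

/-- A nontrivial group with trivial centre is not a `p`-group. -/
theorem not_isPGroup_of_center [Finite G] [Nontrivial G] (hZ : ∀ x : G, (∀ y, x * y = y * x) → x = 1)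
    (p : ℕ) (hp : p.Prime) : ¬ IsPGroup p G := by
  intro hP
  have := Fact.mk hp
  have := hP.center_nontrivial
  obtain ⟨⟨z, hz⟩, hne⟩ := exists_ne (1 : Subgroup.center G)
  exact hne (Subtype.ext (hZ z fun y => (Subgroup.mem_center_iff.mp hz y).symm))

/-- A nontrivial finite group with trivial centre has elements of two different prime orders. -/
theorem exists_two_prime_orders [Finite G] [Nontrivial G] (hZ : ∀ x : G, (∀ y, x * y = y * x) → x = 1) :
    ∃ s t : G, (orderOf s).Prime ∧ (orderOf t).Prime ∧ orderOf s ≠ orderOf t := by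
  obtain ⟨r, hr, hd⟩ := Nat.exists_prime_and_dvd (Finite.one_lt_card (α := G)).ne'
  have := Fact.mk hr
  obtain ⟨s, hs⟩ := exists_prime_orderOf_dvd_card' r hd
  obtain ⟨t, ht, hne⟩ := exists_prime_orderOf_ne r (not_isPGroup_of_center hZ r hr)
  exact ⟨s, t, hs ▸ hr, ht, by rw [hs]; exact hne.symm⟩

/-- A nontrivial normal subgroup of a primitive group is transitive. -/
theorem transitive_of_normal [FaithfulSMul G Ω] (hprim : IsPreprimitive G Ω) {N : Subgroup G}
    (hN : N.Normal) (hN1 : N ≠ ⊥) : IsPretransitive N Ω := by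
  refine IsQuasiPreprimitive.isPretransitive_of_normal (G := G) ?_
  intro h
  refine hN1 ((Subgroup.eq_bot_iff_forall _).mpr fun n hn => FaithfulSMul.eq_of_smul_eq_smul (α := Ω) fun ω => ?_)
  have : ω ∈ fixedPoints N Ω := h ▸ Set.mem_univ ω
  rw [one_smul]
  exact this ⟨n, hn⟩

/-- If `M` is transitive, an element commuting with all of `M` and fixing a point is trivial. -/
theorem isDer_of_commute [FaithfulSMul G Ω] {M : Subgroup G} (hM : IsPretransitive M Ω) {n : G}
    (hn : ∀ m ∈ M, m * n = n * m) (hn1 : n ≠ 1) : IsDer Ω n := by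
  intro ω hω
  refine hn1 (FaithfulSMul.eq_of_smul_eq_smul (α := Ω) fun x => ?_)
  obtain ⟨⟨m, hm⟩, hmx⟩ := hM.exists_smul_eq ω x
  rw [one_smul, ← hmx]
  show n • (m • ω) = m • ω
  rw [← mul_smul, ← hn m hm, mul_smul, hω]

/-- A transitive abelian subgroup of a faithful action is semiregular. -/
theorem isDer_of_mem_comm [FaithfulSMul G Ω] {M : Subgroup G} (hM : IsPretransitive M Ω)
    (hc : IsMulCommutative M) {n : G} (hn : n ∈ M) (hn1 : n ≠ 1) : IsDer Ω n :=
  isDer_of_commute hM (fun m hm => congrArg Subtype.val (hc.is_comm.comm ⟨m, hm⟩ ⟨n, hn⟩)) hn1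

/-- The existence of minimal normal subgroups. -/
theorem exists_minimal_normal [Finite G] [Nontrivial G] :
    ∃ N : Subgroup G, N.Normal ∧ N ≠ ⊥ ∧ ∀ M : Subgroup G, M.Normal → M ≤ N → M = ⊥ ∨ M = N := by
  obtain ⟨N, ⟨hN, hN1⟩, hmin⟩ := (wellFounded_lt (α := Subgroup G)).has_min
    {N : Subgroup G | N.Normal ∧ N ≠ ⊥} ⟨⊤, inferInstance, top_ne_bot⟩
  refine ⟨N, hN, hN1, fun M hM hle => ?_⟩
  by_cases h : M = ⊥
  · exact Or.inl h
  · exact Or.inr (hle.antisymm (by
      by_contra hn
      exact hmin M ⟨hM, h⟩ (lt_of_le_of_ne hle (fun he => hn he.ge))))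

end CfsgLib.PrimRecog
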