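import Mathlib
import Cfsg.Agent.Lib.SpecLin.PSLOrders
import Cfsg.Agent.Lib.Spectrum.Basic

/-! A solvable group isospectral to PSL(2,q) × PSL(2,q). -/
set_option autoImplicit false

namespace CfsgLib.PrimRecog.PSLSquare

open Matrix Polynomial CfsgLib.SpecLin.PSLOrders

section spectrum

variable {F : Type*} [Field F] [Fintype F]

local notation "SL" => Matrix.SpecialLinearGroup (Fin 2) F
local notation "PSL" => Matrix.ProjectiveSpecialLinearGroup (Fin 2) F
local notation "q" => Fintype.card F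

/-- The divisors of `a`, of `b` or of `p`. -/
def orders (p : ℕ) (F : Type*) [Fintype F] : Set ℕ :=
  {m | m ∣ (Fintype.card F - 1) / Nat.gcd 2 (Fintype.card F - 1) ∨
    m ∣ (Fintype.card F + 1) / Nat.gcd 2 (Fintype.card F - 1) ∨ m ∣ p}

omit [Fintype F] in
lemma sq_two (M : SL) : (M : Matrix (Fin 2) (Fin 2) F) ^ 2 -
    (M : Matrix (Fin 2) (Fin 2) F).trace • (M : Matrix (Fin 2) (Fin 2) F) + 1 = 0 := by
  have h : (M : Matrix (Fin 2) (Fin 2) F) 0 0 * (M : Matrix (Fin 2) (Fin 2) F) 1 1 -
      (M : Matrix (Fin 2) (Fin 2) F) 0 1 * (M : Matrix (Fin 2) (Fin 2) F) 1 0 = 1 := by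
    rw [← Matrix.det_fin_two]; exact M.2
  ext i j
  fin_cases i <;> fin_cases j <;>
    simp [pow_two, Matrix.mul_apply, Fin.sum_univ_two, Matrix.trace] <;>
    first | linear_combination (-1 : F) * h | ring

/-- If `P` divides `X ^ k - C s` and kills `M`, then the image of `M` has order dividing `k`. -/
lemma orderOf_dvd_of_poly {M : SL} {P : F[X]} (hP : aeval (M : Matrix (Fin 2) (Fin 2) F) P = 0)
    {k : ℕ} {s : F} (h : P ∣ X ^ k - C s) : orderOf (QuotientGroup.mk M : PSL) ∣ k := by
  refine orderOf_mk_dvd_of_pow_eq_scalar (s := s) ?_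
  obtain ⟨t, ht⟩ := h
  have := congrArg (aeval (M : Matrix (Fin 2) (Fin 2) F)) ht
  rw [map_mul, hP, zero_mul, map_sub, map_pow, aeval_X, aeval_C, sub_eq_zero,
    Algebra.algebraMap_eq_smul_one] at this
  exact this

omit [Fintype F] in
lemma inv_eq_self_of_half {R : Type*} [CommRing R] [IsDomain R] {x : R} {k : ℕ} {d : ℕ} (hd : d ∣ 2)
    (hx : x ^ (k * d) = 1) : x ^ k = 1 ∨ x ^ k = -1 := by
  apply sq_eq_one_iff.mp
  obtain ⟨e, he⟩ := hd
  rw [← pow_mul, he, ← mul_assoc, pow_mul, hx, one_pow]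

theorem orderOf_mem {p : ℕ} [Fact p.Prime] [CharP F p] (g : PSL) : orderOf g ∈ orders p F := by
  obtain ⟨M, rfl⟩ := QuotientGroup.mk_surjective g
  set t := (M : Matrix (Fin 2) (Fin 2) F).trace
  set P : F[X] := X ^ 2 - C t * X + 1 with hPdef
  have hP : aeval (M : Matrix (Fin 2) (Fin 2) F) P = 0 := by
    rw [hPdef, map_add, map_sub, map_pow, map_mul, aeval_X, aeval_C, map_one,
      Algebra.algebraMap_eq_smul_one, Matrix.smul_mul, one_mul]
    exact sq_two M
  have hd2 : Nat.gcd 2 (q - 1) ∣ 2 := Nat.gcd_dvd_left _ _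
  by_cases hroot : ∃ l : F, l ^ 2 - t * l + 1 = 0
  · obtain ⟨l, hl⟩ := hroot
    have hl0 : l ≠ 0 := by rintro rfl; simp at hl
    have hlt : t = l + l⁻¹ := by field_simp; linear_combination -hl
    have hfac : P = (X - C l) * (X - C l⁻¹) := by
      rw [hPdef, hlt, map_add]
      have : C l * C l⁻¹ = (1 : F[X]) := by rw [← map_mul, mul_inv_cancel₀ hl0, map_one]
      linear_combination (-1 : F[X]) * this
    by_cases he : l = l⁻¹
    · right; right
      rw [← he] at hfac
      refine orderOf_dvd_of_poly (P := P) hP (s := l ^ p) ?_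
      rw [hfac, show (X : F[X]) ^ p - C (l ^ p) = (X - C l) ^ p by rw [sub_pow_char, map_pow]]
      exact ⟨(X - C l) ^ (p - 2), by
        rw [← pow_two, ← pow_add, Nat.add_sub_cancel' (Fact.out : p.Prime).two_le]⟩
    · left
      set k := (q - 1) / Nat.gcd 2 (q - 1)
      refine orderOf_dvd_of_poly (P := P) hP (s := l ^ k) ?_
      rw [hfac]
      refine IsCoprime.mul_dvd ?_ ?_ ?_
      · exact isCoprime_X_sub_C_of_isUnit_sub (isUnit_iff_ne_zero.mpr (sub_ne_zero.mpr he))
      · rw [dvd_iff_isRoot]; simp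
      · rw [dvd_iff_isRoot]
        simp only [IsRoot, eval_sub, eval_pow, eval_X, eval_C, sub_eq_zero, inv_pow]
        rcases inv_eq_self_of_half (x := l) (k := k) hd2 (by
            rw [Nat.div_mul_cancel (Nat.gcd_dvd_right _ _)]
            exact FiniteField.pow_card_sub_one_eq_one l hl0) with h | h <;> rw [h] <;> simp
  · right; left
    set k := (q + 1) / Nat.gcd 2 (q - 1)
    have hmon : P.Monic := by rw [hPdef]; monicity!
    have hdeg : P.natDegree = 2 := by rw [hPdef]; compute_degree!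
    have hirr : Irreducible P := by
      refine (Monic.irreducible_iff_roots_eq_zero_of_degree_le_three hmon (by omega) (by omega)).mpr ?_
      refine Multiset.eq_zero_of_forall_notMem fun l hl => hroot ⟨l, ?_⟩
      have := (mem_roots'.mp hl).2
      simpa [hPdef, IsRoot] using this
    have := Fact.mk hirr
    set r := AdjoinRoot.root P
    set t' := algebraMap F (AdjoinRoot P) t
    have hr : r ^ 2 - t' * r + 1 = 0 := by
      have h : aeval r P = 0 := by rw [AdjoinRoot.aeval_eq, AdjoinRoot.mk_self]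
      have h' : aeval r (X ^ 2 - C t * X + 1) = 0 := h
      rw [map_add, map_sub, map_pow, map_mul, aeval_X, aeval_C, map_one] at h'
      exact h'
    have : CharP (AdjoinRoot P) p := charP_of_injective_algebraMap (algebraMap F (AdjoinRoot P)).injective p
    obtain ⟨n, hn⟩ : ∃ n : ℕ, q = p ^ n := by
      obtain ⟨n, -, h⟩ := FiniteField.card F p
      exact ⟨n, h⟩
    have hrq : (r ^ q) ^ 2 - t' * r ^ q + 1 = 0 := by
      have h := congrArg (fun z => z ^ q) hr
      simp only [zero_pow Fintype.card_ne_zero] at h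
      rw [hn, add_pow_char_pow, sub_pow_char_pow, mul_pow, one_pow, ← hn, ← map_pow,
        FiniteField.pow_card, ← pow_mul, mul_comm 2, pow_mul] at h
      exact h
    have hne : r ^ q ≠ r := by
      intro h
      obtain ⟨l, hl⟩ := mem_range_of_pow_card (F := F) h
      refine hroot ⟨l, (algebraMap F (AdjoinRoot P)).injective ?_⟩
      rw [map_add, map_sub, map_mul, map_pow, map_one, map_zero, hl]
      exact hr
    have hr1 : r ^ (q + 1) = 1 := by
      have h1 : r ^ q + r - t' = 0 := by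
        refine (mul_eq_zero.mp (show (r ^ q - r) * (r ^ q + r - t') = 0 by
          linear_combination hrq - hr)).resolve_left (sub_ne_zero.mpr hne)
      rw [pow_succ]
      linear_combination r * h1 - hr
    have hdk : Nat.gcd 2 (q - 1) ∣ q + 1 := by
      have := Fintype.card_pos (α := F)
      rw [show q + 1 = (q - 1) + 2 by omega]
      exact dvd_add (Nat.gcd_dvd_right _ _) hd2
    rcases inv_eq_self_of_half (x := r) (k := k) hd2 (by
        rw [Nat.div_mul_cancel hdk]; exact hr1) with h | h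
    · refine orderOf_dvd_of_poly (P := P) hP (s := (1 : F)) ?_
      rw [← AdjoinRoot.mk_eq_zero, map_sub, map_pow, AdjoinRoot.mk_X, AdjoinRoot.mk_C, h, map_one, sub_self]
    · refine orderOf_dvd_of_poly (P := P) hP (s := (-1 : F)) ?_
      rw [← AdjoinRoot.mk_eq_zero, map_sub, map_pow, AdjoinRoot.mk_X, AdjoinRoot.mk_C, h, map_neg, map_one, sub_self]

theorem range_orderOf_psl {p : ℕ} [Fact p.Prime] [CharP F p] :
    Set.range (orderOf : PSL → ℕ) = orders p F := by
  refine Set.Subset.antisymm (by rintro _ ⟨g, rfl⟩; exact orderOf_mem g) ?_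
  rintro m (h | h | h)
  · obtain ⟨z, hz⟩ := IsCyclic.exists_ofOrder_eq_natCard (α := Fˣ)
    rw [Nat.card_units, Nat.card_eq_fintype_card] at hz
    let g : SL := ⟨!![(z : F), 0; 0, ((z⁻¹ : Fˣ) : F)], by simp [Matrix.det_fin_two]⟩
    refine CfsgLib.Spectrum.mem_range_orderOf_of_dvd ⟨(QuotientGroup.mk g : PSL), rfl⟩ (h.trans ?_)
    set o := orderOf (QuotientGroup.mk g : PSL)
    have h1 : g ^ o ∈ Subgroup.center SL := by
      rw [← QuotientGroup.eq_one_iff, QuotientGroup.mk_pow, pow_orderOf_eq_one]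
    obtain ⟨s, hs1, hs⟩ := exists_scalar_of_mem_center h1
    have hgp : ∀ j : ℕ, ((g : Matrix (Fin 2) (Fin 2) F)) ^ j =
        !![((z ^ j : Fˣ) : F), 0; 0, (((z⁻¹) ^ j : Fˣ) : F)] := by
      intro j
      induction j with
      | zero => ext a b; fin_cases a <;> fin_cases b <;> simp
      | succ j ih =>
        rw [pow_succ, ih]
        ext a b; fin_cases a <;> fin_cases b <;> simp [g, Matrix.mul_apply, Fin.sum_univ_two, pow_succ]
    rw [Matrix.SpecialLinearGroup.coe_pow, hgp] at hs
    have h00 := congrFun (congrFun hs 0) 0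
    simp at h00
    have hz2 : q - 1 ∣ 2 * o := by
      rw [← hz, mul_comm]
      refine orderOf_dvd_of_pow_eq_one (Units.ext ?_)
      rw [pow_mul, Units.val_pow_eq_pow_val, Units.val_pow_eq_pow_val, h00, Units.val_one]
      exact hs1
    rw [Nat.div_dvd_iff_dvd_mul (Nat.gcd_dvd_right _ _) (Nat.gcd_pos_of_pos_left _ two_pos),
      ← Nat.gcd_mul_right]
    exact Nat.dvd_gcd hz2 (dvd_mul_right _ _)
  · obtain ⟨g, hg⟩ := exists_mk_singer (F := F) (n := 2) (by norm_num)
    have hc : cyc q 2 = q + 1 := by simp [cyc, Finset.sum_range_succ, add_comm]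
    rw [hc] at hg
    exact CfsgLib.Spectrum.mem_range_orderOf_of_dvd ⟨g, rfl⟩ (h.trans hg)
  · refine CfsgLib.Spectrum.mem_range_orderOf_of_dvd (n := p) ?_ h
    let g : SL := ⟨!![1, 1; 0, 1], by simp [Matrix.det_fin_two]⟩
    refine ⟨(QuotientGroup.mk g : PSL), orderOf_eq_prime ?_ ?_⟩
    · have hgp : ∀ j : ℕ, (g : Matrix (Fin 2) (Fin 2) F) ^ j = !![1, (j : F); 0, 1] := by
        intro j
        induction j with
        | zero => ext a b; fin_cases a <;> fin_cases b <;> simp
        | succ j ih =>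
          rw [pow_succ, ih]
          ext a b; fin_cases a <;> fin_cases b <;> simp [g, Matrix.mul_apply, Fin.sum_univ_two] <;> ring
      rw [← QuotientGroup.mk_pow, QuotientGroup.eq_one_iff]
      refine mem_center_of_eq_scalar (s := (1 : F)) ?_
      rw [Matrix.SpecialLinearGroup.coe_pow, hgp, CharP.cast_eq_zero, one_smul]
      ext a b; fin_cases a <;> fin_cases b <;> simp
    · intro h'
      rw [QuotientGroup.eq_one_iff] at h'
      obtain ⟨s, -, hs⟩ := exists_scalar_of_mem_center h'
      have := congrFun (congrFun hs 0) 1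
      simp [g] at this

end spectrum

section affine

variable {K : Type} [Field K] [Finite K]

/-- Multiplication by units on the additive group. -/
def mulAct (U : Subgroup Kˣ) : U →* MulAut (Multiplicative K) where
  toFun u := AddEquiv.toMultiplicative (DistribMulAction.toAddEquiv K (u : Kˣ))
  map_one' := by ext x; simp
  map_mul' u v := by ext x; simp [mul_smul]

/-- `K ⋊ U`. -/
abbrev Aff (U : Subgroup Kˣ) := Multiplicative K ⋊[mulAct U] U

lemma solvable_aff (U : Subgroup Kˣ) : Group.IsSolvable (Aff U) := by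
  have h1 : Group.IsSolvable (Multiplicative K) := Group.isSolvable_of_comm mul_comm
  have h2 : Group.IsSolvable U := Group.isSolvable_of_comm mul_comm
  exact Group.isSolvable_of_ker_le_range (SemidirectProduct.inl (φ := mulAct U))
    (SemidirectProduct.rightHom (φ := mulAct U))
    (by rw [SemidirectProduct.range_inl_eq_ker_rightHom])

instance (U : Subgroup Kˣ) : Finite (Aff U) := Finite.of_equiv _ SemidirectProduct.equivProd.symm

theorem range_orderOf_aff {p : ℕ} [hp : Fact p.Prime] [CharP K p] (U : Subgroup Kˣ) :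
    Set.range (orderOf : Aff U → ℕ) = {m | m ∣ Nat.card U ∨ m ∣ p} := by
  refine Set.Subset.antisymm ?_ ?_
  · rintro _ ⟨⟨x, u⟩, rfl⟩
    have hpow : ∀ j : ℕ, ((⟨x, u⟩ : Aff U) ^ j) =
        ⟨Multiplicative.ofAdd ((∑ i ∈ Finset.range j, ((u : Kˣ) : K) ^ i) * x.toAdd), u ^ j⟩ := by
      intro j
      induction j with
      | zero => apply SemidirectProduct.ext <;> simp
      | succ j ih =>
        rw [pow_succ, ih]
        apply SemidirectProduct.ext
        · rw [SemidirectProduct.mul_left]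
          apply Multiplicative.toAdd.injective
          simp [mulAct, Finset.sum_range_succ, Units.smul_def, add_mul]
        · simp only [SemidirectProduct.mul_right, pow_succ]
    by_cases hu : u = 1
    · right
      refine orderOf_dvd_of_pow_eq_one ?_
      rw [hpow, hu]
      apply SemidirectProduct.ext <;> simp
    · left
      refine (orderOf_dvd_of_pow_eq_one ?_).trans (orderOf_dvd_natCard u)
      rw [hpow, pow_orderOf_eq_one]
      have h : (∑ i ∈ Finset.range (orderOf u), ((u : Kˣ) : K) ^ i) = 0 := by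
        have hu1 : ((u : Kˣ) : K) - 1 ≠ 0 := fun e => hu (Subtype.ext (Units.ext (sub_eq_zero.mp e)))
        have h2 : ((u : Kˣ) : K) ^ orderOf u = 1 := by
          rw [← Units.val_pow_eq_pow_val, ← Subgroup.coe_pow, pow_orderOf_eq_one, Subgroup.coe_one, Units.val_one]
        refine (mul_eq_zero.mp ?_).resolve_left hu1
        rw [mul_geom_sum, h2, sub_self]
      apply SemidirectProduct.ext <;> simp [h]
  · rintro m (h | h)
    · obtain ⟨u, hu⟩ := IsCyclic.exists_ofOrder_eq_natCard (α := U)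
      refine CfsgLib.Spectrum.mem_range_orderOf_of_dvd ⟨SemidirectProduct.inr u, rfl⟩ (h.trans ?_)
      rw [orderOf_injective _ SemidirectProduct.inr_injective, hu]
    · refine CfsgLib.Spectrum.mem_range_orderOf_of_dvd ⟨SemidirectProduct.inl (Multiplicative.ofAdd (1 : K)), rfl⟩ (h.trans ?_)
      rw [orderOf_injective _ SemidirectProduct.inl_injective]
      exact (orderOf_eq_prime (p := p) (by rw [← ofAdd_nsmul]; simp) (by simp)).symm.dvd

/-- For `m ∣ |Kˣ|` there is a subgroup of units of order `m`. -/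
lemma exists_units_subgroup {m : ℕ} (h : m ∣ Nat.card K - 1) : ∃ U : Subgroup Kˣ, Nat.card U = m := by
  obtain ⟨z, hz⟩ := IsCyclic.exists_ofOrder_eq_natCard (α := Kˣ)
  rw [Nat.card_units] at hz
  refine ⟨Subgroup.zpowers (z ^ (orderOf z / m)), ?_⟩
  rw [Nat.card_zpowers, orderOf_pow_orderOf_div (orderOf_pos z).ne' (hz ▸ h)]

end affine

theorem exists_isospectral {F : Type*} [Field F] [Fintype F] :
    ∃ (H : Type) (_ : Group H) (_ : Finite H), Group.IsSolvable H ∧
      Set.range (orderOf : H → ℕ) = Set.range (orderOf : Matrix.ProjectiveSpecialLinearGroup (Fin 2) F ×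
        Matrix.ProjectiveSpecialLinearGroup (Fin 2) F → ℕ) := by
  obtain ⟨p, hp⟩ := CharP.exists F
  have : Fact p.Prime := ⟨CharP.char_is_prime F p⟩
  obtain ⟨n, -, hn⟩ := FiniteField.card F p
  let K := GaloisField p (2 * n)
  have hK : Nat.card K = p ^ (2 * (n : ℕ)) := GaloisField.card p _ (by simp)
  set Q := Fintype.card F
  have hdvd : ∀ m, m ∣ Q - 1 ∨ m ∣ Q + 1 → m ∣ Nat.card K - 1 := by
    intro m hm
    have h : (Q + 1) * (Q - 1) = Nat.card K - 1 := by
      rw [hK, mul_comm 2, pow_mul, ← hn, ← Nat.sq_sub_sq, one_pow]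
    rw [← h]
    rcases hm with hm | hm
    · exact hm.trans (dvd_mul_left _ _)
    · exact hm.trans (dvd_mul_right _ _)
  have hd : Nat.gcd 2 (Q - 1) ∣ Q - 1 := Nat.gcd_dvd_right _ _
  have hd' : Nat.gcd 2 (Q - 1) ∣ Q + 1 := by
    have h1 := Fintype.card_pos (α := F)
    rw [show Q + 1 = (Q - 1) + 2 by omega]
    exact dvd_add hd (Nat.gcd_dvd_left _ _)
  obtain ⟨U, hU⟩ := exists_units_subgroup (hdvd _ (Or.inl (Nat.div_dvd_of_dvd hd)))
  obtain ⟨V, hV⟩ := exists_units_subgroup (hdvd _ (Or.inr (Nat.div_dvd_of_dvd hd')))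
  have hsU := solvable_aff U
  have hsV := solvable_aff V
  refine ⟨Aff U × Aff V, inferInstance, inferInstance, inferInstance, ?_⟩
  rw [CfsgLib.Spectrum.range_orderOf_prod, CfsgLib.Spectrum.range_orderOf_prod,
    range_orderOf_psl (F := F) (p := p), range_orderOf_aff (p := p) U, range_orderOf_aff (p := p) V, hU, hV]
  set a := (Q - 1) / Nat.gcd 2 (Q - 1) with ha
  set b := (Q + 1) / Nat.gcd 2 (Q - 1) with hb
  ext x
  simp only [Set.mem_image2, orders, Set.mem_setOf_eq, ← ha, ← hb, show Fintype.card F = Q from rfl]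
  constructor
  · rintro ⟨i, hi, j, hj, rfl⟩
    exact ⟨i, by tauto, j, by tauto, rfl⟩
  · rintro ⟨i, hi, j, hj, rfl⟩
    rcases hi with hi | hi | hi <;> rcases hj with hj | hj | hj
    · exact ⟨Nat.lcm i j, Or.inl (Nat.lcm_dvd hi hj), 1, Or.inl (one_dvd _), by rw [Nat.lcm_one_right]⟩
    · exact ⟨i, Or.inl hi, j, Or.inl hj, rfl⟩
    · exact ⟨i, Or.inl hi, j, Or.inr hj, rfl⟩
    · exact ⟨j, Or.inl hj, i, Or.inl hi, Nat.lcm_comm j i⟩
    · exact ⟨1, Or.inl (one_dvd _), Nat.lcm i j, Or.inl (Nat.lcm_dvd hi hj), by rw [Nat.lcm_one_left]⟩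
    · exact ⟨j, Or.inr hj, i, Or.inl hi, Nat.lcm_comm j i⟩
    · exact ⟨j, Or.inl hj, i, Or.inr hi, Nat.lcm_comm j i⟩
    · exact ⟨i, Or.inr hi, j, Or.inl hj, rfl⟩
    · exact ⟨i, Or.inr hi, j, Or.inr hj, rfl⟩

end CfsgLib.PrimRecog.PSLSquare
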