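import Cfsg.Agent.Lib.PrimRecog.Classes

/-! Affine primitive groups and counting derangement classes. -/
set_option autoImplicit false

namespace CfsgLib.PrimRecog

open MulAction

variable {G Ω : Type*} [Group G] [MulAction G Ω]

/-- An abelian minimal normal subgroup has prime exponent. -/
theorem exists_prime_exponent [Finite G] {N : Subgroup G} (hN : N.Normal) (hN1 : N ≠ ⊥)
    (hmin : ∀ M : Subgroup G, M.Normal → M ≤ N → M = ⊥ ∨ M = N) (hc : IsMulCommutative N) :
    ∃ r : ℕ, r.Prime ∧ ∀ n ∈ N, n ^ r = 1 := by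
  obtain ⟨x, hx⟩ := (N.ne_bot_iff_exists_ne_one).mp hN1
  obtain ⟨r, hr, hd⟩ := Nat.exists_prime_and_dvd (n := orderOf x) (fun h => hx (orderOf_eq_one_iff.mp h))
  let K : Subgroup G :=
    { carrier := {n | n ∈ N ∧ n ^ r = 1}
      one_mem' := ⟨N.one_mem, one_pow r⟩
      mul_mem' := by
        rintro a b ⟨ha, ha'⟩ ⟨hb, hb'⟩
        refine ⟨N.mul_mem ha hb, ?_⟩
        have : Commute a b := congrArg Subtype.val (hc.is_comm.comm ⟨a, ha⟩ ⟨b, hb⟩)
        rw [this.mul_pow, ha', hb', one_mul]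
      inv_mem' := by
        rintro a ⟨ha, ha'⟩
        exact ⟨N.inv_mem ha, by rw [inv_pow, ha', inv_one]⟩ }
  have hK : K.Normal := ⟨fun n hn g => ⟨hN.conj_mem n hn.1 g, by rw [conj_pow, hn.2]; simp⟩⟩
  rcases hmin K hK (fun n hn => hn.1) with h | h
  · exfalso
    have hy : (x : G) ^ (orderOf x / r) ∈ K := by
      refine ⟨N.pow_mem x.2 _, ?_⟩
      rw [← pow_mul, Nat.div_mul_cancel hd, ← Subgroup.orderOf_coe, pow_orderOf_eq_one]
    rw [h, Subgroup.mem_bot, ← Subgroup.coe_pow, OneMemClass.coe_eq_one] at hy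
    have h2 := Nat.le_of_dvd (Nat.div_pos (Nat.le_of_dvd (orderOf_pos x) hd) hr.pos)
      (orderOf_dvd_of_pow_eq_one hy)
    exact absurd h2 (not_le.mpr (Nat.div_lt_self (orderOf_pos x) hr.one_lt))
  · exact ⟨r, hr, fun n hn => (h.symm ▸ hn : n ∈ K).2⟩

/-- A transitive abelian subgroup of a faithful action is regular. -/
theorem stabilizer_eq_bot_of_comm [FaithfulSMul G Ω] {N : Subgroup G} (hN : IsPretransitive N Ω)
    (hc : IsMulCommutative N) (a : Ω) : stabilizer N a = ⊥ :=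
  (Subgroup.eq_bot_iff_forall _).mpr fun n hn => by
    by_contra h
    exact isDer_of_mem_comm hN hc n.2 (fun h' => h (Subtype.ext h')) a hn

lemma card_fixedBy_one : Nat.card (fixedBy Ω (1 : G)) = Nat.card Ω :=
  Nat.card_congr (Equiv.subtypeUnivEquiv (fun ω => one_smul _ ω))

lemma card_fixedBy_eq_zero_iff [Finite Ω] {g : G} :
    Nat.card (fixedBy Ω g) = 0 ↔ IsDer Ω g := by
  rw [Finite.card_eq_zero_iff, isEmpty_subtype]
  exact Iff.rfl

/-- If all elements outside a transitive subgroup have fixed points, each has exactly one. -/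
theorem fix_eq_one_of_transitive [Finite G] [Finite Ω] [Nonempty Ω] {N : Subgroup G}
    (hN : IsPretransitive N Ω) (hfix : ∀ g, g ∉ N → ¬ IsDer Ω g) :
    ∀ g, g ∉ N → Nat.card (fixedBy Ω g) = 1 := by
  classical
  have := Fintype.ofFinite G
  have htr : IsPretransitive G Ω := ⟨fun a b => by
    obtain ⟨⟨n, _⟩, hn⟩ := hN.exists_smul_eq a b
    exact ⟨n, hn⟩⟩
  have hall := CfsgLib.Maximal.sum_natCard_fixedBy_of_transitive (G := G) (Ω := Ω) htr
  have hNsum : ∑ g ∈ Finset.univ.filter (· ∈ N), Nat.card (fixedBy Ω g) =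
      (Finset.univ.filter (· ∈ N)).card := by
    rw [Finset.sum_subtype (Finset.univ.filter (· ∈ N)) (p := (· ∈ N)) (by simp)]
    rw [← Fintype.card_subtype]
    convert CfsgLib.Maximal.sum_natCard_fixedBy_of_transitive (G := N) (Ω := Ω) hN using 1
    exact Finset.sum_congr rfl fun _ _ => rfl
  rw [← Finset.sum_filter_add_sum_filter_not Finset.univ (· ∈ N), hNsum] at hall
  have hcard := Finset.card_filter_add_card_filter_not
    (s := (Finset.univ : Finset G)) (· ∈ N)
  rw [Finset.card_univ, ← hall, add_left_cancel_iff, Finset.card_eq_sum_ones] at hcard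
  intro g hg
  have hle : ∀ x ∈ Finset.univ.filter (fun x : G => x ∉ N), 1 ≤ Nat.card (fixedBy Ω x) := by
    intro x hx
    exact Nat.one_le_iff_ne_zero.mpr fun h =>
      hfix x (Finset.mem_filter.mp hx).2 (card_fixedBy_eq_zero_iff.mp h)
  exact (((Finset.sum_eq_sum_iff_of_le hle).mp hcard) g (by simp [hg])).symm

/-- A nontrivial element fixing two points, when all nontrivial elements fix at most one, is absurd. -/
lemma eq_one_of_fix_two [Finite Ω] (h : ∀ g : G, g ≠ 1 → Nat.card (fixedBy Ω g) ≤ 1) {g : G}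
    {a b : Ω} (hab : a ≠ b) (ha : g • a = a) (hb : g • b = b) : g = 1 := by
  by_contra hg
  have h2 : Nat.card (fixedBy Ω g) ≤ 1 := h g hg
  rw [Finite.card_le_one_iff_subsingleton] at h2
  exact hab (congrArg Subtype.val (h2.elim (⟨a, ha⟩ : fixedBy Ω g) ⟨b, hb⟩))

/-- Counting the derangements when nontrivial elements fix at most one point. -/
theorem card_isDer_of_fix_le_one [Finite G] [Finite Ω] [Nonempty Ω] (htr : IsPretransitive G Ω)
    (h : ∀ g : G, g ≠ 1 → Nat.card (fixedBy Ω g) ≤ 1) :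
    Nat.card {g : G // IsDer Ω g} + 1 = Nat.card Ω := by
  classical
  have := Fintype.ofFinite G
  have hall := CfsgLib.Maximal.sum_natCard_fixedBy_of_transitive (G := G) (Ω := Ω) htr
  have hpt : ∀ g : G, Nat.card (fixedBy Ω g) + (if IsDer Ω g then 1 else 0) =
      1 + (if g = 1 then Nat.card Ω - 1 else 0) := by
    intro g
    by_cases hd : IsDer Ω g
    · rw [if_pos hd, if_neg hd.ne_one, card_fixedBy_eq_zero_iff.mpr hd]
    · rw [if_neg hd]
      by_cases hg : g = 1
      · subst hg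
        rw [if_pos rfl, card_fixedBy_one]
        have : 0 < Nat.card Ω := Nat.card_pos
        omega
      · rw [if_neg hg]
        have h1 := h g hg
        have h0 : Nat.card (fixedBy Ω g) ≠ 0 := fun h0 => hd (card_fixedBy_eq_zero_iff.mp h0)
        omega
  have := Finset.sum_congr rfl (fun g (_ : g ∈ (Finset.univ : Finset G)) => hpt g)
  rw [Finset.sum_add_distrib, Finset.sum_add_distrib, hall, Finset.sum_boole,
    Finset.sum_ite_eq', if_pos (Finset.mem_univ _), ← Fintype.card_subtype,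
    ← Nat.card_eq_fintype_card (α := {g : G // IsDer Ω g})] at this
  simp only [Finset.sum_const, Finset.card_univ, smul_eq_mul, mul_one, Nat.cast_id] at this
  have h0 : 0 < Nat.card Ω := Nat.card_pos
  omega

/-- Conjugation on a regular abelian normal subgroup gives two-point homogeneity. -/
theorem twoTrans_of_isConj {N : Subgroup G} [FaithfulSMul G Ω] (hN : IsPretransitive N Ω)
    (hc : IsMulCommutative N) (hconj : ∀ x ∈ N, ∀ y ∈ N, x ≠ 1 → y ≠ 1 → IsConj x y) :
    IsMultiplyPretransitive G Ω 2 := by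
  rw [is_two_pretransitive_iff]
  intro a b c d hab hcd
  obtain ⟨⟨n₁, hn₁⟩, h1⟩ := hN.exists_smul_eq a b
  obtain ⟨⟨n₂, hn₂⟩, h2⟩ := hN.exists_smul_eq c d
  change n₁ • a = b at h1
  change n₂ • c = d at h2
  obtain ⟨g, hg⟩ := isConj_iff.mp (hconj n₁ hn₁ n₂ hn₂
    (fun h => hab (by rw [← h1, h, one_smul])) (fun h => hcd (by rw [← h2, h, one_smul])))
  obtain ⟨⟨m, hm⟩, hma⟩ := hN.exists_smul_eq (g • a) c
  change m • g • a = c at hma
  have hmn : m * n₂ = n₂ * m := congrArg Subtype.val (hc.is_comm.comm ⟨m, hm⟩ ⟨n₂, hn₂⟩)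
  refine ⟨m * g, by rw [mul_smul, hma], ?_⟩
  have : m * g * n₁ = n₂ * (m * g) := by
    rw [← mul_assoc, ← hmn, ← hg]
    group
  rw [← h1, ← mul_smul, this, mul_smul, mul_smul, hma, h2]

/-- The number of classes of derangements, as the statements write it. -/
lemma le_card_classes_three [Finite G] {x y z : G} (hx : IsDer Ω x) (hy : IsDer Ω y)
    (hz : IsDer Ω z) (hxy : ¬ IsConj x y) (hxz : ¬ IsConj x z) (hyz : ¬ IsConj y z) :
    3 ≤ Nat.card {c : ConjClasses G // ∃ g : G, ConjClasses.mk g = c ∧ ∀ ω : Ω, g • ω ≠ ω} := by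
  let f : Fin 3 → {c : ConjClasses G // ∃ g : G, ConjClasses.mk g = c ∧ ∀ ω : Ω, g • ω ≠ ω} :=
    ![⟨_, x, rfl, hx⟩, ⟨_, y, rfl, hy⟩, ⟨_, z, rfl, hz⟩]
  have hf : Function.Injective f := by
    intro i j h
    have h' := congrArg Subtype.val h
    fin_cases i <;> fin_cases j <;> first
      | rfl
      | exact absurd (ConjClasses.mk_eq_mk_iff_isConj.mp h') ‹_›
      | exact absurd (ConjClasses.mk_eq_mk_iff_isConj.mp h').symm ‹_›
  have := Nat.card_le_card_of_injective f hf
  simpa using this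

lemma card_classes_one_iff [Finite G] :
    Nat.card {c : ConjClasses G // ∃ g : G, ConjClasses.mk g = c ∧ ∀ ω : Ω, g • ω ≠ ω} = 1 ↔
      (∃ g : G, IsDer Ω g) ∧ ∀ x y : G, IsDer Ω x → IsDer Ω y → IsConj x y := by
  rw [Nat.card_eq_one_iff_unique]
  constructor
  · rintro ⟨hsub, ⟨⟨c, g, hg, hd⟩⟩⟩
    exact ⟨⟨g, hd⟩, fun x y hx hy => ConjClasses.mk_eq_mk_iff_isConj.mp (congrArg Subtype.val
      (hsub.elim (⟨_, x, rfl, hx⟩ : {c : ConjClasses G // ∃ g : G, ConjClasses.mk g = c ∧ ∀ ω : Ω, g • ω ≠ ω}) ⟨_, y, rfl, hy⟩))⟩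
  · rintro ⟨⟨g, hg⟩, h⟩
    refine ⟨⟨?_⟩, ⟨⟨_, g, rfl, hg⟩⟩⟩
    rintro ⟨_, x, rfl, hx⟩ ⟨_, y, rfl, hy⟩
    exact Subtype.ext (ConjClasses.mk_eq_mk_iff_isConj.mpr (h x y hx hy))

end CfsgLib.PrimRecog

namespace CfsgLib.PrimRecog

/-- Class equation for one class. -/
lemma card_class_mul {G : Type*} [Group G] [Finite G] (x : G) :
    Nat.card (MulAction.orbit (ConjAct G) x) * Nat.card (Subgroup.centralizer ({x} : Set G)) =
      Nat.card G := by
  rw [Subgroup.nat_card_centralizer_nat_card_stabilizer, ← Nat.card_prod]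
  exact (Nat.card_congr (MulAction.orbitProdStabilizerEquivGroup (ConjAct G) x)).trans
    (Nat.card_congr ConjAct.ofConjAct.toEquiv)

end CfsgLib.PrimRecog
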