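import Mathlib

/-! Affine maps over prime fields, pointwise. -/
set_option autoImplicit false

namespace CfsgLib.PrimRecog

/-- A bijection of a vector space over an odd prime field that respects affine ratios is affine. -/
theorem exists_affine_of_lines {p : ℕ} [Fact p.Prime] {d : ℕ} (hp : p ≠ 2)
    (σ : Equiv.Perm (Fin d → ZMod p))
    (h : ∀ a b : Fin d → ZMod p, ∀ s : ZMod p, σ (a + s • (b - a)) = σ a + s • (σ b - σ a)) :
    ∃ (A : (Fin d → ZMod p) ≃ₗ[ZMod p] (Fin d → ZMod p)) (c : Fin d → ZMod p), ∀ x, σ x = A x + c := by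
  set τ : (Fin d → ZMod p) → (Fin d → ZMod p) := fun x => σ x - σ 0 with hτ
  have hline : ∀ (a b : Fin d → ZMod p) (s : ZMod p), τ (a + s • (b - a)) = τ a + s • (τ b - τ a) := by
    intro a b s
    simp only [hτ]
    rw [h, sub_sub_sub_cancel_right]
    abel
  have h0 : τ 0 = 0 := sub_self _
  have hsmul : ∀ (s : ZMod p) x, τ (s • x) = s • τ x := by
    intro s x
    have := hline 0 x s
    rwa [zero_add, sub_zero, h0, zero_add, sub_zero] at this
  have h2 : (2 : ZMod p) ≠ 0 := by
    intro h2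
    have h2' : ((2 : ℕ) : ZMod p) = 0 := by simpa using h2
    rw [ZMod.natCast_eq_zero_iff] at h2'
    exact hp ((Nat.prime_dvd_prime_iff_eq Fact.out Nat.prime_two).mp h2')
  have hadd : ∀ a b, τ (a + b) = τ a + τ b := by
    intro a b
    have hab : a + b = (2 : ZMod p) • (a + (2 : ZMod p)⁻¹ • (b - a)) := by
      rw [smul_add, smul_smul, mul_inv_cancel₀ h2, one_smul, two_smul]
      abel
    rw [hab, hsmul, hline, smul_add, smul_smul, mul_inv_cancel₀ h2, one_smul, two_smul]
    abel
  let L : (Fin d → ZMod p) →ₗ[ZMod p] (Fin d → ZMod p) :=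
    { toFun := τ, map_add' := hadd, map_smul' := hsmul }
  have hbij : Function.Bijective L := (Finite.injective_iff_bijective).mp fun a b hab =>
    σ.injective (sub_left_inj.mp (hab : τ a = τ b))
  exact ⟨LinearEquiv.ofBijective L hbij, σ 0, fun x => (sub_add_cancel (σ x) (σ 0)).symm⟩

/-- Over the field with two elements, pairs of vectors with the same coincidences are equivalent. -/
theorem exists_linearEquiv_pair_two {d : ℕ} (u v u' v' : Fin d → ZMod 2) (hu : u = 0 ↔ u' = 0)
    (hv : v = 0 ↔ v' = 0) (huv : u = v ↔ u' = v') :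
    ∃ A : (Fin d → ZMod 2) ≃ₗ[ZMod 2] (Fin d → ZMod 2), A u = u' ∧ A v = v' := by
  classical
  have h01 : ∀ z : ZMod 2, z = 0 ∨ z = 1 := by decide
  -- equivalences for one vector
  have one : ∀ a a' : Fin d → ZMod 2, (a = 0 ↔ a' = 0) →
      ∃ A : (Fin d → ZMod 2) ≃ₗ[ZMod 2] (Fin d → ZMod 2), A a = a' := by
    intro a a' ha
    by_cases h : a = 0
    · exact ⟨LinearEquiv.refl _ _, by rw [h, ha.mp h]; rfl⟩
    have h' : a' ≠ 0 := fun e => h (ha.mpr e)
    obtain ⟨A, hA⟩ := Submodule.exists_linearEquiv_restrict_eq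
      ((LinearEquiv.toSpanNonzeroSingleton (ZMod 2) _ a h).symm.trans
        (LinearEquiv.toSpanNonzeroSingleton (ZMod 2) _ a' h'))
    refine ⟨A, ?_⟩
    rw [← hA ⟨a, Submodule.mem_span_singleton_self a⟩, LinearEquiv.trans_apply]
    have : (LinearEquiv.toSpanNonzeroSingleton (ZMod 2) _ a h).symm
        ⟨a, Submodule.mem_span_singleton_self a⟩ = 1 := by
      rw [LinearEquiv.symm_apply_eq, LinearEquiv.toSpanNonzeroSingleton_one]
    rw [this, LinearEquiv.toSpanNonzeroSingleton_one]
  by_cases hu0 : u = 0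
  · obtain ⟨A, hA⟩ := one v v' hv
    exact ⟨A, by rw [hu0, hu.mp hu0, map_zero], hA⟩
  by_cases hv0 : v = 0
  · obtain ⟨A, hA⟩ := one u u' hu
    exact ⟨A, hA, by rw [hv0, hv.mp hv0, map_zero]⟩
  by_cases he : u = v
  · obtain ⟨A, hA⟩ := one u u' hu
    exact ⟨A, hA, by rw [← he, hA, huv.mp he]⟩
  have li : ∀ a b : Fin d → ZMod 2, a ≠ 0 → b ≠ 0 → a ≠ b → LinearIndependent (ZMod 2) ![a, b] := by
    intro a b ha hb hab
    rw [LinearIndependent.pair_iff]
    intro s t hst
    rcases h01 s with rfl | rfl <;> rcases h01 t with rfl | rfl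
    · exact ⟨rfl, rfl⟩
    · exact absurd (by simpa using hst) hb
    · exact absurd (by simpa using hst) ha
    · refine absurd ?_ hab
      rw [one_smul, one_smul, add_eq_zero_iff_eq_neg] at hst
      rw [hst]
      funext i
      exact ZMod.neg_eq_self_mod_two _
  have l1 := li u v hu0 hv0 he
  have l2 := li u' v' (fun e => hu0 (hu.mpr e)) (fun e => hv0 (hv.mpr e)) (fun e => he (huv.mpr e))
  let b1 := Module.Basis.span l1
  let b2 := Module.Basis.span l2
  obtain ⟨A, hA⟩ := Submodule.exists_linearEquiv_restrict_eq (b1.equiv b2 (Equiv.refl _))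
  refine ⟨A, ?_, ?_⟩
  · have := hA (b1 0)
    rw [Module.Basis.equiv_apply, Equiv.refl_apply, Module.Basis.span_apply, Module.Basis.span_apply] at this
    exact this.symm
  · have := hA (b1 1)
    rw [Module.Basis.equiv_apply, Equiv.refl_apply, Module.Basis.span_apply, Module.Basis.span_apply] at this
    exact this.symm

end CfsgLib.PrimRecog
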