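import Mathlib
import Cfsg.Agent.Lib.PermGroup.Basic
import Cfsg.Agent.Lib.Structure.MinimalNormal
import Cfsg.Agent.Lib.Frobenius.Theorem

/-! Burnside: minimal normal subgroups of doubly transitive groups. -/
set_option autoImplicit false

namespace CfsgLib.PrimRecog.BurnsideMinimal

open MulAction
open scoped Pointwise

variable {G X : Type*} [Group G] [MulAction G X]

/-- A transitive group acting semiregularly on pairs, with a commuting transitive normal subgroup:
general semiregularity. -/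
lemma eq_of_commute {N : Type*} [Group N] [MulAction N X] [FaithfulSMul N X] {A : Subgroup N}
    (hA : IsPretransitive A X) {u v : N} (hu : ∀ x ∈ A, Commute x u) (hv : ∀ x ∈ A, Commute x v)
    {a : X} (h : u • a = v • a) : u = v := by
  refine eq_of_smul_eq_smul (α := X) fun y => ?_
  obtain ⟨⟨x, hx⟩, rfl⟩ := hA.exists_smul_eq a y
  show u • x • a = v • x • a
  rw [← mul_smul, ← (hu x hx).eq, mul_smul, h, ← mul_smul, (hv x hx).eq, mul_smul]

/-- A normal subgroup of a doubly transitive group that is not regular is primitive, provided it is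
minimal normal. -/
theorem primitive_of_minimal [Finite G] [Finite X] [FaithfulSMul G X]
    (h2 : IsMultiplyPretransitive G X 2) (N : Subgroup G) [N.Normal] (hN : N ≠ ⊥)
    (hmin : ∀ M : Subgroup G, M.Normal → M ≤ N → M = ⊥ ∨ M = N)
    (hnr : ∃ a : X, stabilizer N a ≠ ⊥) : IsPreprimitive N X := by
  classical
  have h1 : IsPreprimitive G X := isPreprimitive_of_is_two_pretransitive h2
  have hNt : IsPretransitive N X := CfsgLib.PermGroup.isPretransitive_of_normal hN
  by_contra hnp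
  -- a smallest non-trivial block
  have hex : ∃ m, ∃ B : Set X, IsBlock N B ∧ ¬ B.Subsingleton ∧ B ≠ Set.univ ∧ B.ncard = m := by
    by_contra h
    push Not at h
    refine hnp { hNt with isTrivialBlock_of_isBlock := fun {B} hB => ?_ }
    by_contra hT
    obtain ⟨h1, h2⟩ := not_or.mp hT
    exact h B.ncard B hB (Set.not_subsingleton_iff.mp h1) h2 rfl
  obtain ⟨B, hB, hBs, hBu, hBm⟩ := Nat.find_spec hex
  have hmin' : ∀ C : Set X, IsBlock N C → ¬ C.Subsingleton → C ≠ Set.univ → B.ncard ≤ C.ncard :=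
    fun C hC hCs hCu => hBm ▸ Nat.find_min' hex ⟨C, hC, hCs, hCu, rfl⟩
  -- the lines
  have hline : ∀ g : G, IsBlock N (g • B) := by
    intro g
    rw [isBlock_iff_smul_eq_or_disjoint]
    intro m
    have hm : g⁻¹ * (m : G) * g ∈ N := by simpa using Subgroup.Normal.conj_mem ‹N.Normal› _ m.2 g⁻¹
    have e : m • g • B = g • (⟨_, hm⟩ : N) • B := by
      show (m : G) • g • B = g • (g⁻¹ * (m : G) * g) • B
      rw [← mul_smul, ← mul_smul]; group
    rw [e]
    rcases isBlock_iff_smul_eq_or_disjoint.mp hB (⟨_, hm⟩ : N) with h | h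
    · exact Or.inl (by rw [h])
    · exact Or.inr ((Set.disjoint_image_iff (MulAction.injective g)).mpr h)
  have huniq : ∀ g g' : G, ∀ x y : X, x ≠ y → x ∈ g • B → y ∈ g • B → x ∈ g' • B → y ∈ g' • B → g • B = g' • B := by
    intro g g' x y hxy hx hy hx' hy'
    have hns : ¬ (g • B ∩ g' • B).Subsingleton := fun h => hxy (h ⟨hx, hx'⟩ ⟨hy, hy'⟩)
    have hnu : g • B ∩ g' • B ≠ Set.univ := fun h => hBu (by
      have : g • B = Set.univ := Set.eq_univ_of_univ_subset (h ▸ Set.inter_subset_left)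
      rw [← inv_smul_smul g B, this, Set.smul_set_univ])
    have hle := hmin' _ ((hline g).inter (hline g')) hns hnu
    have e1 := Set.eq_of_subset_of_ncard_le (Set.inter_subset_left (s := g • B) (t := g' • B))
      (by rw [Set.ncard_smul_set]; exact hle) (Set.toFinite _)
    have e2 := Set.eq_of_subset_of_ncard_le (Set.inter_subset_right (s := g • B) (t := g' • B))
      (by rw [Set.ncard_smul_set]; exact hle) (Set.toFinite _)
    exact e1.symm.trans e2
  obtain ⟨b₀, hb₀, b₁, hb₁, hb01⟩ := Set.not_subsingleton_iff.mp hBs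
  have hjoin : ∀ x y : X, x ≠ y → ∃ g : G, x ∈ g • B ∧ y ∈ g • B := by
    intro x y hxy
    obtain ⟨g, rfl, rfl⟩ := is_two_pretransitive_iff.mp h2 hb01 hxy
    exact ⟨g, Set.smul_mem_smul_set hb₀, Set.smul_mem_smul_set hb₁⟩
  have hfixline : ∀ (h : N) (x : X), h • x = x → ∀ g : G, x ∈ g • B → ∀ y ∈ g • B, h • y ∈ g • B := by
    intro h x hx g hxg y hy
    rw [← (hline g).smul_eq_of_mem hxg (show h • x ∈ g • B by rw [hx]; exact hxg)]
    exact Set.smul_mem_smul_set hy
  -- off a line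
  have hoff : ∀ (h : N) (x y : X), x ≠ y → h • x = x → h • y = y → ∀ g : G, x ∈ g • B → y ∈ g • B →
      ∀ z, z ∉ g • B → h • z = z := by
    intro h x y hxy hhx hhy g hxg hyg z hz
    by_contra hne
    have hxz : x ≠ z := fun e => hz (e ▸ hxg)
    have hyz : y ≠ z := fun e => hz (e ▸ hyg)
    obtain ⟨g₁, hx1, hz1⟩ := hjoin x z hxz
    obtain ⟨g₂, hy2, hz2⟩ := hjoin y z hyz
    have e12 := huniq g₁ g₂ (h • z) z hne (hfixline h x hhx g₁ hx1 z hz1) hz1
      (hfixline h y hhy g₂ hy2 z hz2) hz2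
    have e := huniq g g₁ x y hxy hxg hyg hx1 (e12 ▸ hy2)
    exact hz (e ▸ hz1)
  have htwo : ∀ (h : N) (x y : X), x ≠ y → h • x = x → h • y = y → h = 1 := by
    intro h x y hxy hhx hhy
    obtain ⟨g, hxg, hyg⟩ := hjoin x y hxy
    obtain ⟨z, hz⟩ : ∃ z, z ∉ g • B := by
      by_contra hc
      push Not at hc
      exact hBu (by rw [← inv_smul_smul g B, Set.eq_univ_of_forall hc, Set.smul_set_univ])
    refine eq_of_smul_eq_smul (α := X) fun w => ?_
    rw [one_smul]
    by_cases hw : w ∈ g • B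
    · by_cases hwx : w = x
      · rw [hwx, hhx]
      have hxz : x ≠ z := fun e => hz (e ▸ hxg)
      obtain ⟨g₁, hx1, hz1⟩ := hjoin x z hxz
      refine hoff h x z hxz hhx (hoff h x y hxy hhx hhy g hxg hyg z hz) g₁ hx1 hz1 w fun hw1 => ?_
      exact hz ((huniq g g₁ x w (Ne.symm hwx) hxg hw hx1 hw1) ▸ hz1)
    · exact hoff h x y hxy hhx hhy g hxg hyg w hw
  -- a Frobenius group
  obtain ⟨a, ha⟩ := hnr
  set H := stabilizer N a with hHdef
  have hmemH : ∀ h : N, h ∈ H ↔ h • a = a := fun h => mem_stabilizer_iff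
  have hHtop : H ≠ ⊤ := by
    intro htop
    obtain ⟨b, hb⟩ : ∃ b, b ≠ a := by
      by_contra hc
      push Not at hc
      exact hb01 (by rw [hc b₀, hc b₁])
    obtain ⟨h, hh⟩ := hNt.exists_smul_eq a b
    exact hb (by rw [← hh, (hmemH h).mp (htop.symm ▸ Subgroup.mem_top h)])
  have hconj : ∀ (g x : N), x ∈ MulAut.conj g • H ↔ x • g • a = g • a := by
    intro g x
    rw [Subgroup.mem_pointwise_smul_iff_inv_smul_mem, ← map_inv, MulAut.smul_def, MulAut.conj_apply, inv_inv,
      hmemH, mul_smul, mul_smul, inv_smul_eq_iff]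
  have hF : Cfsg.IsFrobeniusComplement H := by
    refine ⟨ha, hHtop, fun g hg => ?_⟩
    rw [eq_bot_iff]
    intro x hx
    obtain ⟨hx1, hx2⟩ := Subgroup.mem_inf.mp hx
    exact Subgroup.mem_bot.mpr (htwo x a (g • a) (fun e => hg ((hmemH g).mpr e.symm)) ((hmemH x).mp hx1)
      ((hconj g x).mp hx2))
  obtain ⟨K, hK, hKn, hKc⟩ := CfsgLib.Frobenius.exists_normal_kernel hF
  have hKmem : ∀ x : N, x ∈ K ↔ x = 1 ∨ ∀ b : X, x • b ≠ b := by
    intro x
    rw [← SetLike.mem_coe, hK]
    refine or_congr Iff.rfl ⟨fun h b hb => ?_, fun h g hg => h (g • a) ((hconj g x).mp hg)⟩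
    obtain ⟨g, rfl⟩ := hNt.exists_smul_eq a b
    exact h g ((hconj g x).mpr hb)
  have hK' : (K.map N.subtype).Normal := ⟨by
    rintro _ ⟨x, hx, rfl⟩ g
    refine ⟨⟨g * x * g⁻¹, Subgroup.Normal.conj_mem ‹N.Normal› _ x.2 g⟩, (hKmem _).mpr ?_, rfl⟩
    rcases (hKmem x).mp hx with rfl | h
    · left; exact Subtype.ext (by simp)
    · refine Or.inr fun b hb => h (g⁻¹ • b) ?_
      have hb' : (g * (x : G) * g⁻¹) • b = b := hb
      rw [mul_smul, mul_smul] at hb'
      show (x : G) • g⁻¹ • b = g⁻¹ • b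
      rw [eq_inv_smul_iff, hb']⟩
  rcases hmin _ hK' (Subgroup.map_subtype_le K) with h | h
  · rw [Subgroup.map_eq_bot_iff_of_injective _ N.subtype_injective] at h
    rw [h] at hKc
    exact hHtop (Subgroup.isComplement'_bot_left.mp hKc)
  · have htop : K = ⊤ := Subgroup.map_injective N.subtype_injective
      (h.trans (by rw [← MonoidHom.range_eq_map, Subgroup.range_subtype]))
    refine ha ((Subgroup.eq_bot_iff_forall _).mpr fun x hx => ?_)
    rcases (hKmem x).mp (htop.symm ▸ Subgroup.mem_top x) with h1 | h1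
    · exact h1
    · exact absurd ((hmemH x).mp hx) (h1 a)

/-- A non-regular minimal normal subgroup of a doubly transitive group is simple. -/
theorem simple_of_minimal [Finite G] [Finite X] [FaithfulSMul G X]
    (h2 : IsMultiplyPretransitive G X 2) (N : Subgroup G) [N.Normal] (hN : N ≠ ⊥)
    (hmin : ∀ M : Subgroup G, M.Normal → M ≤ N → M = ⊥ ∨ M = N)
    (hnr : ∃ a : X, stabilizer N a ≠ ⊥) : IsSimpleGroup N := by
  classical
  have hprim := primitive_of_minimal h2 N hN hmin hnr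
  have hNmin : CfsgLib.Structure.IsMinNormal N := ⟨hN, ‹N.Normal›, hmin⟩
  have hsoc := hNmin.socle_eq_top
  have : Nontrivial N := (Subgroup.nontrivial_iff_ne_bot N).mpr hN
  obtain ⟨M, hM⟩ := CfsgLib.Structure.exists_isMinNormal (G := N)
  by_cases hMtop : M = ⊤
  · exact { eq_bot_or_eq_top_of_normal := fun K hK =>
      (hM.2.2 K hK (hMtop ▸ le_top)).imp_right (·.trans hMtop) }
  exfalso
  obtain ⟨M', hM', hne⟩ : ∃ M', CfsgLib.Structure.IsMinNormal M' ∧ M' ≠ M := by
    by_contra h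
    push Not at h
    refine hMtop (top_le_iff.mp (hsoc ▸ sSup_le fun A hA => (h A hA).le))
  have hMt : ∀ A : Subgroup N, CfsgLib.Structure.IsMinNormal A → IsPretransitive A X := fun A hA => by
    have := hA.normal
    exact CfsgLib.PermGroup.isPretransitive_of_normal hA.ne_bot
  obtain ⟨a, ha⟩ := hnr
  -- a minimal normal subgroup commuting with `M` lies in `M'`
  have hinto : ∀ c : N, (∀ x ∈ M, Commute x c) → c ∈ M' := by
    intro c hc
    obtain ⟨⟨m, hm⟩, hma⟩ := (hMt M' hM').exists_smul_eq a (c • a)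
    have hma' : m • a = c • a := hma
    rw [← eq_of_commute (hMt M hM) (fun x hx => hM.commute hM' hne.symm x hx m hm) hc hma']
    exact hm
  have honly : ∀ A, CfsgLib.Structure.IsMinNormal A → A ≤ M ⊔ M' := by
    intro A hA
    by_cases hAM : A = M
    · exact hAM ▸ le_sup_left
    · exact le_trans (fun c hc => hinto c fun x hx => (hA.commute hM hAM c hc x hx).symm) le_sup_right
  have hsupN : M ⊔ M' = ⊤ := top_le_iff.mp (hsoc ▸ sSup_le honly)
  have hdec : ∀ x : N, ∃ u ∈ M, ∃ v ∈ M', u * v = x := by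
    intro x
    have := hM.normal
    exact Subgroup.mem_sup_of_normal_left.mp (hsupN.symm ▸ Subgroup.mem_top x)
  have hMnc : ∃ z ∈ M, ∃ w ∈ M, z * w ≠ w * z := by
    by_contra h
    push Not at h
    have hle : M ≤ M' := fun c hc => hinto c fun x hx => h x hx c hc
    exact hne (hM'.eq_of_le hM.normal hle hM.ne_bot).symm
  have hsimple : IsSimpleGroup M := hNmin.isSimpleGroup_minNormal hM
  have hcenter : Subgroup.center M = ⊥ := (IsSimpleGroup.eq_bot_or_eq_top_of_normal _ inferInstance).resolve_right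
    fun h => by
      obtain ⟨z, hz, w, hw, hzw⟩ := hMnc
      have := Subgroup.mem_center_iff.mp (h.symm ▸ Subgroup.mem_top (⟨w, hw⟩ : M)) ⟨z, hz⟩
      exact hzw (congrArg Subtype.val this)
  -- orbits of the point stabilizer and conjugacy classes
  set H := stabilizer N a with hHdef
  have hclass : ∀ m : M, Nat.card (ConjClasses.mk m).carrier = (orbit H ((m : N) • a)).ncard := by
    intro m
    rw [Nat.card_coe_set_eq]
    refine (Set.ncard_congr (fun y _ => (y : N) • a) ?_ ?_ ?_)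
    · intro y hy
      obtain ⟨u, hu⟩ := isConj_iff.mp (ConjClasses.mk_eq_mk_iff_isConj.mp (ConjClasses.mem_carrier_iff_mk_eq.mp hy)).symm
      obtain ⟨⟨v, hv⟩, hva⟩ := (hMt M' hM').exists_smul_eq a ((u : N)⁻¹ • a)
      have hva' : v • a = (u : N)⁻¹ • a := hva
      have hx : (u : N) * v ∈ H := by
        rw [hHdef, mem_stabilizer_iff, mul_smul, hva', smul_inv_smul]
      refine ⟨⟨_, hx⟩, ?_⟩
      show ((u : N) * v) • (m : N) • a = (y : N) • a
      rw [← hu, ← mul_smul, mul_assoc, ← (hM.commute hM' hne.symm _ m.2 v hv).eq]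
      show ((u : N) * ((m : N) * v)) • a = ((u : N) * m * (u : N)⁻¹) • a
      rw [← mul_assoc, mul_smul, hva', ← mul_smul]
    · intro y z _ _ e
      exact Subtype.ext (eq_of_commute (hMt M' hM')
        (fun x hx => (hM.commute hM' hne.symm _ y.2 x hx).symm)
        (fun x hx => (hM.commute hM' hne.symm _ z.2 x hx).symm) e)
    · rintro _ ⟨⟨x, hx⟩, rfl⟩
      obtain ⟨u, hu, v, hv, rfl⟩ := hdec x
      refine ⟨(⟨u, hu⟩ : M) * m * (⟨u, hu⟩ : M)⁻¹, ?_, ?_⟩
      · rw [ConjClasses.mem_carrier_iff_mk_eq, ConjClasses.mk_eq_mk_iff_isConj]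
        exact (isConj_iff.mpr ⟨(⟨u, hu⟩ : M), rfl⟩).symm
      · show (u * (m : N) * u⁻¹) • a = (u * v) • (m : N) • a
        rw [← mul_smul, mul_assoc u v, ← (hM.commute hM' hne.symm _ m.2 v hv).eq, ← mul_assoc,
          mul_smul (u * (m : N)) v, mul_smul (u * (m : N))]
        congr 1
        rw [inv_smul_eq_iff, ← mul_smul]
        exact (hx : (u * v) • a = a).symm
  have hsame : ∀ y z : X, y ≠ a → z ≠ a → (orbit H y).ncard = (orbit H z).ncard := by
    intro y z hy hz
    obtain ⟨g, hga, hgy⟩ := is_two_pretransitive_iff.mp h2 hy.symm hz.symm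
    have key : ∀ k : G, k • a = a → ∀ x : N, x ∈ H →
        (⟨k * (x : G) * k⁻¹, Subgroup.Normal.conj_mem ‹N.Normal› _ x.2 k⟩ : N) ∈ H := by
      intro k hk x hx
      show (k * (x : G) * k⁻¹) • a = a
      rw [mul_smul, mul_smul, inv_smul_eq_iff.mpr hk.symm, show (x : G) • a = a from hx, hk]
    have : orbit H z = g • orbit H y := by
      rw [← hgy]
      ext w
      constructor
      · rintro ⟨⟨x, hx⟩, rfl⟩
        have hx' := key g⁻¹ (inv_smul_eq_iff.mpr hga.symm) x hx
        refine ⟨(g⁻¹ * (x : G) * g⁻¹⁻¹) • y, ⟨(⟨_, hx'⟩ : H), rfl⟩, ?_⟩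
        rw [inv_inv]
        show g • (g⁻¹ * (x : G) * g) • y = (x : G) • g • y
        rw [← mul_smul, ← mul_smul]; group
      · rintro ⟨_, ⟨⟨x, hx⟩, rfl⟩, rfl⟩
        refine ⟨⟨_, key g hga x hx⟩, ?_⟩
        show (g * (x : G) * g⁻¹) • g • y = g • (x : G) • y
        rw [mul_smul, inv_smul_smul, mul_smul]
    rw [this, Set.ncard_smul_set]
  obtain ⟨m₁, hm₁, hm₁1⟩ := (Subgroup.bot_or_exists_ne_one M).resolve_left hM.ne_bot
  have hmove : ∀ m : M, m ≠ 1 → (m : N) • a ≠ a := fun m hm e => hm (Subtype.ext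
    (eq_of_commute (hMt M' hM') (fun x hx => (hM.commute hM' hne.symm _ m.2 x hx).symm)
      (fun x _ => Commute.one_right x) (a := a) (by simpa using e)))
  set s := (orbit H (m₁ • a)).ncard
  have hs : ∀ m : M, m ≠ 1 → Nat.card (ConjClasses.mk m).carrier = s := fun m hm => by
    rw [hclass m]
    exact hsame _ _ (hmove m hm) (hmove ⟨m₁, hm₁⟩ (fun e => hm₁1 (congrArg Subtype.val e)))
  have hsdvd : s ∣ Nat.card M := by
    have hm : (⟨m₁, hm₁⟩ : M) ≠ 1 := fun e => hm₁1 (congrArg Subtype.val e)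
    rw [← hs _ hm, ← Subgroup.index_mul_card (Subgroup.centralizer ({(⟨m₁, hm₁⟩ : M)} : Set M))]
    refine Dvd.dvd.mul_right (dvd_of_eq ?_) _
    show _ = (Subgroup.centralizer ({ConjAct.toConjAct (⟨m₁, hm₁⟩ : M)} : Set (ConjAct M))).index
    rw [ConjAct.stabilizer_eq_centralizer (⟨m₁, hm₁⟩ : M) |>.symm, index_stabilizer,
      ← ConjAct.orbit_eq_carrier_conjClasses, Nat.card_coe_set_eq]

  have hsum : Nat.card M = 1 + ((Nat.card (ConjClasses M)) - 1) * s := by
    have := Fintype.ofFinite M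
    have := Fintype.ofFinite (ConjClasses M)
    rw [Nat.card_congr (Equiv.sigmaFiberEquiv (ConjClasses.mk : M → ConjClasses M)).symm, Nat.card_sigma,
      ← Finset.add_sum_erase _ _ (Finset.mem_univ (1 : ConjClasses M))]
    congr 1
    · rw [Nat.card_eq_one_iff_unique]
      refine ⟨⟨fun x y => Subtype.ext ?_⟩, ⟨⟨1, rfl⟩⟩⟩
      have h : ∀ z : {z : M // ConjClasses.mk z = 1}, z.1 = 1 := fun z => by
        have := ConjClasses.mk_eq_mk_iff_isConj.mp (z.2.trans (ConjClasses.one_eq_mk_one (α := M)))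
        exact isConj_one_left.mp this
      rw [h x, h y]
    · rw [Finset.sum_congr rfl (g := fun _ => s), Finset.sum_const, smul_eq_mul,
        Finset.card_erase_of_mem (Finset.mem_univ _), Finset.card_univ, Nat.card_eq_fintype_card]
      intro C hC
      obtain ⟨m, rfl⟩ := ConjClasses.mk_surjective C
      rw [← hs m (fun e => (Finset.mem_erase.mp hC).1 (by rw [e]; rfl))]
      exact Nat.card_congr (Equiv.subtypeEquivRight fun z => ConjClasses.mem_carrier_iff_mk_eq.symm)
  have hs1 : s = 1 := by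
    have h : s ∣ 1 := by
      have h' := hsdvd
      rw [hsum] at h'
      exact (Nat.dvd_add_left (dvd_mul_left s _)).mp h'
    exact Nat.dvd_one.mp h
  have hm : (⟨m₁, hm₁⟩ : M) ∈ Subgroup.center M := Subgroup.mem_center_iff.mpr fun z => by
    have h := hs _ (show (⟨m₁, hm₁⟩ : M) ≠ 1 from fun e => hm₁1 (congrArg Subtype.val e))
    rw [hs1, Nat.card_eq_one_iff_unique] at h
    obtain ⟨⟨hsub⟩, -⟩ := h
    have h1 : z * ⟨m₁, hm₁⟩ * z⁻¹ ∈ (ConjClasses.mk (⟨m₁, hm₁⟩ : M)).carrier := by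
      rw [ConjClasses.mem_carrier_iff_mk_eq, ConjClasses.mk_eq_mk_iff_isConj]
      exact (isConj_iff.mpr ⟨z, rfl⟩).symm
    have := congrArg Subtype.val (hsub ⟨_, h1⟩ ⟨_, ConjClasses.mem_carrier_mk⟩)
    exact mul_inv_eq_iff_eq_mul.mp this
  rw [hcenter, Subgroup.mem_bot] at hm
  exact hm₁1 (congrArg Subtype.val hm)

end CfsgLib.PrimRecog.BurnsideMinimal
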