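import Cfsg.Agent.Lib.PrimRecog.Factor

/-! Derangement classes of primitive groups which are neither affine nor almost simple. -/
set_option autoImplicit false

namespace CfsgLib.PrimRecog

open MulAction

variable {G Ω : Type*} [Group G] [Finite G] [MulAction G Ω] [FaithfulSMul G Ω]

/-- Almost simple: a non-abelian simple normal subgroup with trivial centralizer. -/
def IsAS (G : Type*) [Group G] : Prop :=
  ∃ T : Subgroup G, T.Normal ∧ IsSimpleGroup T ∧ ¬ IsMulCommutative T ∧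
    Subgroup.centralizer (T : Set G) = ⊥

omit [Finite G] [MulAction G Ω] [FaithfulSMul G Ω] in
lemma center_trivial_of_simple {N : Subgroup G} (hs : IsSimpleGroup N) (hna : ¬ IsMulCommutative N)
    (x : N) (hx : ∀ y, x * y = y * x) : x = 1 := by
  rcases hs.eq_bot_or_eq_top_of_normal (Subgroup.center N) inferInstance with h | h
  · exact Subgroup.mem_bot.mp (h ▸ Subgroup.mem_center_iff.mpr fun y => (hx y).symm)
  · exact absurd ⟨⟨fun a b => (Subgroup.mem_center_iff.mp (h ▸ Subgroup.mem_top a) b).symm⟩⟩ hna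

/-- With a simple minimal normal subgroup and no almost simplicity, two disjoint normal subgroups
consist of derangements. -/
lemma simple_case (hprim : IsPreprimitive G Ω) {N : Subgroup G} (hN : N.Normal) (hs : IsSimpleGroup N)
    (hna : ¬ IsMulCommutative N) (hnas : ¬ IsAS G) :
    ∃ M : Subgroup G, M.Normal ∧ M ≠ ⊥ ∧ (∀ x ∈ M, x ∈ N → x = 1) ∧
      (∀ x ∈ N, x ≠ 1 → IsDer Ω x) ∧ (∀ x ∈ M, x ≠ 1 → IsDer Ω x) := by
  have := hN
  refine ⟨Subgroup.centralizer (N : Set G), inferInstance, fun h => hnas ⟨N, hN, hs, hna, h⟩, ?_, ?_, ?_⟩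
  · intro x hx hxN
    exact congrArg Subtype.val (center_trivial_of_simple hs hna ⟨x, hxN⟩
      fun y => Subtype.ext (Subgroup.mem_centralizer_iff.mp hx y y.2).symm)
  · intro x hx
    exact isDer_of_commute (transitive_of_normal hprim (N := Subgroup.centralizer (N : Set G))
      inferInstance (fun h => hnas ⟨N, hN, hs, hna, h⟩))
      (fun m hm => (Subgroup.mem_centralizer_iff.mp hm x hx).symm)
  · intro x hx
    have : Nontrivial N := hs.toNontrivial
    exact isDer_of_commute (transitive_of_normal hprim hN ((Subgroup.nontrivial_iff_ne_bot N).mp this))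
      (fun m hm => Subgroup.mem_centralizer_iff.mp hx m hm)

/-- A semiregular factor still leaves a derangement with both components nontrivial. -/
lemma IsFactor.exists_mul_isDer [Nonempty Ω] {N T : Subgroup G} (hT : IsFactor N T)
    (htr : IsPretransitive N Ω) (hsemi : ∀ t ∈ T, t ≠ 1 → IsDer Ω t) :
    ∃ t ∈ T, ∃ c ∈ coFactor N T, t ≠ 1 ∧ c ≠ 1 ∧ IsDer Ω (t * c) := by
  by_contra hne
  push Not at hne
  have hfix : ∀ t ∈ T, ∀ c ∈ coFactor N T, t ≠ 1 → c ≠ 1 → ∃ ω : Ω, (t * c) • ω = ω :=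
    fun t ht c hc h1 h2 => not_isDer_iff.mp (hne t ht c hc h1 h2)
  obtain ⟨ω₀⟩ := ‹Nonempty Ω›
  -- conjugate fixed points back to the base point
  have hback : ∀ t ∈ T, ∀ c ∈ coFactor N T, t ≠ 1 → c ≠ 1 → ∃ x ∈ T, ∃ y ∈ coFactor N T,
      (x⁻¹ * t * x * (y⁻¹ * c * y)) • ω₀ = ω₀ := by
    intro t ht c hc h1 h2
    obtain ⟨ω, hω⟩ := hfix t ht c hc h1 h2
    obtain ⟨⟨n, hn⟩, hnω⟩ := htr.exists_smul_eq ω₀ ω
    change n • ω₀ = ω at hnω
    obtain ⟨x, hx, y, hy, rfl⟩ := hT.decomp n hn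
    refine ⟨x, hx, y, hy, ?_⟩
    have hxa : x⁻¹ * t * x ∈ T := T.mul_mem (T.mul_mem (T.inv_mem hx) ht) hx
    have heq : x⁻¹ * t * x * (y⁻¹ * c * y) = (x * y)⁻¹ * (t * c) * (x * y) := by
      have h1 : x⁻¹ * t * x * y⁻¹ = y⁻¹ * (x⁻¹ * t * x) :=
        coFactor_comm hxa (Subgroup.inv_mem _ hy)
      calc x⁻¹ * t * x * (y⁻¹ * c * y) = (x⁻¹ * t * x * y⁻¹) * c * y := by simp [mul_assoc]
        _ = y⁻¹ * (x⁻¹ * t) * (x * c) * y := by rw [h1]; simp [mul_assoc]
        _ = _ := by rw [coFactor_comm hx hc]; simp [mul_assoc]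
    rw [heq, mul_smul, mul_smul, hnω, hω, inv_smul_eq_iff, hnω]
  -- the elements of the centralizer that are projections from the stabilizer
  let Q : Subgroup G :=
    { carrier := {c | c ∈ coFactor N T ∧ ∃ a ∈ T, (a * c) • ω₀ = ω₀}
      one_mem' := ⟨one_mem _, 1, T.one_mem, by simp⟩
      mul_mem' := by
        rintro c d ⟨hc, a, ha, hac⟩ ⟨hd, b, hb, hbd⟩
        refine ⟨Subgroup.mul_mem _ hc hd, a * b, T.mul_mem ha hb, ?_⟩
        have : a * b * (c * d) = (a * c) * (b * d) := by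
          rw [mul_assoc a c, ← mul_assoc c b, ← coFactor_comm hb hc]
          simp [mul_assoc]
        rw [this, mul_smul, hbd, hac]
      inv_mem' := by
        rintro c ⟨hc, a, ha, hac⟩
        refine ⟨Subgroup.inv_mem _ hc, a⁻¹, T.inv_mem ha, ?_⟩
        rw [← mul_inv_rev, ← coFactor_comm ha hc, inv_smul_eq_iff, hac] }
  obtain ⟨s, hs, hs1⟩ : ∃ s ∈ T, s ≠ 1 := (T.ne_bot_iff_exists_ne_one).mp hT.ne |>.elim
    fun s hs => ⟨s, s.2, fun h => hs (Subtype.ext h)⟩
  have hQ : coFactor N T ≤ Q := by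
    by_contra hQ
    obtain ⟨b, hb, hbc⟩ := exists_not_conj_mem hQ
    have hb1 : b ≠ 1 := by
      rintro rfl
      exact hbc 1 (one_mem _) (by simpa using Q.one_mem)
    obtain ⟨x, hx, y, hy, hfx⟩ := hback s hs b hb hs1 hb1
    exact hbc y hy ⟨Subgroup.mul_mem _ (Subgroup.mul_mem _ (Subgroup.inv_mem _ hy) hb) hy,
      _, T.mul_mem (T.mul_mem (T.inv_mem hx) hs) hx, hfx⟩
  have hP : ∀ u ∈ T, ∃ c ∈ coFactor N T, (u * c) • ω₀ = ω₀ := by
    intro u hu
    by_contra hu'
    let P : Subgroup G :=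
      { carrier := {a | a ∈ T ∧ ∃ c ∈ coFactor N T, (a * c) • ω₀ = ω₀}
        one_mem' := ⟨T.one_mem, 1, one_mem _, by simp⟩
        mul_mem' := by
          rintro a b ⟨ha, c, hc, hac⟩ ⟨hb, d, hd, hbd⟩
          refine ⟨T.mul_mem ha hb, c * d, Subgroup.mul_mem _ hc hd, ?_⟩
          have : a * b * (c * d) = (a * c) * (b * d) := by
            rw [mul_assoc a c, ← mul_assoc c b, ← coFactor_comm hb hc]
            simp [mul_assoc]
          rw [this, mul_smul, hbd, hac]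
        inv_mem' := by
          rintro a ⟨ha, c, hc, hac⟩
          refine ⟨T.inv_mem ha, c⁻¹, Subgroup.inv_mem _ hc, ?_⟩
          rw [← mul_inv_rev, ← coFactor_comm ha hc, inv_smul_eq_iff, hac] }
    have hP : ¬ T ≤ P := fun h => hu' (h hu).2
    obtain ⟨a, ha, hac⟩ := exists_not_conj_mem hP
    have ha1 : a ≠ 1 := by
      rintro rfl
      exact hac 1 T.one_mem (by simpa using P.one_mem)
    obtain ⟨g, hg⟩ := hT.other
    have hc : g * s * g⁻¹ ∈ coFactor N T := hg s hs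
    obtain ⟨x, hx, y, hy, hfx⟩ := hback a ha _ hc ha1 (fun h => hs1 (conj_eq_one_iff.mp h))
    exact hac x hx ⟨T.mul_mem (T.mul_mem (T.inv_mem hx) ha) hx, _,
      Subgroup.mul_mem _ (Subgroup.mul_mem _ (Subgroup.inv_mem _ hy) hc) hy, hfx⟩
  -- all non-identity elements of `T` are conjugate
  have key : ∀ u ∈ T, u ≠ 1 → ∃ z ∈ T, z * s * z⁻¹ = u := by
    intro u hu hu1
    obtain ⟨c, hc, huc⟩ := hP u hu
    have hc1 : c ≠ 1 := by
      rintro rfl
      exact hsemi u hu hu1 ω₀ (by simpa using huc)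
    obtain ⟨x, hx, y, hy, hfx⟩ := hback s hs c hc hs1 hc1
    obtain ⟨-, w, hw, hwy⟩ := hQ hy
    have hA : w⁻¹ * u * w ∈ T := T.mul_mem (T.mul_mem (T.inv_mem hw) hu) hw
    have hB : x⁻¹ * s * x ∈ T := T.mul_mem (T.mul_mem (T.inv_mem hx) hs) hx
    have h2 : (w⁻¹ * u * w * (y⁻¹ * c * y)) • ω₀ = ω₀ := by
      have h1 : w⁻¹ * u * w * y⁻¹ = y⁻¹ * (w⁻¹ * u * w) :=
        coFactor_comm hA (Subgroup.inv_mem _ hy)
      have heq : w⁻¹ * u * w * (y⁻¹ * c * y) = (w * y)⁻¹ * (u * c) * (w * y) := by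
        calc w⁻¹ * u * w * (y⁻¹ * c * y) = (w⁻¹ * u * w * y⁻¹) * c * y := by simp [mul_assoc]
          _ = y⁻¹ * (w⁻¹ * u) * (w * c) * y := by rw [h1]; simp [mul_assoc]
          _ = _ := by rw [coFactor_comm hw hc]; simp [mul_assoc]
      rw [heq, mul_smul, mul_smul, hwy, huc, inv_smul_eq_iff, hwy]
    have h3 : (w⁻¹ * u * w) * (x⁻¹ * s * x)⁻¹ = 1 := by
      by_contra h
      refine hsemi _ (T.mul_mem hA (T.inv_mem hB)) h ω₀ ?_
      have : (w⁻¹ * u * w) * (x⁻¹ * s * x)⁻¹ =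
          (w⁻¹ * u * w * (y⁻¹ * c * y)) * (x⁻¹ * s * x * (y⁻¹ * c * y))⁻¹ := by group
      rw [this, mul_smul, inv_smul_eq_iff.mpr hfx.symm, h2]
    rw [mul_inv_eq_one] at h3
    refine ⟨w * x⁻¹, T.mul_mem hw (T.inv_mem hx), ?_⟩
    have := congrArg (fun z => w * z * w⁻¹) h3
    simpa [mul_assoc] using this.symm
  refine hs1 (hT.center s hs fun y hy => ?_)
  have := commute_of_all_conj (⟨s, hs⟩ : T) (fun u hu => by
    obtain ⟨z, hz, hzu⟩ := key u u.2 (fun h => hu (Subtype.ext h))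
    exact isConj_iff.mpr ⟨⟨z, hz⟩, Subtype.ext hzu⟩) ⟨s, hs⟩ ⟨y, hy⟩
  exact congrArg Subtype.val this

/-- A primitive group neither affine nor almost simple has three classes of derangements. -/
theorem three_classes [Nonempty Ω] (hprim : IsPreprimitive G Ω) {N : Subgroup G} (hN : N.Normal)
    (hN1 : N ≠ ⊥) (hmin : ∀ M : Subgroup G, M.Normal → M ≤ N → M = ⊥ ∨ M = N)
    (hna : ¬ IsMulCommutative N) (hnas : ¬ IsAS G) :
    ∃ x y z : G, IsDer Ω x ∧ IsDer Ω y ∧ IsDer Ω z ∧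
      ¬ IsConj x y ∧ ¬ IsConj x z ∧ ¬ IsConj y z := by
  have hord : ∀ {a b : G}, IsConj a b → orderOf a = orderOf b := by
    intro a b h
    obtain ⟨c, rfl⟩ := isConj_iff.mp h
    exact (MulEquiv.orderOf_eq (MulAut.conj c) a).symm
  rcases minimal_normal_cases hN hN1 hmin with h | ⟨hs, -⟩ | ⟨T, hT⟩
  · exact absurd h hna
  · obtain ⟨M, hM, hM1, hMN, hdN, hdM⟩ := simple_case hprim hN hs hna hnas
    have : Nontrivial N := hs.toNontrivial
    obtain ⟨s, t, hsp, htp, hst⟩ := exists_two_prime_orders (center_trivial_of_simple hs hna)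
    obtain ⟨m, hm⟩ := (M.ne_bot_iff_exists_ne_one).mp hM1
    have hm1 : (m : G) ≠ 1 := fun h => hm (Subtype.ext h)
    have hs1 : (s : G) ≠ 1 := fun h => hsp.ne_one (by rw [orderOf_eq_one_iff]; exact Subtype.ext h)
    have ht1 : (t : G) ≠ 1 := fun h => htp.ne_one (by rw [orderOf_eq_one_iff]; exact Subtype.ext h)
    have hnc : ∀ x : N, (x : G) ≠ 1 → ¬ IsConj (x : G) m := by
      intro x hx h
      obtain ⟨c, hc⟩ := isConj_iff.mp h
      exact hm1 (hMN m m.2 (hc ▸ hN.conj_mem x x.2 c))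
    exact ⟨s, t, m, hdN s s.2 hs1, hdN t t.2 ht1, hdM m m.2 hm1,
      fun h => hst (by simpa only [Subgroup.orderOf_coe] using hord h), hnc s hs1, hnc t ht1⟩
  · have htr := transitive_of_normal hprim hN hN1
    rcases hT.dichotomy (Ω := Ω) htr with hsemi | ⟨a, ha, ha1, hder⟩
    · obtain ⟨s, hs, t, ht, hsp, htp, hst⟩ := hT.two_prime_orders
      obtain ⟨u, hu, c, hc, hu1, hc1, hdu⟩ := hT.exists_mul_isDer htr hsemi
      have hnc : ∀ x ∈ T, ¬ IsConj x (u * c) := by
        intro x hx h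
        obtain ⟨g, hg⟩ := isConj_iff.mp h
        exact hT.mul_not_single hu hc hu1 hc1 g x hx hg.symm
      exact ⟨s, t, u * c, hsemi s hs (fun h => hsp.ne_one (by rw [h, orderOf_one])),
        hsemi t ht (fun h => htp.ne_one (by rw [h, orderOf_one])), hdu,
        fun h => hst (hord h), hnc s hs, hnc t ht⟩
    · obtain ⟨g, hg⟩ := hT.other
      obtain ⟨s, hs, t, ht, hsp, htp, hst⟩ := hT.two_prime_orders
      obtain ⟨v, hv, hvp, hva⟩ : ∃ v ∈ T, (orderOf v).Prime ∧ orderOf v ≠ orderOf a := by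
        by_cases h : orderOf s = orderOf a
        · exact ⟨t, ht, htp, fun h' => hst (h.trans h'.symm)⟩
        · exact ⟨s, hs, hsp, h⟩
      set q := orderOf v
      set c := g * v * g⁻¹
      set a' := g * a * g⁻¹
      have hc : c ∈ coFactor N T := hg v hv
      have ha' : a' ∈ coFactor N T := hg a ha
      have hc1 : c ≠ 1 := fun h => hvp.ne_one (by rw [orderOf_eq_one_iff]; exact conj_eq_one_iff.mp h)
      have ha'1 : a' ≠ 1 := fun h => ha1 (conj_eq_one_iff.mp h)
      have hcq : c ^ q = 1 := by rw [conj_pow, pow_orderOf_eq_one]; simp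
      have haq : a ^ q ≠ 1 := by
        intro h
        rcases (Nat.dvd_prime hvp).mp (orderOf_dvd_of_pow_eq_one h) with h1 | h1
        · exact ha1 (orderOf_eq_one_iff.mp h1)
        · exact hva h1.symm
      have ha'q : a' ^ q ≠ 1 := by
        rw [conj_pow]; exact fun h => haq (conj_eq_one_iff.mp h)
      have hnc : ∀ d ∈ coFactor N T, d ≠ 1 → ¬ IsConj a (a * d) := by
        intro d hd hd1 h
        obtain ⟨x, hx⟩ := isConj_iff.mp h
        exact hT.mul_not_single ha hd ha1 hd1 x a ha hx.symm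
      refine ⟨a, a * c, a * a', by simpa using hder 1 (one_mem _), hder c hc, hder a' ha',
        hnc c hc hc1, hnc a' ha' ha'1, fun h => ?_⟩
      obtain ⟨x, hx⟩ := isConj_iff.mp h
      have h2 := congrArg (· ^ q) hx
      simp only [conj_pow, Commute.mul_pow (coFactor_comm ha hc : Commute a c),
        Commute.mul_pow (coFactor_comm ha ha' : Commute a a'), hcq, mul_one] at h2
      exact hT.mul_not_single (T.pow_mem ha q) (Subgroup.pow_mem _ ha' q) haq ha'q x (a ^ q)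
        (T.pow_mem ha q) (h2.symm.trans (by simp [conj_pow]))

/-- A primitive group neither affine nor almost simple has, for every prime `p`, a derangement
whose order is not a power of `p`. -/
theorem exists_isDer_not_pElement [Nonempty Ω] (hprim : IsPreprimitive G Ω) {N : Subgroup G}
    (hN : N.Normal) (hN1 : N ≠ ⊥) (hmin : ∀ M : Subgroup G, M.Normal → M ≤ N → M = ⊥ ∨ M = N)
    (hna : ¬ IsMulCommutative N) (hnas : ¬ IsAS G) (p : ℕ) (hp : p.Prime) :
    ∃ g : G, IsDer Ω g ∧ ∀ k, orderOf g ≠ p ^ k := by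
  have hpow : ∀ {q k : ℕ}, q.Prime → q ∣ p ^ k → q = p := fun hq h =>
    (Nat.prime_dvd_prime_iff_eq hq hp).mp (hq.dvd_of_dvd_pow h)
  rcases minimal_normal_cases hN hN1 hmin with h | ⟨hs, -⟩ | ⟨T, hT⟩
  · exact absurd h hna
  · obtain ⟨M, -, -, -, hdN, -⟩ := simple_case hprim hN hs hna hnas
    have : Nontrivial N := hs.toNontrivial
    obtain ⟨s, hsp, hsne⟩ := exists_prime_orderOf_ne p
      (not_isPGroup_of_center (center_trivial_of_simple hs hna) p hp)
    refine ⟨s, hdN s s.2 fun h => hsp.ne_one (by rw [orderOf_eq_one_iff]; exact Subtype.ext h), fun k hk => ?_⟩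
    rw [Subgroup.orderOf_coe] at hk
    exact hsne (hpow hsp (k := k) (hk ▸ dvd_refl _))
  · have htr := transitive_of_normal hprim hN hN1
    obtain ⟨s, hsp, hsne⟩ := exists_prime_orderOf_ne p (hT.not_isPGroup p hp)
    rw [← Subgroup.orderOf_coe] at hsp hsne
    have hs1 : (s : G) ≠ 1 := fun h => hsp.ne_one (by rw [h, orderOf_one])
    rcases hT.dichotomy (Ω := Ω) htr with hsemi | ⟨a, ha, ha1, hder⟩
    · exact ⟨s, hsemi s s.2 hs1, fun k hk => hsne (hpow hsp (k := k) (hk ▸ dvd_refl _))⟩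
    · obtain ⟨g, hg⟩ := hT.other
      refine ⟨a * (g * s * g⁻¹), hder _ (hg s s.2), fun k hk => ?_⟩
      have h1 : (a * (g * s * g⁻¹)) ^ p ^ k = 1 := by rw [← hk, pow_orderOf_eq_one]
      rw [Commute.mul_pow (coFactor_comm ha (hg s s.2))] at h1
      have h2 : (g * (s : G) * g⁻¹) ^ p ^ k = 1 := by
        refine hT.eq_one_of_mem_both ?_ (Subgroup.pow_mem _ (hg s s.2) _)
        rw [← inv_eq_of_mul_eq_one_right h1]
        exact T.inv_mem (T.pow_mem ha _)
      rw [conj_pow] at h2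
      exact hsne (hpow hsp (k := k) (orderOf_dvd_of_pow_eq_one (conj_eq_one_iff.mp h2)))

end CfsgLib.PrimRecog
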