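import Mathlib

/-! Connectivity of normal Cayley graphs of simple groups. -/
set_option autoImplicit false

namespace CfsgLib.PrimRecog

open scoped Pointwise

/-- In a finite simple group, a normal symmetric set `K` containing `1` with `K * K` not everything
has `2 |K| ≤ |K * K| + 1`. -/
theorem card_mul_self_ge {G : Type*} [Group G] [Fintype G] [DecidableEq G] [IsSimpleGroup G]
    (K : Finset G) (h1 : 1 ∈ K) (hinv : ∀ x ∈ K, x⁻¹ ∈ K)
    (hconj : ∀ g : G, ∀ x ∈ K, g * x * g⁻¹ ∈ K) (hne : K * K ≠ Finset.univ) :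
    2 * K.card ≤ (K * K).card + 1 := by
  classical
  let d : Finset G → ℕ := fun X => (X * K).card - X.card
  let Cand : Finset (Finset G) := Finset.univ.filter fun X => X.Nonempty ∧ X * K ≠ Finset.univ
  have hmemC : ∀ X, X ∈ Cand ↔ X.Nonempty ∧ X * K ≠ Finset.univ := fun X => by simp [Cand]
  have hle : ∀ X : Finset G, X.card ≤ (X * K).card := fun X =>
    Finset.card_le_card (Finset.subset_mul_left X h1)
  have hKC : K ∈ Cand := (hmemC K).mpr ⟨⟨1, h1⟩, hne⟩
  obtain ⟨X₀, hX₀, hmin⟩ := Finset.exists_min_image Cand d ⟨K, hKC⟩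
  set k := d X₀
  let Frag := Cand.filter fun X => d X = k
  have hmemF : ∀ X, X ∈ Frag ↔ X.Nonempty ∧ X * K ≠ Finset.univ ∧ (X * K).card = X.card + k := by
    intro X
    have := hle X
    simp only [Frag, Finset.mem_filter, hmemC, d, and_assoc]
    refine and_congr_right fun _ => and_congr_right fun _ => ⟨fun h => by omega, fun h => by omega⟩
  have hbound : ∀ X : Finset G, X.Nonempty → X * K ≠ Finset.univ → X.card + k ≤ (X * K).card := by
    intro X h h'
    have h2 : k ≤ (X * K).card - X.card := hmin X ((hmemC X).mpr ⟨h, h'⟩)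
    have := hle X
    omega
  obtain ⟨A₁, hA₁, hA₁min⟩ := Finset.exists_min_image Frag Finset.card
    ⟨X₀, Finset.mem_filter.mpr ⟨hX₀, rfl⟩⟩
  have hatom : ∀ A F, A ∈ Frag → A.card = A₁.card → F ∈ Frag → (A ∩ F).Nonempty → A ⊆ F := by
    intro A F hA hAm hF hX
    obtain ⟨-, hAne, hAk⟩ := (hmemF A).mp hA
    obtain ⟨hF0, hFne, hFk⟩ := (hmemF F).mp hF
    have hXne : (A ∩ F) * K ≠ Finset.univ := fun h => hAne (Finset.eq_univ_iff_forall.mpr fun x =>
      Finset.mul_subset_mul_right Finset.inter_subset_left (h ▸ Finset.mem_univ x))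
    have hXb := hbound _ hX hXne
    have hsub := Finset.card_le_card (Finset.inter_mul_subset (s₁ := A) (s₂ := F) (t := K))
    have e1 := Finset.card_union_add_card_inter (A * K) (F * K)
    rw [← Finset.union_mul] at e1
    have e2 := Finset.card_union_add_card_inter A F
    by_cases hU : (A ∪ F) * K = Finset.univ
    · exfalso
      rw [hU, Finset.card_univ] at e1
      let F' := Finset.univ \ (F * K)
      have hF'0 : F'.Nonempty := by
        obtain ⟨x, -, hx⟩ := Finset.exists_of_ssubset (Finset.ssubset_univ_iff.mpr hFne)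
        exact ⟨x, by simp [F', hx]⟩
      have hF'K : F' * K ⊆ Finset.univ \ F := by
        intro y hy
        obtain ⟨f, hf, c, hc, rfl⟩ := Finset.mem_mul.mp hy
        simp only [F', Finset.mem_sdiff, Finset.mem_univ, true_and] at hf ⊢
        exact fun h => hf (Finset.mem_mul.mpr ⟨_, h, c⁻¹, hinv c hc, by rw [mul_inv_cancel_right]⟩)
      obtain ⟨f, hf⟩ := hF0
      have hF'ne : F' * K ≠ Finset.univ := fun h => (Finset.mem_sdiff.mp
        (hF'K (h.symm ▸ Finset.mem_univ f))).2 hf
      have e3 := Finset.card_le_card hF'K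
      rw [Finset.card_univ_diff] at e3
      have e4 : F'.card = Fintype.card G - (F * K).card := Finset.card_univ_diff _
      have e5 := hbound F' hF'0 hF'ne
      have e6 := (F * K).card_le_univ
      have e7 : A₁.card ≤ F'.card := hA₁min _ ((hmemF F').mpr ⟨hF'0, hF'ne, by omega⟩)
      have e8 : 0 < (A ∩ F).card := Finset.card_pos.mpr hX
      omega
    · have hUb := hbound _ (hX.mono (Finset.inter_subset_union)) hU
      have hXF : A ∩ F ∈ Frag := (hmemF _).mpr ⟨hX, hXne, by omega⟩
      have h3 := hA₁min _ hXF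
      have h4 := Finset.eq_of_subset_of_card_le (Finset.inter_subset_left (s₂ := F))
        (by rw [hAm]; exact h3)
      exact h4 ▸ Finset.inter_subset_right
  have hsmul : ∀ (g : G) A, A ∈ Frag → g • A ∈ Frag := by
    intro g A hA
    obtain ⟨h, h', h''⟩ := (hmemF A).mp hA
    refine (hmemF _).mpr ⟨h.smul_finset, ?_, ?_⟩
    · rw [smul_mul_assoc]
      intro e
      refine h' ?_
      rw [← inv_smul_smul g (A * K), e, Finset.smul_finset_univ]
    · rw [smul_mul_assoc, Finset.card_smul_finset, Finset.card_smul_finset, h'']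
  have hKimage : ∀ g : G, K.image (MulAut.conj g) = K := by
    intro g
    refine Finset.eq_of_subset_of_card_le (fun x hx => ?_)
      (by rw [Finset.card_image_of_injective _ (MulAut.conj g).injective])
    obtain ⟨y, hy, rfl⟩ := Finset.mem_image.mp hx
    exact hconj g y hy
  have himage : ∀ (g : G) A, A ∈ Frag → A.image (MulAut.conj g) ∈ Frag := by
    intro g A hA
    obtain ⟨h, h', h''⟩ := (hmemF A).mp hA
    have e : A.image (MulAut.conj g) * K = (A * K).image (MulAut.conj g) := by
      conv_lhs => rw [← hKimage g]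
      rw [Finset.image_mul]
    refine (hmemF _).mpr ⟨h.image _, ?_, ?_⟩
    · rw [e]
      intro e'
      refine h' (Finset.eq_univ_of_card _ ?_)
      rw [← Finset.card_image_of_injective _ (MulAut.conj g).injective, e', Finset.card_univ]
    · rw [e, Finset.card_image_of_injective _ (MulAut.conj g).injective,
        Finset.card_image_of_injective _ (MulAut.conj g).injective, h'']
  obtain ⟨a, ha⟩ := ((hmemF A₁).mp hA₁).1
  set A := a⁻¹ • A₁
  have hA : A ∈ Frag := hsmul _ _ hA₁
  have hAcard : A.card = A₁.card := Finset.card_smul_finset _ _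
  have hA1 : (1 : G) ∈ A := Finset.mem_smul_finset.mpr ⟨a, ha, inv_mul_cancel a⟩
  have hfix : ∀ x ∈ A, x⁻¹ • A = A := by
    intro x hx
    refine (Finset.eq_of_subset_of_card_le (hatom A _ hA hAcard (hsmul _ _ hA)
      ⟨1, Finset.mem_inter.mpr ⟨hA1, Finset.mem_smul_finset.mpr ⟨x, hx, inv_mul_cancel x⟩⟩⟩)
      (le_of_eq (Finset.card_smul_finset _ _))).symm
  have hdiv : ∀ x ∈ A, ∀ y ∈ A, x⁻¹ * y ∈ A := fun x hx y hy => by
    have h := Finset.smul_mem_smul_finset (a := x⁻¹) hy
    rwa [hfix x hx, smul_eq_mul] at h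
  let S : Subgroup G :=
    { carrier := {x | x ∈ A}
      one_mem' := hA1
      mul_mem' := fun {x y} hx hy => by
        have h := hdiv _ (hdiv x hx 1 hA1) y hy
        simpa using h
      inv_mem' := fun {x} hx => by simpa using hdiv x hx 1 hA1 }
  have hSn : S.Normal := ⟨fun x hx g => by
    have h := Finset.eq_of_subset_of_card_le (hatom A _ hA hAcard (himage g A hA)
      ⟨1, Finset.mem_inter.mpr ⟨hA1, Finset.mem_image.mpr ⟨1, hA1, map_one _⟩⟩⟩)
      (le_of_eq (Finset.card_image_of_injective _ (MulAut.conj g).injective))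
    show g * x * g⁻¹ ∈ A
    rw [h]
    exact Finset.mem_image_of_mem _ hx⟩
  obtain ⟨-, hAne, hAk⟩ := (hmemF A).mp hA
  rcases IsSimpleGroup.eq_bot_or_eq_top_of_normal S hSn with hS | hS
  · have hAeq : A = {1} := by
      refine Finset.eq_singleton_iff_unique_mem.mpr ⟨hA1, fun x hx => ?_⟩
      have : x ∈ S := hx
      rwa [hS, Subgroup.mem_bot] at this
    rw [hAeq, Finset.singleton_one, one_mul, Finset.card_one] at hAk
    have := hbound K ⟨1, h1⟩ hne
    omega
  · refine absurd (Finset.eq_univ_iff_forall.mpr fun x => ?_) hAne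
    have hx : x ∈ S := hS.symm ▸ Subgroup.mem_top x
    exact Finset.subset_mul_left A h1 hx

end CfsgLib.PrimRecog
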