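import Mathlib

/-! Schur: primitive groups with a regular cyclic subgroup of non prime power order. -/
set_option autoImplicit false

namespace CfsgLib.PrimRecog

open MulAction

variable {G Ω : Type*} [Group G] [MulAction G Ω]

section Regular

variable (C : Subgroup G) (a : Ω)

/-- The action of `g` read on the regular subgroup `C`. -/
noncomputable def regAct (e : C ≃ Ω) (g : G) (x : C) : C := e.symm (g • e x)

variable {C} {a} {e : C ≃ Ω} (he : ∀ x : C, e x = (x : G) • a)
include he

omit he in
lemma regAct_apply (g : G) (x : C) : e (regAct C e g x) = g • e x := e.apply_symm_apply _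

lemma regAct_one (g : G) (hg : g • a = a) : regAct C e g 1 = 1 := by
  apply e.injective
  rw [regAct_apply, he, Subgroup.coe_one, one_smul, hg]

/-- `g` composed with translations, again fixing `a`. -/
lemma regAct_mul (g : G) (y z : C) :
    ((((regAct C e g y)⁻¹ : C) : G) * g * (y : G)) • a = a ∧
    regAct C e g (y * z) = regAct C e g y * regAct C e (((regAct C e g y)⁻¹ : C) * g * y) z := by
  constructor
  · rw [Subgroup.coe_inv, mul_smul, mul_smul, inv_smul_eq_iff, ← he, ← he, regAct_apply]
  · apply e.injective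
    rw [regAct_apply, he, he (_ * _), Subgroup.coe_mul, Subgroup.coe_mul, mul_smul, mul_smul _ (regAct C e _ _ : G),
      ← he z, ← he (regAct C e _ z), regAct_apply, mul_smul, mul_smul, Subgroup.coe_inv, smul_inv_smul]

omit he in
lemma regAct_bijective (g : G) : Function.Bijective (regAct C e g) :=
  e.symm.bijective.comp ((MulAction.bijective g).comp e.bijective)

omit he in
lemma regAct_inv (g : G) (x : C) : regAct C e g (regAct C e g⁻¹ x) = x := by
  apply e.injective
  rw [regAct_apply, regAct_apply, smul_inv_smul]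

/-- A proper invariant subgroup of a regular subgroup of a primitive group is trivial. -/
lemma invariant_eq_bot (hprim : IsPreprimitive G Ω) [Nontrivial Ω] (S : Subgroup C)
    (hS : ∀ g : G, g • a = a → ∀ x ∈ S, regAct C e g x ∈ S) (hne : S ≠ ⊤) : S = ⊥ := by
  let M : Subgroup G :=
    { carrier := {g | ∃ s ∈ S, g • a = e s}
      one_mem' := ⟨1, S.one_mem, by rw [he, Subgroup.coe_one]⟩
      mul_mem' := by
        rintro g h ⟨y, hy, hgy⟩ ⟨z, hz, hhz⟩
        have hk : ((((y⁻¹ : C)) : G) * g) • a = a := by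
          rw [mul_smul, hgy, he, Subgroup.coe_inv, inv_smul_smul]
        refine ⟨y * regAct C e (((y⁻¹ : C) : G) * g) z, S.mul_mem hy (hS _ hk z hz), ?_⟩
        rw [he (_ * _), Subgroup.coe_mul, mul_smul, mul_smul, ← he (regAct C e _ z), regAct_apply,
          hhz, mul_smul, Subgroup.coe_inv, smul_inv_smul]
      inv_mem' := by
        rintro g ⟨y, hy, hgy⟩
        have hk : ((((y⁻¹ : C)) : G) * g) • a = a := by
          rw [mul_smul, hgy, he, Subgroup.coe_inv, inv_smul_smul]
        have hk' : (g⁻¹ * (y : G)) • a = a := by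
          rw [mul_smul, ← he, ← hgy, inv_smul_smul]
        refine ⟨regAct C e (g⁻¹ * (y : G)) y⁻¹, hS _ hk' _ (S.inv_mem hy), ?_⟩
        rw [regAct_apply, he, ← mul_smul, Subgroup.coe_inv, mul_inv_cancel_right] }
  have hle : stabilizer G a ≤ M := fun g hg =>
    ⟨1, S.one_mem, by rw [he, Subgroup.coe_one, one_smul]; exact hg⟩
  have := hprim
  have hmax : IsCoatom (stabilizer G a) := (isCoatom_stabilizer_iff_preprimitive (G := G) a).mpr hprim
  rcases hmax.le_iff.mp hle with h | h
  · exfalso
    refine hne (eq_top_iff.mpr fun x _ => ?_)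
    obtain ⟨s, hs, hxs⟩ : (x : G) ∈ M := h ▸ Subgroup.mem_top _
    rw [← he] at hxs
    rwa [e.injective hxs]
  · rw [eq_bot_iff]
    intro s hs
    have h1 : (s : G) ∈ M := ⟨s, hs, (he s).symm⟩
    rw [h, mem_stabilizer_iff] at h1
    refine Subgroup.mem_bot.mpr (e.injective ?_)
    rw [he, he, h1, Subgroup.coe_one, one_smul]

/-- The subgroup generated by an invariant subset is invariant. -/
lemma closure_invariant (X : Set C) (hX : ∀ g : G, g • a = a → ∀ x ∈ X, regAct C e g x ∈ X) :
    ∀ g : G, g • a = a → ∀ x ∈ Subgroup.closure X, regAct C e g x ∈ Subgroup.closure X := by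
  intro g hg x hx
  induction hx using Subgroup.closure_induction generalizing g with
  | mem y hy => exact Subgroup.subset_closure (hX g hg y hy)
  | one => rw [regAct_one he g hg]; exact Subgroup.one_mem _
  | mul y z _ _ ihy ihz =>
    rw [(regAct_mul he g y z).2]
    exact Subgroup.mul_mem _ (ihy g hg) (ihz _ (regAct_mul he g y z).1)
  | inv y _ ih =>
    set w := regAct C e g y⁻¹ with hw
    set k : G := ((w⁻¹ : C) : G) * g * ((y⁻¹ : C) : G) with hk
    have h1 : k • a = a := (regAct_mul he g y⁻¹ y).1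
    have h2 : w * regAct C e k y = 1 := by
      rw [hw, hk, ← (regAct_mul he g y⁻¹ y).2, inv_mul_cancel, regAct_one he g hg]
    rw [show w = (regAct C e k y)⁻¹ from eq_inv_of_mul_eq_one_left h2]
    exact Subgroup.inv_mem _ (ih k h1)

end Regular

/-- An invariant set of a regular cyclic subgroup is, outside the elements of order `p`, a union of
cosets of the subgroup of order `p`. -/
theorem mul_mem_of_invariant [Finite G] [Nontrivial Ω] (C : Subgroup G) (hcyc : IsCyclic C) {a : Ω}
    {e : C ≃ Ω} (he : ∀ x : C, e x = (x : G) • a) (hprim : IsPreprimitive G Ω)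
    {p : ℕ} (hp : p.Prime) (hpd : p ∣ Nat.card C) (T : Finset C)
    (hT : ∀ g : G, g • a = a → ∀ x, (regAct C e g x ∈ T ↔ x ∈ T))
    (t : C) (ht : t ∈ T) (htp : t ^ p ≠ 1) (u : C) (hu : u ^ p = 1) : t * u ∈ T := by
  classical
  let act : G → C → C := regAct C e
  have : Fintype C := Fintype.ofFinite C
  letI : CommGroup C := IsCyclic.commGroup
  have := Fact.mk hp
  let A := MonoidAlgebra (ZMod p) C
  let Inv : A → Prop := fun f => ∀ g : G, g • a = a → ∀ x, f.coeff (act g x) = f.coeff x
  have hconv : ∀ (f h : A) (x : C), (f * h).coeff x = ∑ y : C, f.coeff y * h.coeff (y⁻¹ * x) := by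
    intro f h x
    rw [MonoidAlgebra.coeff_mul_antidiag f h x ((Finset.univ : Finset C).image fun y => (y, y⁻¹ * x))
      (fun {q} => ?_)]
    · rw [Finset.sum_image fun y _ z _ hyz => congrArg Prod.fst hyz]
    · simp only [Finset.mem_image, Finset.mem_univ, true_and]
      constructor
      · rintro ⟨y, rfl⟩; exact mul_inv_cancel_left y x
      · rintro rfl; exact ⟨q.1, by rw [inv_mul_cancel_left]⟩
  have hmul : ∀ f h : A, Inv f → Inv h → Inv (f * h) := by
    intro f h hf hh g hg x
    rw [hconv, hconv]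
    refine (Fintype.sum_bijective (act g) (regAct_bijective g) _ _ fun y => ?_).symm
    have hm := regAct_mul he g y (y⁻¹ * x)
    rw [hf g hg y]
    congr 1
    rw [mul_inv_cancel_left] at hm
    show _ = h.coeff ((regAct C e g y)⁻¹ * regAct C e g x)
    rw [hm.2, inv_mul_cancel_left]
    exact (hh _ hm.1 _).symm
  let χ : A := ∑ y ∈ T, MonoidAlgebra.single y 1
  have hχ : ∀ x, χ.coeff x = if x ∈ T then 1 else 0 := by
    intro x
    show (∑ y ∈ T, MonoidAlgebra.single y (1 : ZMod p)).coeff x = _
    rw [MonoidAlgebra.coeff_sum, Finsupp.finset_sum_apply]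
    simp [MonoidAlgebra.coeff_single, Finsupp.single_apply]
  have hχI : Inv χ := fun g hg x => by
    rw [hχ, hχ]
    by_cases hx : x ∈ T
    · rw [if_pos hx, if_pos ((hT g hg x).mpr hx)]
    · rw [if_neg hx, if_neg fun h => hx ((hT g hg x).mp h)]
  have hpow : ∀ k, Inv (χ ^ (k + 1)) := by
    intro k
    induction k with
    | zero => simpa using hχI
    | succ k ih => rw [pow_succ]; exact hmul _ _ ih hχI
  have : CharP A p := charP_of_injective_algebraMap (algebraMap (ZMod p) A).injective p
  have hχp : χ ^ p = ∑ y ∈ T, MonoidAlgebra.single (y ^ p) (1 : ZMod p) := by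
    rw [sum_pow_char]
    exact Finset.sum_congr rfl fun y _ => by rw [MonoidAlgebra.single_pow, one_pow]
  have hI : Inv (χ ^ p) := by
    have := hpow (p - 1)
    rwa [Nat.sub_add_cancel hp.pos] at this
  have hcoeff : ∀ x, (χ ^ p).coeff x = ((T.filter fun y => y ^ p = x).card : ZMod p) := by
    intro x
    rw [hχp]
    simp [MonoidAlgebra.coeff_sum, MonoidAlgebra.coeff_single, Finsupp.single_apply]
  let X : Set C := {x | x ≠ 1 ∧ (χ ^ p).coeff x ≠ 0}
  have hX : ∀ g : G, g • a = a → ∀ x ∈ X, act g x ∈ X := by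
    intro g hg x hx
    refine ⟨fun h => hx.1 ((regAct_bijective g).1 (h.trans (regAct_one he g hg).symm)), ?_⟩
    rw [hI g hg x]
    exact hx.2
  have hXle : Subgroup.closure X ≤ (powMonoidHom p : C →* C).range := by
    refine (Subgroup.closure_le _).mpr fun x hx => ?_
    have h0 := hx.2
    rw [hcoeff] at h0
    obtain ⟨y, hy⟩ := Finset.card_pos.mp (Nat.pos_of_ne_zero (n := (T.filter fun y => y ^ p = x).card)
      fun h => h0 (by rw [h, Nat.cast_zero]))
    exact ⟨y, (Finset.mem_filter.mp hy).2⟩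
  obtain ⟨v, hv⟩ := exists_prime_orderOf_dvd_card' p hpd
  have hrange : (powMonoidHom p : C →* C).range ≠ ⊤ := by
    intro htop
    have hinj : Function.Injective (powMonoidHom p : C →* C) :=
      Finite.injective_iff_surjective.mpr (MonoidHom.range_eq_top.mp htop)
    have hv1 : v = 1 := hinj (by
      show v ^ p = 1 ^ p
      rw [one_pow, ← hv, pow_orderOf_eq_one])
    rw [hv1, orderOf_one] at hv
    exact hp.ne_one hv.symm
  have hbot : Subgroup.closure X = ⊥ := invariant_eq_bot he hprim _ (closure_invariant he X hX)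
    fun h => hrange (eq_top_iff.mpr (h ▸ hXle))
  have hzero : (χ ^ p).coeff (t ^ p) = 0 := by
    by_contra h
    exact htp (Subgroup.mem_bot.mp (hbot ▸ Subgroup.subset_closure (show t ^ p ∈ X from ⟨htp, h⟩)))
  rw [hcoeff] at hzero
  have hdvd : p ∣ (T.filter fun y => y ^ p = t ^ p).card := (ZMod.natCast_eq_zero_iff _ _).mp hzero
  let R := (Finset.univ : Finset C).filter fun y => y ^ p = t ^ p
  have hR : R.card ≤ p := by
    refine le_trans (le_of_eq ?_) (IsCyclic.card_pow_eq_one_le (α := C) hp.pos)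
    refine Finset.card_equiv (Equiv.mulLeft t⁻¹) fun y => ?_
    simp [R, mul_pow, inv_mul_eq_one, eq_comm]
  have hsub : T.filter (fun y => y ^ p = t ^ p) ⊆ R := fun y hy =>
    Finset.mem_filter.mpr ⟨Finset.mem_univ _, (Finset.mem_filter.mp hy).2⟩
  have hpos : 0 < (T.filter fun y => y ^ p = t ^ p).card :=
    Finset.card_pos.mpr ⟨t, Finset.mem_filter.mpr ⟨ht, rfl⟩⟩
  have heq := Finset.eq_of_subset_of_card_le hsub (hR.trans (Nat.le_of_dvd hpos hdvd))
  have htu : t * u ∈ R := Finset.mem_filter.mpr ⟨Finset.mem_univ _, by rw [mul_pow, hu, mul_one]⟩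
  rw [← heq] at htu
  exact (Finset.mem_filter.mp htu).1

/-- Schur's theorem on regular cyclic subgroups of primitive groups. -/
theorem twoTrans_of_regular_cyclic [Finite G] [Finite Ω] (hn : 2 ≤ Nat.card Ω)
    (hnp : ¬ IsPrimePow (Nat.card Ω)) (C : Subgroup G) (hcyc : IsCyclic C)
    (hCt : IsPretransitive C Ω) (hCs : ∀ a : Ω, stabilizer C a = ⊥) (hprim : IsPreprimitive G Ω) :
    IsMultiplyPretransitive G Ω 2 := by
  classical
  have hnt : Nontrivial Ω := Finite.one_lt_card_iff_nontrivial.mp hn
  obtain ⟨a⟩ : Nonempty Ω := inferInstance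
  have hbij : Function.Bijective fun x : C => (x : G) • a := by
    refine ⟨fun x y h => ?_, fun b => ?_⟩
    · have h' : (y⁻¹ * x) ∈ stabilizer C a := by
        show (y⁻¹ * x) • a = a
        rw [mul_smul, inv_smul_eq_iff]
        exact h
      rw [hCs a, Subgroup.mem_bot, inv_mul_eq_one] at h'
      exact h'.symm
    · obtain ⟨x, hx⟩ := hCt.exists_smul_eq a b
      exact ⟨x, hx⟩
  let e : C ≃ Ω := Equiv.ofBijective _ hbij
  have he : ∀ x : C, e x = (x : G) • a := fun x => rfl
  let act : G → C → C := regAct C e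
  have : Fintype C := Fintype.ofFinite C
  letI : CommGroup C := IsCyclic.commGroup
  have hcardC : Nat.card C = Nat.card Ω := Nat.card_congr e
  -- every prime `p`: an invariant set is a union of cosets of the subgroup of order `p`
  have key : ∀ (p : ℕ), p.Prime → p ∣ Nat.card C → ∀ T : Finset C,
      (∀ g : G, g • a = a → ∀ x, (act g x ∈ T ↔ x ∈ T)) →
      ∀ t ∈ T, t ^ p ≠ 1 → ∀ u : C, u ^ p = 1 → t * u ∈ T :=
    fun p hp hpd T hT t ht htp u hu => mul_mem_of_invariant C hcyc he hprim hp hpd T hT t ht htp u hu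
  -- two primes
  obtain ⟨p, q, hp, hq, hpq, hpd, hqd⟩ :
      ∃ p q : ℕ, p.Prime ∧ q.Prime ∧ p ≠ q ∧ p ∣ Nat.card C ∧ q ∣ Nat.card C := by
    have hp := Nat.minFac_prime (n := Nat.card C) (by rw [hcardC]; omega)
    by_contra h
    push Not at h
    refine hnp ?_
    rw [← hcardC, isPrimePow_iff_unique_prime_dvd]
    refine ⟨_, ⟨hp, Nat.minFac_dvd _⟩, fun r hr => ?_⟩
    by_contra hne
    exact h _ r hp hr.1 (Ne.symm hne) (Nat.minFac_dvd _) hr.2
  -- the orbits of the point stabilizer
  let orb : C → Finset C := fun x => Finset.univ.filter fun y => ∃ g : G, g • a = a ∧ act g x = y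
  have hact2 : ∀ (g h : G) (x : C), act g (act h x) = act (g * h) x := by
    intro g h x
    apply e.injective
    simp only [act, regAct_apply, mul_smul]
  have horb : ∀ x, ∀ g : G, g • a = a → ∀ y, (act g y ∈ orb x ↔ y ∈ orb x) := by
    intro x g hg y
    have hg' : g⁻¹ • a = a := inv_smul_eq_iff.mpr hg.symm
    simp only [orb, Finset.mem_filter, Finset.mem_univ, true_and]
    constructor
    · rintro ⟨h, hh, e1⟩
      refine ⟨g⁻¹ * h, by rw [mul_smul, hh, hg'], ?_⟩
      rw [← hact2, e1, hact2, inv_mul_cancel]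
      exact e.injective (by simp only [act, regAct_apply, one_smul])
    · rintro ⟨h, hh, e1⟩
      exact ⟨g * h, by rw [mul_smul, hh, hg], by rw [← hact2, e1]⟩
  have hone : ∀ x, x ≠ 1 → (1 : C) ∉ orb x := by
    intro x hx h
    simp only [orb, Finset.mem_filter, Finset.mem_univ, true_and] at h
    obtain ⟨g, hg, e1⟩ := h
    exact hx ((regAct_bijective g).1 (e1.trans (regAct_one he g hg).symm))
  have hmeet : ∀ x, x ≠ 1 → ∀ r : ℕ, r.Prime → r ∣ Nat.card C → ∃ t ∈ orb x, t ^ r = 1 := by
    intro x hx r hr hrd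
    by_contra h
    push Not at h
    have := Fact.mk hr
    obtain ⟨u, hu⟩ := exists_prime_orderOf_dvd_card' r hrd
    let S : Submonoid C :=
      { carrier := {c | ∀ y ∈ orb x, c * y ∈ orb x}
        one_mem' := fun y hy => by rwa [one_mul]
        mul_mem' := fun {c d} hc hd y hy => by rw [mul_assoc]; exact hc _ (hd y hy) }
    let S' : Subgroup C := { S with
      inv_mem' := fun {c} hc => by
        have hc1 : c * c ^ (orderOf c - 1) = 1 := by
          rw [← pow_succ', Nat.sub_add_cancel (orderOf_pos c), pow_orderOf_eq_one]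
        rw [inv_eq_of_mul_eq_one_right hc1]
        exact S.pow_mem (show c ∈ S from hc) _ }
    have hS' : ∀ g : G, g • a = a → ∀ c ∈ S', act g c ∈ S' := by
      intro g hg c hc y hy
      obtain ⟨hk, -⟩ := regAct_mul he g c 1
      set k : G := ((regAct C e g c)⁻¹ : C) * g * c with hkdef
      have hz : act k⁻¹ y ∈ orb x := (horb x k⁻¹ (inv_smul_eq_iff.mpr hk.symm) y).mpr hy
      have h1 := (horb x g hg _).mpr (hc _ hz)
      show regAct C e g c * y ∈ orb x
      rw [show act g (c * act k⁻¹ y) = regAct C e g c * y by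
        show regAct C e g (c * act k⁻¹ y) = _
        rw [(regAct_mul he g c _).2, ← hkdef]
        exact congrArg (_ * ·) (regAct_inv k y)] at h1
      exact h1
    have hne : S' ≠ ⊤ := by
      intro htop
      have hmem : x ∈ orb x := by
        simp only [orb, Finset.mem_filter, Finset.mem_univ, true_and]
        exact ⟨1, one_smul _ _, e.injective (by simp only [act, regAct_apply, one_smul])⟩
      have h1 := (htop.symm ▸ Subgroup.mem_top x⁻¹ : x⁻¹ ∈ S') x hmem
      rw [inv_mul_cancel] at h1
      exact hone x hx h1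
    have hbot := invariant_eq_bot he hprim S' hS' hne
    have hu1 : u = 1 := Subgroup.mem_bot.mp (hbot ▸ (show u ∈ S' from fun y hy => by
      rw [mul_comm]
      exact key r hr hrd _ (horb x) y hy (h y hy) u (by rw [← hu, pow_orderOf_eq_one])))
    rw [hu1, orderOf_one] at hu
    exact hr.ne_one hu.symm
  have hunique : ∀ x y : C, x ≠ 1 → y ≠ 1 → y ∈ orb x := by
    intro x y hx hy
    obtain ⟨t, ht, htp⟩ := hmeet x hx p hp hpd
    obtain ⟨u, hu, huq⟩ := hmeet y hy q hq hqd
    have hcop : ∀ z : C, z ^ p = 1 → z ^ q = 1 → z = 1 := by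
      intro z h1 h2
      refine orderOf_eq_one_iff.mp (Nat.dvd_one.mp ?_)
      have := Nat.dvd_gcd (orderOf_dvd_of_pow_eq_one h1) (orderOf_dvd_of_pow_eq_one h2)
      rwa [(Nat.coprime_primes hp hq).mpr hpq] at this
    have ht' : t ^ q ≠ 1 := fun h => hone x hx (hcop t htp h ▸ ht)
    have hu' : u ^ p ≠ 1 := fun h => hone y hy (hcop u h huq ▸ hu)
    have h1 := key q hq hqd _ (horb x) t ht ht' u huq
    have h2 := key p hp hpd _ (horb y) u hu hu' t htp
    rw [mul_comm] at h2
    simp only [orb, Finset.mem_filter, Finset.mem_univ, true_and] at h1 h2 ⊢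
    obtain ⟨g, hg, e1⟩ := h1
    obtain ⟨h, hh, e2⟩ := h2
    refine ⟨h⁻¹ * g, by rw [mul_smul, hg]; exact inv_smul_eq_iff.mpr hh.symm, ?_⟩
    rw [← hact2, e1, ← e2, hact2, inv_mul_cancel]
    exact e.injective (by simp only [act, regAct_apply, one_smul])
  rw [is_two_pretransitive_iff]
  intro b c d f hbc hdf
  have hmove : ∀ b c : Ω, b ≠ c → ∃ (g : G) (x : C), x ≠ 1 ∧ g • a = b ∧ g • e x = c := by
    intro b c hbc
    obtain ⟨y, rfl⟩ := e.surjective b
    refine ⟨y, e.symm ((y : G)⁻¹ • c), fun h => hbc ?_, (he y).symm, by simp⟩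
    rw [Equiv.symm_apply_eq, he 1, Subgroup.coe_one, one_smul, inv_smul_eq_iff] at h
    rw [h, he]
  obtain ⟨g, x, hx, rfl, rfl⟩ := hmove b c hbc
  obtain ⟨g', x', hx', rfl, rfl⟩ := hmove d f hdf
  have h := hunique x x' hx hx'
  simp only [orb, Finset.mem_filter, Finset.mem_univ, true_and] at h
  obtain ⟨k, hk, rfl⟩ := h
  refine ⟨g' * k * g⁻¹, ?_, ?_⟩
  · rw [← mul_smul, inv_mul_cancel_right, mul_smul, hk]
  · rw [← mul_smul, inv_mul_cancel_right, mul_smul]
    exact congrArg (g' • ·) (e.apply_symm_apply _).symm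

end CfsgLib.PrimRecog
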