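import Mathlib
import Cfsg.Agent.Lib.PrimRecog.CyclicBGroup

/-! Schur: a primitive group of composite prime power degree with a regular cyclic subgroup is two-transitive. -/
set_option autoImplicit false

namespace CfsgLib.PrimRecog

open MulAction

variable {G Ω : Type*} [Group G] [MulAction G Ω]

/-- Schur's theorem for prime power degree. -/
theorem twoTrans_of_regular_cyclic_prime_power [Finite G] [Finite Ω] {p m : ℕ} (hp : p.Prime) (hm : 2 ≤ m)
    (hn : Nat.card Ω = p ^ m) (C : Subgroup G) (hcyc : IsCyclic C)
    (hCt : IsPretransitive C Ω) (hCs : ∀ a : Ω, stabilizer C a = ⊥) (hprim : IsPreprimitive G Ω) :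
    IsMultiplyPretransitive G Ω 2 := by
  classical
  have hpm : p < p ^ m := by
    conv_lhs => rw [← pow_one p]
    exact Nat.pow_lt_pow_right hp.one_lt hm
  have hnt : Nontrivial Ω := Finite.one_lt_card_iff_nontrivial.mp (by rw [hn]; have := hp.two_le; omega)
  obtain ⟨a⟩ : Nonempty Ω := inferInstance
  have hbij : Function.Bijective fun x : C => (x : G) • a := by
    refine ⟨fun x y h => ?_, fun b => ?_⟩
    · have h' : (y⁻¹ * x) ∈ stabilizer C a := by
        show (y⁻¹ * x) • a = a
        rw [mul_smul, inv_smul_eq_iff]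
        exact h
      rw [hCs a, Subgroup.mem_bot, inv_mul_eq_one] at h'
      exact h'.symm
    · obtain ⟨x, hx⟩ := hCt.exists_smul_eq a b
      exact ⟨x, hx⟩
  let e : C ≃ Ω := Equiv.ofBijective _ hbij
  have he : ∀ x : C, e x = (x : G) • a := fun x => rfl
  let act : G → C → C := regAct C e
  have : Fintype C := Fintype.ofFinite C
  have := Fact.mk hp
  letI : CommGroup C := IsCyclic.commGroup
  have hcardC : Nat.card C = p ^ m := (Nat.card_congr e).trans hn
  have hpd : p ∣ Nat.card C := hcardC ▸ dvd_pow_self p (by omega)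
  have key := fun (T : Finset C) (hT : ∀ g : G, g • a = a → ∀ x, (regAct C e g x ∈ T ↔ x ∈ T)) t ht htp u hu =>
    mul_mem_of_invariant C hcyc he hprim hp hpd T hT t ht htp u hu
  let orb : C → Finset C := fun x => Finset.univ.filter fun y => ∃ g : G, g • a = a ∧ act g x = y
  have hact2 : ∀ (g h : G) (x : C), act g (act h x) = act (g * h) x := by
    intro g h x
    apply e.injective
    simp only [act, regAct_apply, mul_smul]
  have hact1 : ∀ x : C, act 1 x = x := fun x => e.injective (by simp only [act, regAct_apply, one_smul])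
  have horb : ∀ x, ∀ g : G, g • a = a → ∀ y, (act g y ∈ orb x ↔ y ∈ orb x) := by
    intro x g hg y
    have hg' : g⁻¹ • a = a := inv_smul_eq_iff.mpr hg.symm
    simp only [orb, Finset.mem_filter, Finset.mem_univ, true_and]
    constructor
    · rintro ⟨h, hh, e1⟩
      refine ⟨g⁻¹ * h, by rw [mul_smul, hh, hg'], ?_⟩
      rw [← hact2, e1, hact2, inv_mul_cancel, hact1]
    · rintro ⟨h, hh, e1⟩
      exact ⟨g * h, by rw [mul_smul, hh, hg], by rw [← hact2, e1]⟩
  have hself : ∀ x, x ∈ orb x := fun x => by
    simp only [orb, Finset.mem_filter, Finset.mem_univ, true_and]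
    exact ⟨1, one_smul _ _, hact1 x⟩
  have hone : ∀ x, x ≠ 1 → (1 : C) ∉ orb x := by
    intro x hx h
    simp only [orb, Finset.mem_filter, Finset.mem_univ, true_and] at h
    obtain ⟨g, hg, e1⟩ := h
    exact hx ((regAct_bijective g).1 (e1.trans (regAct_one he g hg).symm))
  have hsymm : ∀ x y, y ∈ orb x → x ∈ orb y := by
    intro x y h
    simp only [orb, Finset.mem_filter, Finset.mem_univ, true_and] at h ⊢
    obtain ⟨g, hg, rfl⟩ := h
    exact ⟨g⁻¹, inv_smul_eq_iff.mpr hg.symm, by rw [hact2, inv_mul_cancel, hact1]⟩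
  obtain ⟨u, hu⟩ := exists_prime_orderOf_dvd_card' p hpd
  have hup : u ^ p = 1 := by rw [← hu, pow_orderOf_eq_one]
  have hu1 : u ≠ 1 := fun h => hp.ne_one (by rw [← hu, h, orderOf_one])
  -- every orbit meets the subgroup of order `p`, and also its complement
  have hout : ∀ x, x ≠ 1 → ∃ t ∈ orb x, t ^ p ≠ 1 := by
    intro x hx
    by_contra h
    push Not at h
    have hle : Subgroup.closure (orb x : Set C) ≤ (powMonoidHom p : C →* C).ker :=
      (Subgroup.closure_le _).mpr fun y hy => h y hy
    have hker : (powMonoidHom p : C →* C).ker ≠ ⊤ := by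
      intro htop
      have h1 : Nat.card C ≤ p := by
        have h2 := IsCyclic.card_pow_eq_one_le (α := C) hp.pos
        refine le_trans ?_ h2
        rw [Nat.card_eq_fintype_card, ← Finset.card_univ]
        refine Finset.card_le_card fun y _ => Finset.mem_filter.mpr ⟨Finset.mem_univ _, ?_⟩
        exact (htop.symm ▸ Subgroup.mem_top y : y ∈ (powMonoidHom p : C →* C).ker)
      rw [hcardC] at h1
      omega
    have hbot := invariant_eq_bot he hprim _
      (closure_invariant he (orb x : Set C) fun g hg y hy => (horb x g hg y).mpr hy)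
      fun e' => hker (eq_top_iff.mpr (e' ▸ hle))
    exact hx (Subgroup.mem_bot.mp (hbot ▸ Subgroup.subset_closure (Finset.mem_coe.mpr (hself x))))
  have hmove : ∀ (g : G) (c : C), g • a = a → ∀ z : C,
      ((((regAct C e g c)⁻¹ : C) : G) * g * c) • a = a ∧
      act g (c * z) = act g c * act ((((regAct C e g c)⁻¹ : C) : G) * g * c) z := by
    intro g c _ z
    exact regAct_mul he g c z
  have hmeet : ∀ x, x ≠ 1 → ∃ t ∈ orb x, t ^ p = 1 := by
    intro x hx
    by_contra h
    push Not at h
    let S : Submonoid C :=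
      { carrier := {c | ∀ y ∈ orb x, c * y ∈ orb x}
        one_mem' := fun y hy => by rwa [one_mul]
        mul_mem' := fun {c d} hc hd y hy => by rw [mul_assoc]; exact hc _ (hd y hy) }
    let S' : Subgroup C := { S with
      inv_mem' := fun {c} hc => by
        have hc1 : c * c ^ (orderOf c - 1) = 1 := by
          rw [← pow_succ', Nat.sub_add_cancel (orderOf_pos c), pow_orderOf_eq_one]
        rw [inv_eq_of_mul_eq_one_right hc1]
        exact S.pow_mem (show c ∈ S from hc) _ }
    have hS' : ∀ g : G, g • a = a → ∀ c ∈ S', act g c ∈ S' := by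
      intro g hg c hc y hy
      obtain ⟨hk, -⟩ := hmove g c hg 1
      set k : G := ((regAct C e g c)⁻¹ : C) * g * c with hkdef
      have h1 := (horb x g hg _).mpr (hc _ ((horb x k⁻¹ (inv_smul_eq_iff.mpr hk.symm) y).mpr hy))
      rw [(hmove g c hg _).2, ← hkdef, hact2, mul_inv_cancel, hact1] at h1
      exact h1
    have hne : S' ≠ ⊤ := by
      intro htop
      have h1 := (htop.symm ▸ Subgroup.mem_top x⁻¹ : x⁻¹ ∈ S') x (hself x)
      rw [inv_mul_cancel] at h1
      exact hone x hx h1
    have hbot := invariant_eq_bot he hprim S' hS' hne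
    exact hu1 (Subgroup.mem_bot.mp (hbot ▸ (show u ∈ S' from fun y hy => by
      rw [mul_comm]
      exact key _ (horb x) y hy (h y hy) u hup)))
  -- there is a single orbit
  have hunique : ∀ x y : C, x ≠ 1 → y ≠ 1 → y ∈ orb x := by
    suffices h : ∀ x y : C, x ≠ 1 → y ≠ 1 → y ∉ orb x → 2 * (orb x).card ≤ Fintype.card C - 1 → False by
      intro x y hx hy
      by_contra hxy
      have hdisj : Disjoint (orb x) (orb y) := by
        rw [Finset.disjoint_left]
        intro z hzx hzy
        have hyz := hsymm y z hzy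
        simp only [orb, Finset.mem_filter, Finset.mem_univ, true_and] at hzx hyz hxy
        obtain ⟨g, hg, rfl⟩ := hzx
        obtain ⟨g', hg', e'⟩ := hyz
        exact hxy ⟨g' * g, by rw [mul_smul, hg, hg'], by rw [← hact2, e']⟩
      have hc : (orb x).card + (orb y).card ≤ Fintype.card C - 1 := by
        rw [← Finset.card_union_of_disjoint hdisj, ← Finset.card_univ, ← Finset.card_erase_of_mem (Finset.mem_univ (1 : C))]
        refine Finset.card_le_card fun z hz => Finset.mem_erase.mpr ⟨?_, Finset.mem_univ _⟩
        rintro rfl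
        rcases Finset.mem_union.mp hz with h' | h'
        exacts [hone x hx h', hone y hy h']
      rcases Nat.le_total (orb x).card (orb y).card with hle | hle
      · exact h x y hx hy hxy (by omega)
      · exact h y x hy hx (fun h' => hxy (hsymm y x h')) (by omega)
    intro x y hx hy hxy hsmall
    set T := orb x with hTdef
    let f : C → ℕ := fun c => (T.filter fun z => c * z ∈ T).card
    let B := T.filter fun z => ¬ z ^ p = 1
    let A := T.filter fun z => z ^ p = 1
    have hAB : A.card + B.card = T.card := Finset.card_filter_add_card_filter_not _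
    have hlt : A.card < B.card := by
      obtain ⟨t, ht, htp⟩ := hout x hx
      let R := (Finset.univ : Finset C).filter fun z => z ^ p = 1
      have h1 : (insert 1 A).card ≤ R.card := Finset.card_le_card fun z hz => by
        rcases Finset.mem_insert.mp hz with rfl | hz
        · simp [R]
        · simp [R, (Finset.mem_filter.mp hz).2]
      rw [Finset.card_insert_of_notMem (show (1 : C) ∉ A from fun h1' => hone x hx (Finset.mem_filter.mp h1').1)] at h1
      have h2 : (R.map (Equiv.mulLeft t).toEmbedding).card ≤ B.card := Finset.card_le_card fun z hz => by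
        obtain ⟨v, hv, rfl⟩ := Finset.mem_map.mp hz
        have hv' : v ^ p = 1 := (Finset.mem_filter.mp hv).2
        refine Finset.mem_filter.mpr ⟨key T (horb x) t ht htp v hv', ?_⟩
        show ¬ (t * v) ^ p = 1
        rwa [mul_pow, hv', mul_one]
      rw [Finset.card_map] at h2
      omega
    have hfinv : ∀ g : G, g • a = a → ∀ c, f c ≤ f (act g c) := by
      intro g hg c
      obtain ⟨hk, -⟩ := hmove g c hg 1
      refine Finset.card_le_card_of_injOn (act ((((regAct C e g c)⁻¹ : C) : G) * g * c)) ?_
        ((regAct_bijective _).1.injOn)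
      intro z hz
      obtain ⟨hz1, hz2⟩ := Finset.mem_filter.mp hz
      refine Finset.mem_filter.mpr ⟨(horb x _ hk z).mpr hz1, ?_⟩
      rw [← (hmove g c hg z).2]
      exact (horb x g hg _).mpr hz2
    have hlow : ∀ c, c ≠ 1 → B.card ≤ f c := by
      intro c hc
      obtain ⟨v, hv, hvp⟩ := hmeet c hc
      have hcv := hsymm c v hv
      simp only [orb, Finset.mem_filter, Finset.mem_univ, true_and] at hcv
      obtain ⟨g, hg, rfl⟩ := hcv
      refine le_trans (Finset.card_le_card fun z hz => ?_) (hfinv g hg v)
      obtain ⟨hz1, hz2⟩ := Finset.mem_filter.mp hz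
      refine Finset.mem_filter.mpr ⟨hz1, ?_⟩
      rw [mul_comm]
      exact key T (horb x) z hz1 hz2 v hvp
    have hsum : ∑ c : C, f c = T.card * T.card := by
      simp only [f, Finset.card_filter]
      rw [Finset.sum_comm, Finset.sum_congr rfl (fun z _ => ?_), Finset.sum_const, smul_eq_mul]
      rw [← Finset.card_filter]
      refine Finset.card_equiv (Equiv.mulRight z) fun c => ?_
      simp
    have h1 : ∑ c ∈ Finset.univ.erase (1 : C), B.card + T.card ≤ T.card * T.card := by
      rw [← hsum, ← Finset.sum_erase_add _ _ (Finset.mem_univ (1 : C))]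
      refine Nat.add_le_add (Finset.sum_le_sum fun c hc => hlow c (Finset.mem_erase.mp hc).1) (le_of_eq ?_)
      show T.card = (T.filter fun z => 1 * z ∈ T).card
      rw [Finset.filter_true_of_mem fun z hz => by rwa [one_mul]]
    rw [Finset.sum_const, smul_eq_mul, Finset.card_erase_of_mem (Finset.mem_univ _), Finset.card_univ] at h1
    have h2 : 2 * T.card * B.card ≤ (Fintype.card C - 1) * B.card := Nat.mul_le_mul_right _ hsmall
    nlinarith [hAB, hlt, h1, h2]
  rw [is_two_pretransitive_iff]
  intro b c d f hbc hdf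
  have hmv : ∀ b c : Ω, b ≠ c → ∃ (g : G) (x : C), x ≠ 1 ∧ g • a = b ∧ g • e x = c := by
    intro b c hbc
    obtain ⟨y, rfl⟩ := e.surjective b
    refine ⟨y, e.symm ((y : G)⁻¹ • c), fun h => hbc ?_, (he y).symm, by simp⟩
    rw [Equiv.symm_apply_eq, he 1, Subgroup.coe_one, one_smul, inv_smul_eq_iff] at h
    rw [h, he]
  obtain ⟨g, x, hx, rfl, rfl⟩ := hmv b c hbc
  obtain ⟨g', x', hx', rfl, rfl⟩ := hmv d f hdf
  have h := hunique x x' hx hx'
  simp only [orb, Finset.mem_filter, Finset.mem_univ, true_and] at h
  obtain ⟨k, hk, rfl⟩ := h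
  refine ⟨g' * k * g⁻¹, ?_, ?_⟩
  · rw [← mul_smul, inv_mul_cancel_right, mul_smul, hk]
  · rw [← mul_smul, inv_mul_cancel_right, mul_smul]
    exact congrArg (g' • ·) (e.apply_symm_apply _).symm

end CfsgLib.PrimRecog
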