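import Mathlib
import Cfsg.Agent.Lib.PrimRecog.Basic
import Cfsg.Agent.Lib.PrimRecog.Connectivity
import Cfsg.Agent.Lib.InvChar.SmallSolvable

/-! Transitive groups in which all derangements are involutions. -/
set_option autoImplicit false

namespace CfsgLib.PrimRecog

open MulAction
open scoped Pointwise

universe u

/-- A finite non-abelian simple group: all proper subgroups have index at least five. -/
lemma five_le_index {G : Type*} [Group G] [Finite G] [IsSimpleGroup G]
    (hnc : ∃ a b : G, a * b ≠ b * a) {C : Subgroup G} (hC : C ≠ ⊤) : 5 ≤ C.index := by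
  by_contra h
  push Not at h
  have hk : (toPermHom G (G ⧸ C)).ker = ⊥ := by
    rw [← Subgroup.normalCore_eq_ker]
    refine (IsSimpleGroup.eq_bot_or_eq_top_of_normal C.normalCore inferInstance).resolve_right fun e => ?_
    exact hC (eq_top_iff.mpr (e ▸ C.normalCore_le))
  have := CfsgLib.InvCharSmall.isSolvable_perm_of_card_le_four (α := G ⧸ C)
    (by rw [← Subgroup.index_eq_card]; omega)
  have hs : Group.IsSolvable G :=
    Group.isSolvable_of_isSolvable_injective ((MonoidHom.ker_eq_bot_iff _).mp hk)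
  obtain ⟨a, b, hab⟩ := hnc
  exact hab (IsSimpleGroup.comm_iff_isSolvable.mpr hs a b)

/-- A non-abelian simple group has derangements other than involutions in every transitive action. -/
theorem false_of_simple {G : Type*} [Group G] [Finite G] [IsSimpleGroup G]
    (hnc : ∃ a b : G, a * b ≠ b * a) {H : Subgroup G} (hH : H ≠ ⊤)
    (hyp : ∀ g : G, (∀ x : G, x⁻¹ * g * x ∉ H) → g * g = 1) : False := by
  classical
  have := Fintype.ofFinite G
  have := Fintype.ofFinite (G ⧸ H)
  let fx : G → ℕ := fun g => Fintype.card (fixedBy (G ⧸ H) g)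
  have hder : ∀ g : G, fx g = 0 → g * g = 1 := by
    intro g hg
    refine hyp g fun x hx => ?_
    have : IsEmpty (fixedBy (G ⧸ H) g) := Fintype.card_eq_zero_iff.mp hg
    refine this.false ⟨(x : G ⧸ H), ?_⟩
    show ((g * x : G) : G ⧸ H) = x
    refine (QuotientGroup.eq.mpr ?_)
    have := H.inv_mem hx
    simpa [mul_assoc] using this
  have hn : 2 ≤ Fintype.card (G ⧸ H) := by
    rw [← Nat.card_eq_fintype_card, ← Subgroup.index_eq_card]
    have h0 : H.index ≠ 0 := Subgroup.index_ne_zero_of_finite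
    have h1 : H.index ≠ 1 := fun e => hH (Subgroup.index_eq_one.mp e)
    omega
  set n := Fintype.card (G ⧸ H)
  have hsum : ∑ g : G, fx g = Fintype.card G := by
    have : Subsingleton (Quotient (orbitRel G (G ⧸ H))) :=
      (pretransitive_iff_subsingleton_quotient G (G ⧸ H)).mp inferInstance
    have : Fintype (Quotient (orbitRel G (G ⧸ H))) := Fintype.ofFinite _
    have h1 : Fintype.card (Quotient (orbitRel G (G ⧸ H))) = 1 := by
      have : Nonempty (Quotient (orbitRel G (G ⧸ H))) := ⟨Quotient.mk'' ((1 : G) : G ⧸ H)⟩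
      exact le_antisymm (Fintype.card_le_one_iff_subsingleton.mpr inferInstance) Fintype.card_pos
    show ∑ g : G, Fintype.card (fixedBy (G ⧸ H) g) = _
    rw [sum_card_fixedBy_eq_card_orbits_mul_card_group, h1, one_mul]
  have hfx1 : fx 1 = n := by
    show Fintype.card (fixedBy (G ⧸ H) (1 : G)) = _
    exact Fintype.card_congr ((Equiv.setCongr (Set.eq_univ_of_forall (s := fixedBy (G ⧸ H) (1 : G)) fun x => one_smul G x)).trans (Equiv.Set.univ _))
  let K : Finset G := Finset.univ.filter fun g => g = 1 ∨ fx g = 0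
  let E : Finset G := Finset.univ.filter fun g => g ≠ 1 ∧ 2 ≤ fx g
  have hKE : E.card + n ≤ K.card := by
    have h : ∀ g : G, 1 + (if g ≠ 1 ∧ 2 ≤ fx g then 1 else 0) + (if g = 1 then n else 0) ≤
        fx g + (if g = 1 ∨ fx g = 0 then 1 else 0) := by
      intro g
      by_cases hg : g = 1
      · subst hg; simp [hfx1]; omega
      · simp only [hg, ne_eq, not_false_iff, true_and, false_or, if_false, add_zero]
        split_ifs <;> omega
    have := Finset.sum_le_sum (s := (Finset.univ : Finset G)) fun g _ => h g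
    simp only [Finset.sum_add_distrib, hsum, Finset.sum_const, Finset.card_univ, smul_eq_mul,
      mul_one, Finset.sum_boole, Finset.sum_ite_eq', Finset.mem_univ, if_true, Nat.cast_id] at this
    show (Finset.univ.filter _).card + n ≤ (Finset.univ.filter _).card
    omega
  have hmem : ∀ x, x ∈ K → x * x = 1 := by
    intro x hx
    rcases (Finset.mem_filter.mp hx).2 with rfl | h
    · exact one_mul 1
    · exact hder x h
  have hKK : K * K ⊆ K ∪ E := by
    intro x hx
    obtain ⟨d, hd, e, he, rfl⟩ := Finset.mem_mul.mp hx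
    by_cases hx1 : d * e = 1
    · exact Finset.mem_union_left _ (by simp [K, hx1])
    by_cases hd1 : d = 1
    · subst hd1; rw [one_mul]; exact Finset.mem_union_left _ he
    by_cases hx0 : fx (d * e) = 0
    · exact Finset.mem_union_left _ (by simp [K, hx0])
    refine Finset.mem_union_right _ (by
      simp only [E, Finset.mem_filter, Finset.mem_univ, true_and]
      refine ⟨hx1, ?_⟩
      obtain ⟨⟨w, hw⟩⟩ := Fintype.card_pos_iff.mp (Nat.pos_of_ne_zero hx0)
      have hd0 : fx d = 0 := ((Finset.mem_filter.mp hd).2).resolve_left hd1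
      have hdw : (d * e) • d • w = d • w := by
        have h2 : d * e * d = d * (d * e)⁻¹ := by
          rw [mul_inv_rev, inv_eq_of_mul_eq_one_right (hmem d hd),
            inv_eq_of_mul_eq_one_right (hmem e he), ← mul_assoc]
        have h3 : (d * e)⁻¹ • w = w := by
          rw [inv_smul_eq_iff]; exact hw.symm
        rw [← mul_smul, h2, mul_smul, h3]
      have hne : d • w ≠ w := fun h => (Fintype.card_eq_zero_iff.mp hd0).false ⟨w, h⟩
      exact Fintype.one_lt_card_iff.mpr ⟨⟨d • w, hdw⟩, ⟨w, hw⟩, fun h => hne (congrArg Subtype.val h)⟩)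
  have hKKc := (Finset.card_le_card hKK).trans (Finset.card_union_le K E)
  have hall : K * K = Finset.univ := by
    by_contra hne
    have h1 : (1 : G) ∈ K := by simp [K]
    have h2 : ∀ x ∈ K, x⁻¹ ∈ K := fun x hx => by rwa [inv_eq_of_mul_eq_one_right (hmem x hx)]
    have h3 : ∀ g : G, ∀ x ∈ K, g * x * g⁻¹ ∈ K := by
      intro g x hx
      rcases (Finset.mem_filter.mp hx).2 with rfl | h
      · simp [K]
      · simp only [K, Finset.mem_filter, Finset.mem_univ, true_and]
        refine Or.inr (Fintype.card_eq_zero_iff.mpr ⟨?_⟩)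
        rintro ⟨w, hw⟩
        refine (Fintype.card_eq_zero_iff.mp h).false ⟨g⁻¹ • w, ?_⟩
        rw [mem_fixedBy] at hw ⊢
        rw [mul_smul, mul_smul] at hw
        rw [eq_inv_smul_iff, hw]
    have := card_mul_self_ge K h1 h2 h3 hne
    omega
  rw [hall, Finset.card_univ] at hKKc
  -- counting solutions of `d * e = g`
  let cen : G → ℕ := fun g => Nat.card (Subgroup.centralizer ({g} : Set G))
  have hfib : ∀ g : G, ((K ×ˢ K).filter fun p => p.1 * p.2 = g).card ≤ cen g := by
    intro g
    rcases ((K ×ˢ K).filter fun p => p.1 * p.2 = g).eq_empty_or_nonempty with h | ⟨p₀, hp₀⟩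
    · rw [h]; exact Nat.zero_le _
    have hconj : ∀ p ∈ (K ×ˢ K).filter (fun p => p.1 * p.2 = g), p.1 * g * p.1 = g⁻¹ := by
      intro p hp
      obtain ⟨hpK, hpg⟩ := Finset.mem_filter.mp hp
      obtain ⟨h1, h2⟩ := Finset.mem_product.mp hpK
      rw [← hpg, mul_inv_rev, inv_eq_of_mul_eq_one_right (hmem _ h1),
        inv_eq_of_mul_eq_one_right (hmem _ h2), ← mul_assoc p.1 p.1, hmem _ h1, one_mul]
    show _ ≤ Nat.card (Subgroup.centralizer ({g} : Set G))
    rw [Nat.card_eq_fintype_card, ← Finset.card_univ]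
    refine Finset.card_le_card_of_injOn (fun p => if h : p₀.1 * p.1 ∈ Subgroup.centralizer ({g} : Set G)
      then ⟨_, h⟩ else 1) (fun _ _ => Finset.mem_univ _) ?_
    intro p hp q hq hpq
    have hin : ∀ r ∈ (K ×ˢ K).filter (fun p => p.1 * p.2 = g),
        p₀.1 * r.1 ∈ Subgroup.centralizer ({g} : Set G) := by
      intro r hr
      rw [Subgroup.mem_centralizer_singleton_iff]
      have hr1 := hmem _ (Finset.mem_product.mp (Finset.mem_filter.mp hr).1).1
      have h01 := hmem _ (Finset.mem_product.mp (Finset.mem_filter.mp hp₀).1).1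
      have e1 : r.1 * g = g⁻¹ * r.1 := by
        rw [← hconj r hr, mul_assoc, hr1, mul_one]
      have e2 : p₀.1 * g⁻¹ = g * p₀.1 := by
        rw [← hconj p₀ hp₀, ← mul_assoc, ← mul_assoc, h01, one_mul]
      rw [mul_assoc, e1, ← mul_assoc, e2, mul_assoc]
    dsimp only at hpq
    rw [dif_pos (hin p hp), dif_pos (hin q hq)] at hpq
    have hpq' := congrArg Subtype.val hpq
    have e3 : p.1 = q.1 := mul_left_cancel hpq'
    refine Prod.ext e3 ?_
    have hp2 := (Finset.mem_filter.mp hp).2
    rw [← (Finset.mem_filter.mp hq).2, e3] at hp2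
    exact mul_left_cancel hp2
  have hcen : ∀ g : G, g ≠ 1 → 5 * cen g ≤ Fintype.card G := by
    intro g hg
    have hne : Subgroup.centralizer ({g} : Set G) ≠ ⊤ := by
      intro htop
      have hgc : g ∈ Subgroup.center G := Subgroup.mem_center_iff.mpr fun x => by
        have hx : x ∈ Subgroup.centralizer ({g} : Set G) := htop.symm ▸ Subgroup.mem_top x
        exact Subgroup.mem_centralizer_singleton_iff.mp hx
      rcases IsSimpleGroup.eq_bot_or_eq_top_of_normal (Subgroup.center G) inferInstance with h | h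
      · rw [h, Subgroup.mem_bot] at hgc; exact hg hgc
      · obtain ⟨a, b, hab⟩ := hnc
        exact hab (Subgroup.mem_center_iff.mp (h.symm ▸ Subgroup.mem_top b : b ∈ Subgroup.center G) a)
    rw [← Nat.card_eq_fintype_card, ← Subgroup.index_mul_card (Subgroup.centralizer ({g} : Set G))]
    exact Nat.mul_le_mul_right _ (five_le_index hnc hne)
  have hpairs : 5 * (K.card * K.card) + Fintype.card G ≤
      5 * Fintype.card G + Fintype.card G * Fintype.card G := by
    rw [← Finset.card_product,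
      Finset.card_eq_sum_card_fiberwise (f := fun p : G × G => p.1 * p.2) (t := Finset.univ)
        (fun _ _ => Finset.mem_univ _), Finset.mul_sum]
    have hle : ∀ g : G, 5 * ((K ×ˢ K).filter fun p => p.1 * p.2 = g).card +
        (if g = 1 then Fintype.card G else 0) ≤
        Fintype.card G + (if g = 1 then 5 * Fintype.card G else 0) := by
      intro g
      have h := hfib g
      by_cases hg : g = 1
      · have h5 : cen g ≤ Fintype.card G := by
          rw [← Nat.card_eq_fintype_card]; exact Subgroup.card_le_card_group _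
        rw [if_pos hg, if_pos hg]
        omega
      · have := hcen g hg
        rw [if_neg hg, if_neg hg]
        omega
    have := Finset.sum_le_sum (s := (Finset.univ : Finset G)) fun g _ => hle g
    simp only [Finset.sum_add_distrib, Finset.sum_ite_eq', Finset.mem_univ, if_true,
      Finset.sum_const, Finset.card_univ, smul_eq_mul] at this
    omega
  nlinarith [hKKc, hKE, hn, hpairs, mul_le_mul (show Fintype.card G + 2 ≤ 2 * K.card by omega)
    (show Fintype.card G + 2 ≤ 2 * K.card by omega) (Nat.zero_le _) (Nat.zero_le _)]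

/-- The conclusion: elementary abelian regular, or a normal exponent-two complement with fixed point free
odd point stabilizer. -/
def InvolDerangeShape {G : Type*} [Group G] (H : Subgroup G) : Prop :=
  (H = ⊥ ∧ ∀ g : G, g * g = 1) ∨ (H ≠ ⊥ ∧ ∃ V : Subgroup G, V.Normal ∧ V ⊓ H = ⊥ ∧ V ⊔ H = ⊤ ∧
    (∀ v ∈ V, v * v = 1) ∧ Odd (Nat.card H) ∧ ∀ h ∈ H, h ≠ 1 → ∀ v ∈ V, h * v = v * h → v = 1)

lemma eq_decomp {G : Type*} [Group G] {V H : Subgroup G} [hV : V.Normal] (hsup : V ⊔ H = ⊤) (x : G) :
    ∃ v ∈ V, ∃ h ∈ H, v * h = x :=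
  Subgroup.mem_sup_of_normal_left.mp (hsup.symm ▸ Subgroup.mem_top x)

lemma comm_of_sq {G : Type*} [Group G] {V : Subgroup G} (h : ∀ v ∈ V, v * v = 1) {a b : G}
    (ha : a ∈ V) (hb : b ∈ V) : a * b = b * a := by
  have := h _ (V.mul_mem ha hb)
  calc a * b = (a * b)⁻¹ := eq_inv_of_mul_eq_one_left this
    _ = b * a := by rw [mul_inv_rev, inv_eq_of_mul_eq_one_right (h a ha), inv_eq_of_mul_eq_one_right (h b hb)]

/-- An abelian normal supplement of a core-free subgroup is a complement. -/
lemma inf_eq_bot_of_comm {G : Type*} [Group G] {W H : Subgroup G} [hW : W.Normal]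
    (hc : ∀ a ∈ W, ∀ b ∈ W, a * b = b * a) (hsup : W ⊔ H = ⊤) (hcore : H.normalCore = ⊥) :
    W ⊓ H = ⊥ := by
  rw [eq_bot_iff, ← hcore]
  intro a ha b
  obtain ⟨haW, haH⟩ := Subgroup.mem_inf.mp ha
  obtain ⟨w, hw, h, hh, rfl⟩ := eq_decomp hsup b
  have h2 : h * a * h⁻¹ ∈ W := hW.conj_mem a haW h
  have h3 : w * h * a * (w * h)⁻¹ = h * a * h⁻¹ := by
    rw [mul_inv_rev, show w * h * a * (h⁻¹ * w⁻¹) = w * (h * a * h⁻¹) * w⁻¹ by group, hc w hw _ h2,
      mul_inv_cancel_right]
  rw [h3]
  exact H.mul_mem (H.mul_mem hh haH) (H.inv_mem hh)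

/-- The case of a normal complement of the point stabilizer. -/
lemma shape_of_complement {G : Type*} [Group G] [Finite G] {V H : Subgroup G} [hV : V.Normal]
    (hinf : V ⊓ H = ⊥) (hsup : V ⊔ H = ⊤) (hH : H ≠ ⊥) (hcore : H.normalCore = ⊥)
    (hyp : ∀ g : G, (∀ x : G, x⁻¹ * g * x ∉ H) → g * g = 1) : InvolDerangeShape H := by
  have hbot : ∀ x, x ∈ V → x ∈ H → x = 1 := fun x h1 h2 =>
    Subgroup.mem_bot.mp (hinf ▸ Subgroup.mem_inf.mpr ⟨h1, h2⟩)
  have hsq : ∀ v ∈ V, v * v = 1 := by
    intro v hv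
    by_cases hv1 : v = 1
    · rw [hv1, one_mul]
    refine hyp v fun x hx => hv1 ?_
    have := hbot _ (by simpa using hV.conj_mem v hv x⁻¹) hx
    simpa [mul_assoc] using congrArg (fun y => x * y * x⁻¹) this
  have hodd : Odd (Nat.card H) := by
    rw [← Nat.not_even_iff_odd, even_iff_two_dvd]
    intro h2
    have : Fact (Nat.Prime 2) := ⟨Nat.prime_two⟩
    obtain ⟨⟨z, hz⟩, hzo⟩ := exists_prime_orderOf_dvd_card' 2 h2
    rw [Subgroup.orderOf_mk] at hzo
    have hzz : z * z = 1 := by rw [← pow_two, ← hzo, pow_orderOf_eq_one]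
    have hz1 : z ≠ 1 := fun h => by rw [h, orderOf_one] at hzo; omega
    have hzc : ∀ v ∈ V, z * v = v * z := by
      intro v hv
      suffices h : z * v * z = v by
        calc z * v = z * v * z * z := by rw [mul_assoc _ z z, hzz, mul_one]
          _ = v * z := by rw [h]
      by_cases hd : ∃ x : G, x⁻¹ * (v * z) * x ∈ H
      · obtain ⟨x, hx⟩ := hd
        obtain ⟨w, hw, h, hh, rfl⟩ := eq_decomp hsup x
        have h1 : w⁻¹ * (v * z) * w ∈ H := by
          have := H.mul_mem (H.mul_mem hh hx) (H.inv_mem hh)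
          simpa [mul_assoc] using this
        have hzwz : z * w * z ∈ V := by
          have := hV.conj_mem w hw z
          rwa [inv_eq_of_mul_eq_one_right hzz] at this
        have h2 := hbot (w⁻¹ * v * (z * w * z)) (V.mul_mem (V.mul_mem (V.inv_mem hw) hv) hzwz)
          (by
            have := H.mul_mem h1 hz
            simpa [mul_assoc] using this)
        have hv' : v = w * (z * w * z) := by
          rw [mul_assoc, inv_mul_eq_one] at h2
          calc v = v * (z * w * z) * (z * w * z) := by rw [mul_assoc, hsq _ hzwz, mul_one]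
            _ = w * (z * w * z) := by rw [← h2]
        rw [hv']
        calc z * (w * (z * w * z)) * z = (z * w * z) * w * (z * z) := by group
          _ = (z * w * z) * w := by rw [hzz, mul_one]
          _ = w * (z * w * z) := comm_of_sq hsq hzwz hw
      · push Not at hd
        have := hyp _ hd
        calc z * v * z = v⁻¹ * ((v * z) * (v * z)) := by group
          _ = v := by rw [this, mul_one, inv_eq_of_mul_eq_one_right (hsq v hv)]
    refine hz1 (Subgroup.mem_bot.mp (hcore ▸ ?_))
    intro b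
    obtain ⟨w, hw, h, hh, rfl⟩ := eq_decomp hsup b
    have hc : Commute w (h * z * h⁻¹) := by
      have h1 : h⁻¹ * w * h ∈ V := by simpa using hV.conj_mem w hw h⁻¹
      show w * (h * z * h⁻¹) = h * z * h⁻¹ * w
      calc w * (h * z * h⁻¹) = h * ((h⁻¹ * w * h) * z) * h⁻¹ := by group
        _ = h * (z * (h⁻¹ * w * h)) * h⁻¹ := by rw [hzc _ h1]
        _ = h * z * h⁻¹ * w := by group
    have h3 : w * h * z * (w * h)⁻¹ = h * z * h⁻¹ := by
      rw [mul_inv_rev, show w * h * z * (h⁻¹ * w⁻¹) = w * (h * z * h⁻¹) * w⁻¹ by group, hc.eq,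
        mul_inv_cancel_right]
    rw [h3]
    exact H.mul_mem (H.mul_mem hh hz) (H.inv_mem hh)
  refine Or.inr ⟨hH, V, hV, hinf, hsup, hsq, hodd, fun h hh hh1 v hv hc => ?_⟩
  by_contra hv1
  set k := orderOf h
  have hk : Odd k := hodd.of_dvd_nat (Subgroup.orderOf_dvd_natCard H hh)
  have hvk : (v * h) ^ k = v := by
    rw [Commute.mul_pow hc.symm, pow_orderOf_eq_one, mul_one]
    obtain ⟨m, hm⟩ := hk
    rw [hm, pow_succ, pow_mul, pow_two, hsq v hv, one_pow, one_mul]
  have h2 : (v * h) * (v * h) = 1 := hyp _ fun x hx => hv1 (by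
    have h3 := H.pow_mem hx k
    rw [show x⁻¹ * (v * h) * x = x⁻¹ * (v * h) * x⁻¹⁻¹ by rw [inv_inv], conj_pow, hvk, inv_inv] at h3
    have := hbot _ (by simpa using hV.conj_mem v hv x⁻¹) h3
    simpa [mul_assoc] using congrArg (fun y => x * y * x⁻¹) this)
  have h4 : h * h = 1 := by
    calc h * h = (v * v)⁻¹ * (v * (v * h) * h) := by group
      _ = (v * v)⁻¹ * (v * (h * v) * h) := by rw [hc]
      _ = (v * v)⁻¹ * ((v * h) * (v * h)) := by group
      _ = 1 := by rw [h2, hsq v hv, inv_one, one_mul]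
  refine hh1 (orderOf_eq_one_iff.mp ?_)
  show k = 1
  have h5 : k ∣ 2 := orderOf_dvd_of_pow_eq_one (by rw [pow_two, h4])
  obtain ⟨m, hm⟩ := hk
  rcases (Nat.dvd_prime Nat.prime_two).mp h5 with h | h <;> omega

/-- Core-free subgroups all of whose derangements are involutions. -/
theorem involDerangeShape : ∀ (k : ℕ) (G : Type u) [Group G] [Finite G], Nat.card G = k →
    ∀ H : Subgroup G, H.normalCore = ⊥ →
      (∀ g : G, (∀ x : G, x⁻¹ * g * x ∉ H) → g * g = 1) → InvolDerangeShape H := by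
  intro k
  induction k using Nat.strong_induction_on with
  | _ k IH =>
  intro G _ _ hk H hcore hyp
  by_cases hH : H = ⊥
  · refine Or.inl ⟨hH, fun g => ?_⟩
    by_cases hg : g = 1
    · rw [hg, one_mul]
    refine hyp g fun x hx => hg ?_
    rw [hH, Subgroup.mem_bot] at hx
    simpa [mul_assoc] using congrArg (fun y => x * y * x⁻¹) hx
  have hHtop : H ≠ ⊤ := fun h => hH (by
    rw [h] at hcore ⊢; rwa [Subgroup.normalCore_eq_self] at hcore)
  have : Nontrivial G := by
    by_contra h
    rw [not_nontrivial_iff_subsingleton] at h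
    exact hH (Subgroup.eq_bot_of_subsingleton H)
  obtain ⟨N, hN, hN1, hmin⟩ := exists_minimal_normal (G := G)
  by_cases hM : N ⊔ H = ⊤
  · by_cases hNc : ∀ a ∈ N, ∀ b ∈ N, a * b = b * a
    · exact shape_of_complement (inf_eq_bot_of_comm hNc hM hcore) hM hH hcore hyp
    exfalso
    push Not at hNc
    obtain ⟨a, ha, b, hb, hab⟩ := hNc
    by_cases hNtop : N = ⊤
    · have : IsSimpleGroup G := { eq_bot_or_eq_top_of_normal := fun X hX =>
        (hmin X hX (hNtop ▸ le_top)).imp_right (·.trans hNtop) }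
      exact false_of_simple ⟨a, b, hab⟩ hHtop hyp
    have hlt : Nat.card N < k := hk ▸ lt_of_le_of_ne (Subgroup.card_le_card_group N)
      (fun e => hNtop (Subgroup.eq_top_of_card_eq N e))
    have hconjN : ∀ (g : N) (x : G), x⁻¹ * g * x ∈ H → ∃ y : N, y⁻¹ * g * y ∈ H.subgroupOf N := by
      intro g x hx
      obtain ⟨w, hw, h, hh, rfl⟩ := eq_decomp hM x
      refine ⟨⟨w, hw⟩, ?_⟩
      show w⁻¹ * (g : G) * w ∈ H
      have := H.mul_mem (H.mul_mem hh hx) (H.inv_mem hh)
      simpa [mul_assoc] using this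
    have hcoreN : (H.subgroupOf N).normalCore = ⊥ := by
      rw [eq_bot_iff]
      intro x hx
      refine Subgroup.mem_bot.mpr (Subtype.ext (Subgroup.mem_bot.mp ?_))
      rw [← hcore]
      intro y
      obtain ⟨w, hw, h, hh, hwh⟩ := eq_decomp hM y⁻¹
      have h1 := H.mul_mem (H.mul_mem (H.inv_mem hh) (hx ⟨w, hw⟩⁻¹)) hh
      have e : y = h⁻¹ * w⁻¹ := by rw [← mul_inv_rev, hwh, inv_inv]
      rw [e]
      simpa [mul_assoc] using h1
    rcases IH _ hlt N rfl _ hcoreN (fun g hg => Subtype.ext (hyp g fun x hx => by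
        obtain ⟨y, hy⟩ := hconjN g x hx
        exact hg y hy)) with ⟨-, h⟩ | ⟨hne, V, hV, hVinf, hVsup, hVsq, hodd, -⟩
    · exact hab (comm_of_sq (fun v hv => congrArg Subtype.val (h ⟨v, hv⟩)) ha hb)
    -- `V` is the set of solutions of `x * x = 1`
    have hVmem : ∀ x : N, x * x = 1 → x ∈ V := by
      intro x hx
      obtain ⟨v, hv, h, hh, rfl⟩ := eq_decomp hVsup x
      suffices h1 : h = 1 by rw [h1, mul_one]; exact hv
      have h2 : h * h ∈ V := by
        have : h * h = (h * v * h⁻¹)⁻¹ * v⁻¹ * ((v * h) * (v * h)) * 1 := by group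
        rw [hx, mul_one, mul_one] at this
        rw [this]
        exact V.mul_mem (V.inv_mem (hV.conj_mem v hv h)) (V.inv_mem hv)
      have h3 : h * h = 1 := Subgroup.mem_bot.mp (hVinf ▸ Subgroup.mem_inf.mpr
        ⟨h2, (H.subgroupOf N).mul_mem hh hh⟩)
      refine orderOf_eq_one_iff.mp ?_
      obtain ⟨m, hm⟩ := hodd.of_dvd_nat (Subgroup.orderOf_dvd_natCard _ hh)
      rcases (Nat.dvd_prime Nat.prime_two).mp (orderOf_dvd_of_pow_eq_one
        (show h ^ 2 = 1 by rw [pow_two, h3])) with h | h <;> omega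
    let V' : Subgroup G := V.map N.subtype
    have hV' : V'.Normal := ⟨by
      rintro _ ⟨v, hv, rfl⟩ g
      refine ⟨⟨g * v * g⁻¹, hN.conj_mem _ v.2 g⟩, hVmem _ (Subtype.ext ?_), rfl⟩
      show g * (v : G) * g⁻¹ * (g * v * g⁻¹) = 1
      have := congrArg Subtype.val (hVsq v hv)
      calc g * (v : G) * g⁻¹ * (g * v * g⁻¹) = g * ((v : G) * v) * g⁻¹ := by group
        _ = 1 := by rw [show (v : G) * v = 1 from this, mul_one, mul_inv_cancel]⟩
    rcases hmin V' hV' (Subgroup.map_subtype_le V) with h | h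
    · have hVbot : V = ⊥ := (Subgroup.map_eq_bot_iff_of_injective _ N.subtype_injective).mp h
      rw [hVbot, bot_sup_eq] at hVsup
      rw [hVsup] at hcoreN hne
      rw [Subgroup.normalCore_eq_self] at hcoreN
      exact hne hcoreN
    · refine hab (comm_of_sq (fun v hv => ?_) ha hb)
      rw [← h] at hv
      obtain ⟨w, hw, rfl⟩ := hv
      exact congrArg Subtype.val (hVsq w hw)
  · -- a block system
    set M := N ⊔ H
    set L := M.normalCore
    have hNL : N ≤ L := Subgroup.normal_le_normalCore.mpr le_sup_left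
    have hHM : H ≤ M := le_sup_right
    have hlt : Nat.card (G ⧸ L) < k := by
      rw [← hk, Subgroup.card_eq_card_quotient_mul_card_subgroup L]
      refine lt_mul_of_one_lt_right Nat.card_pos ?_
      rw [Subgroup.one_lt_card_iff_ne_bot]
      exact fun e => hN1 (le_bot_iff.mp (e ▸ hNL))
    let π := QuotientGroup.mk' L
    have hLM : L ≤ M := M.normalCore_le
    have hmemM : ∀ x, π x ∈ M.map π ↔ x ∈ M := fun x => by
      rw [← Subgroup.mem_comap, Subgroup.comap_map_eq, QuotientGroup.ker_mk', sup_eq_left.mpr hLM]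
    have hout : ∀ g : G, (∀ q, q⁻¹ * π g * q ∉ M.map π) → g * g = 1 := fun g hg =>
      hyp g fun x hx => hg (π x) (by rw [← map_inv, ← map_mul, ← map_mul, hmemM]; exact hHM hx)
    have hcoreQ : (M.map π).normalCore = ⊥ := by
      rw [eq_bot_iff]
      intro q hq
      obtain ⟨x, rfl⟩ := QuotientGroup.mk'_surjective L q
      rw [Subgroup.mem_bot]
      refine (QuotientGroup.eq_one_iff x).mpr fun b => ?_
      rw [← hmemM, map_mul, map_mul, map_inv]
      exact hq (π b)
    have hinvL : ∀ g : G, (∀ q, q⁻¹ * π g * q ∉ M.map π) → ∀ l ∈ L, g * l * g = l⁻¹ := by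
      intro g hg l hl
      have h2 : (g * l) * (g * l) = 1 := hout _ fun q => by
        rw [map_mul, show π l = 1 from (QuotientGroup.eq_one_iff l).mpr hl, mul_one]
        exact hg q
      calc g * l * g = (g * l) * (g * l) * l⁻¹ := by group
        _ = l⁻¹ := by rw [h2, one_mul]
    rcases IH _ hlt (G ⧸ L) rfl (M.map π) hcoreQ (fun q hq => by
        obtain ⟨g, rfl⟩ := QuotientGroup.mk'_surjective L q
        rw [← map_mul, hout g hq, map_one]) with
      ⟨hbot, -⟩ | ⟨hne, V, hV, hVinf, hVsup, -, -, hfpf⟩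
    · exfalso
      have hML : M ≤ L := fun x hx => by
        rw [← QuotientGroup.eq_one_iff, ← Subgroup.mem_bot, ← hbot]
        exact Subgroup.mem_map_of_mem π hx
      obtain ⟨g₀, hg₀⟩ : ∃ g₀, g₀ ∉ M := by
        by_contra h
        push Not at h
        exact hM (eq_top_iff.mpr fun x _ => h x)
      have hgq : ∀ g, g ∉ M → ∀ q, q⁻¹ * π g * q ∉ M.map π := fun g hg q h => hg (by
        rw [hbot, Subgroup.mem_bot] at h
        rw [← hmemM, hbot, Subgroup.mem_bot]
        simpa [mul_assoc] using congrArg (fun y => q * y * q⁻¹) h)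
      have hg2 := hout _ (hgq _ hg₀)
      have hLc : ∀ a ∈ L, ∀ b ∈ L, a * b = b * a := by
        intro a ha b hb
        have h1 := hinvL _ (hgq _ hg₀) _ (L.mul_mem ha hb)
        have h2 : g₀ * (a * b) * g₀ = (g₀ * a * g₀) * (g₀ * b * g₀) := by
          rw [show g₀ * a * g₀ * (g₀ * b * g₀) = g₀ * a * (g₀ * g₀) * b * g₀ by group, hg2]; group
        rw [h2, hinvL _ (hgq _ hg₀) a ha, hinvL _ (hgq _ hg₀) b hb] at h1
        rw [← mul_inv_rev, inv_inj] at h1
        exact h1.symm
      refine hH (le_bot_iff.mp (hcore ▸ ?_))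
      intro a ha b
      have haL := hML (hHM ha)
      by_cases hb : b ∈ M
      · rw [hLc b (hML hb) a haL, mul_inv_cancel_right]; exact ha
      · rw [inv_eq_of_mul_eq_one_right (hout _ (hgq _ hb)), hinvL _ (hgq _ hb) a haL]
        exact H.inv_mem ha
    -- the nontrivial elements of `V` are derangements of the quotient
    have hVder : ∀ v ∈ V, v ≠ 1 → ∀ q, q⁻¹ * v * q ∉ M.map π := by
      intro v hv hv1 q hq
      refine hv1 ?_
      have h0 : q⁻¹ * v * q ∈ V := by
        have := hV.conj_mem v hv q⁻¹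
        rwa [inv_inv] at this
      have h := Subgroup.mem_bot.mp (hVinf ▸ Subgroup.mem_inf.mpr ⟨h0, hq⟩)
      simpa [mul_assoc] using congrArg (fun y => q * y * q⁻¹) h
    obtain ⟨v₁, hv₁, hv₁1⟩ : ∃ v ∈ V, v ≠ 1 := by
      by_contra h
      push Not at h
      rw [(Subgroup.eq_bot_iff_forall V).mpr h, bot_sup_eq] at hVsup
      exact hM (eq_top_iff.mpr fun x _ => (hmemM x).mp (hVsup.symm ▸ Subgroup.mem_top _))
    obtain ⟨h, hh, hh1⟩ : ∃ h ∈ M.map π, h ≠ 1 := by
      by_contra h
      push Not at h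
      exact hne ((Subgroup.eq_bot_iff_forall _).mpr h)
    set v₂ := h * v₁ * h⁻¹ with hv₂def
    have hv₂ : v₂ ∈ V := hV.conj_mem v₁ hv₁ h
    have hv₂1 : v₂ ≠ 1 := by
      intro e
      rw [hv₂def] at e
      exact hv₁1 (by simpa using e)
    have hv12 : v₁ * v₂ ≠ 1 := by
      intro e
      refine hv₁1 (hfpf h hh hh1 v₁ hv₁ ?_)
      obtain ⟨g, hg⟩ := QuotientGroup.mk'_surjective L v₁
      have h11 : v₁ * v₁ = 1 := by
        rw [← hg, ← map_mul, hout g (hg ▸ hVder v₁ hv₁ hv₁1), map_one]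
      have e2 : v₁ = v₂ := mul_left_cancel (h11.trans e.symm)
      calc h * v₁ = v₂ * h := by rw [hv₂def]; group
        _ = v₁ * h := by rw [e2]
    obtain ⟨g₁, hg₁⟩ := QuotientGroup.mk'_surjective L v₁
    obtain ⟨g₂, hg₂⟩ := QuotientGroup.mk'_surjective L v₂
    have hd₁ : ∀ q, q⁻¹ * π g₁ * q ∉ M.map π := hg₁.symm ▸ hVder v₁ hv₁ hv₁1
    have hd₂ : ∀ q, q⁻¹ * π g₂ * q ∉ M.map π := hg₂.symm ▸ hVder v₂ hv₂ hv₂1
    have hd₃ : ∀ q, q⁻¹ * π (g₁ * g₂) * q ∉ M.map π := by
      rw [map_mul, show π g₁ = v₁ from hg₁, show π g₂ = v₂ from hg₂]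
      exact hVder _ (V.mul_mem hv₁ hv₂) hv12
    have hL2 : ∀ l ∈ L, l * l = 1 := by
      intro l hl
      have e : g₁ * g₂ = g₂ * g₁ := by
        calc g₁ * g₂ = (g₁ * g₂)⁻¹ := eq_inv_of_mul_eq_one_left (hout _ hd₃)
          _ = g₂ * g₁ := by rw [mul_inv_rev, inv_eq_of_mul_eq_one_right (hout _ hd₁),
            inv_eq_of_mul_eq_one_right (hout _ hd₂)]
      have h1 := hinvL _ hd₃ l hl
      have h2 : g₁ * g₂ * l * (g₁ * g₂) = l := by
        calc g₁ * g₂ * l * (g₁ * g₂) = g₁ * g₂ * l * (g₂ * g₁) := by rw [← e]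
          _ = g₁ * (g₂ * l * g₂) * g₁ := by group
          _ = l := by rw [hinvL _ hd₂ l hl, hinvL _ hd₁ _ (L.inv_mem hl), inv_inv]
      rw [h2] at h1
      calc l * l = l * l⁻¹ := by rw [← h1]
        _ = 1 := mul_inv_cancel l
    set W := V.comap π with hWdef
    have hW : W.Normal := Subgroup.Normal.comap hV π
    have hWsq : ∀ w ∈ W, w * w = 1 := by
      intro w hw
      by_cases hw1 : π w = 1
      · exact hL2 w ((QuotientGroup.eq_one_iff w).mp hw1)
      · exact hout w (hVder _ hw hw1)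
    have hLW : L ≤ W := fun x hx => by
      show π x ∈ V
      rw [show π x = 1 from (QuotientGroup.eq_one_iff x).mpr hx]
      exact V.one_mem
    have hWM : M ≤ W ⊔ H := sup_le_sup_right (hNL.trans hLW) H
    have hWsup : W ⊔ H = ⊤ := eq_top_iff.mpr fun x _ => by
      obtain ⟨v, hv, m, hm, hvm⟩ := eq_decomp hVsup (π x)
      obtain ⟨m, hm', rfl⟩ := hm
      have h1 : x * m⁻¹ ∈ W := by
        show π (x * m⁻¹) ∈ V
        rw [map_mul, ← hvm, map_inv, mul_inv_cancel_right]
        exact hv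
      rw [← inv_mul_cancel_right x m]
      exact Subgroup.mul_mem _ (Subgroup.mem_sup_left h1) (hWM hm')
    exact shape_of_complement (inf_eq_bot_of_comm (fun _ ha _ hb => comm_of_sq hWsq ha hb) hWsup hcore)
      hWsup hH hcore hyp

end CfsgLib.PrimRecog
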