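import Cfsg.Agent.Lib.PrimRecog.Affine

/-! The subgroup generated by the derangements of a transitive group. -/
set_option autoImplicit false

namespace CfsgLib.PrimRecog

open MulAction

variable {G Ω : Type*} [Group G] [MulAction G Ω]

/-- The subgroup generated by the derangements. -/
def derSubgroup (G Ω : Type*) [Group G] [MulAction G Ω] : Subgroup G :=
  Subgroup.closure {g : G | ∀ ω : Ω, g • ω ≠ ω}

lemma derSubgroup_normal : (derSubgroup G Ω).Normal := by
  refine ⟨fun x hx g => ?_⟩
  induction hx using Subgroup.closure_induction with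
  | mem x hx => exact Subgroup.subset_closure (isDer_conj (Ω := Ω) hx g)
  | one => simp
  | mul x y _ _ hx hy =>
    have := Subgroup.mul_mem _ hx hy
    simpa [mul_assoc] using this
  | inv x _ hx =>
    have := Subgroup.inv_mem _ hx
    simpa [mul_assoc] using this

lemma not_isDer_of_notMem {g : G} (hg : g ∉ derSubgroup G Ω) : ¬ IsDer Ω g :=
  fun h => hg (Subgroup.subset_closure h)

/-- The derangements generate a transitive subgroup. -/
theorem derSubgroup_transitive [Finite G] [Finite Ω] (htr : IsPretransitive G Ω) :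
    IsPretransitive (derSubgroup G Ω) Ω := by
  classical
  rcases isEmpty_or_nonempty Ω with hΩ | hΩ
  · exact ⟨fun x => isEmptyElim x⟩
  set D := derSubgroup G Ω
  have := Fintype.ofFinite G
  have hall := CfsgLib.Maximal.sum_natCard_fixedBy_of_transitive (G := G) (Ω := Ω) htr
  have hDsum : ∑ g ∈ Finset.univ.filter (· ∈ D), Nat.card (fixedBy Ω g) =
      Nat.card (Quotient (orbitRel D Ω)) * (Finset.univ.filter (· ∈ D)).card := by
    rw [Finset.sum_subtype (Finset.univ.filter (· ∈ D)) (p := (· ∈ D)) (by simp)]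
    rw [← Fintype.card_subtype]
    convert CfsgLib.Maximal.sum_natCard_fixedBy (G := D) (Ω := Ω) using 1
    exact Finset.sum_congr rfl fun _ _ => rfl
  have hout : (Finset.univ.filter (fun g : G => g ∉ D)).card ≤
      ∑ g ∈ Finset.univ.filter (fun g : G => g ∉ D), Nat.card (fixedBy Ω g) := by
    rw [Finset.card_eq_sum_ones]
    exact Finset.sum_le_sum fun g hg => Nat.one_le_iff_ne_zero.mpr fun h =>
      not_isDer_of_notMem (Finset.mem_filter.mp hg).2 (card_fixedBy_eq_zero_iff.mp h)
  rw [← Finset.sum_filter_add_sum_filter_not Finset.univ (· ∈ D), hDsum] at hall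
  have hcard := Finset.card_filter_add_card_filter_not (s := (Finset.univ : Finset G)) (· ∈ D)
  rw [Finset.card_univ] at hcard
  have hpos : 0 < (Finset.univ.filter (· ∈ D)).card :=
    Finset.card_pos.mpr ⟨1, by simp [D.one_mem]⟩
  have hle : Nat.card (Quotient (orbitRel D Ω)) ≤ 1 := by
    by_contra h
    have := Nat.mul_le_mul_right (Finset.univ.filter (· ∈ D)).card (show 2 ≤ _ from (not_le.mp h))
    omega
  rw [pretransitive_iff_subsingleton_quotient]
  exact Finite.card_le_one_iff_subsingleton.mp hle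

/-- Outside the derangement subgroup every element fixes exactly one point. -/
theorem card_fixedBy_of_notMem [Finite G] [Finite Ω] [Nonempty Ω] (htr : IsPretransitive G Ω)
    {g : G} (hg : g ∉ derSubgroup G Ω) : Nat.card (fixedBy Ω g) = 1 :=
  fix_eq_one_of_transitive (derSubgroup_transitive htr) (fun _ h => not_isDer_of_notMem h) g hg

/-- The rank formula. -/
theorem rank_formula [Finite G] [Finite Ω] (htr : IsPretransitive G Ω) :
    Nat.card (orbitRel.Quotient (derSubgroup G Ω) (Ω × Ω)) - 1 =
      (Nat.card (orbitRel.Quotient G (Ω × Ω)) - 1) * (derSubgroup G Ω).index := by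
  classical
  rcases isEmpty_or_nonempty Ω with hΩ | hΩ
  · simp [orbitRel.Quotient]
  set D := derSubgroup G Ω
  have := Fintype.ofFinite G
  have hG := CfsgLib.Maximal.sum_sq_natCard_fixedBy (G := G) (Ω := Ω)
  have hDsum : ∑ g ∈ Finset.univ.filter (· ∈ D), Nat.card (fixedBy Ω g) ^ 2 =
      Nat.card (orbitRel.Quotient D (Ω × Ω)) * Nat.card D := by
    rw [Finset.sum_subtype (Finset.univ.filter (· ∈ D)) (p := (· ∈ D)) (by simp),
      Nat.card_eq_fintype_card (α := D)]
    convert CfsgLib.Maximal.sum_sq_natCard_fixedBy (G := D) (Ω := Ω) using 1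
    exact Finset.sum_congr rfl fun _ _ => rfl
  rw [← Finset.sum_filter_add_sum_filter_not Finset.univ (· ∈ D), hDsum,
    Finset.sum_congr rfl (g := fun _ => 1) (fun g hg => by
      rw [card_fixedBy_of_notMem htr (Finset.mem_filter.mp hg).2, one_pow]),
    ← Finset.card_eq_sum_ones] at hG
  have hcard := Finset.card_filter_add_card_filter_not (s := (Finset.univ : Finset G)) (· ∈ D)
  rw [Finset.card_univ, ← Fintype.card_subtype, ← Nat.card_eq_fintype_card] at hcard
  change Nat.card D + _ = _ at hcard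
  rw [← Nat.card_eq_fintype_card (α := G), ← Subgroup.card_mul_index D] at hG hcard
  set rD := Nat.card (orbitRel.Quotient D (Ω × Ω))
  set rG := Nat.card (orbitRel.Quotient G (Ω × Ω))
  have hD0 : 0 < Nat.card D := Nat.card_pos
  obtain ⟨ω⟩ := hΩ
  have : Nonempty (orbitRel.Quotient D (Ω × Ω)) := ⟨Quotient.mk'' (ω, ω)⟩
  have : Nonempty (orbitRel.Quotient G (Ω × Ω)) := ⟨Quotient.mk'' (ω, ω)⟩
  have hrD : 1 ≤ rD := Finite.card_pos
  have hrG : 1 ≤ rG := Finite.card_pos
  obtain ⟨a, ha⟩ := Nat.exists_eq_add_of_le hrD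
  obtain ⟨b, hb⟩ := Nat.exists_eq_add_of_le hrG
  change _ = rG * _ at hG
  rw [ha, hb] at hG
  rw [ha, hb, Nat.add_sub_cancel_left, Nat.add_sub_cancel_left]
  refine Nat.eq_of_mul_eq_mul_left hD0 ?_
  nlinarith

/-- If all point stabilizers lie in a normal subgroup, its index divides the number of points. -/
theorem index_dvd_card_of_stabilizer_le {H Y : Type*} [Group H] [Finite H] [MulAction H Y] [Finite Y]
    (N : Subgroup H) (hle : ∀ y : Y, stabilizer H y ≤ N) : N.index ∣ Nat.card Y := by
  classical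
  have := Fintype.ofFinite (Quotient (orbitRel H Y))
  rw [Nat.card_congr (selfEquivSigmaOrbits H Y), Nat.card_sigma]
  refine Finset.dvd_sum fun q _ => ?_
  rw [Nat.card_coe_set_eq, ← index_stabilizer]
  exact Subgroup.index_dvd_of_le (hle _)

/-- The index of a transitive normal subgroup is its relative index in a point stabilizer. -/
lemma index_subgroupOf_stabilizer {N : Subgroup G} (hN : N.Normal) (htr : IsPretransitive N Ω) (a : Ω) :
    (N.subgroupOf (stabilizer G a)).index = N.index := by
  have := hN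
  have htop : stabilizer G a ⊔ N = ⊤ := by
    refine (Subgroup.eq_top_iff' _).mpr fun g => ?_
    obtain ⟨⟨d, hd⟩, hda⟩ := htr.exists_smul_eq a (g • a)
    change d • a = g • a at hda
    have h1 : d⁻¹ * g ∈ stabilizer G a := by rw [mem_stabilizer_iff, mul_smul, ← hda, inv_smul_smul]
    have h2 : g = d * (d⁻¹ * g) := (mul_inv_cancel_left d g).symm
    rw [h2]
    exact Subgroup.mul_mem _ (Subgroup.mem_sup_right hd) (Subgroup.mem_sup_left h1)
  show N.relIndex (stabilizer G a) = N.index
  rw [← Subgroup.relIndex_sup_right, htop, Subgroup.relIndex_top_right]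

/-- The index divides the size of any invariant set avoiding the point. -/
theorem index_dvd_ncard {X : Type*} [MulAction G X] [Finite G] [Finite X] {N : Subgroup G}
    (hN : N.Normal) (htr : IsPretransitive N X) (a : X) (s : Set X)
    (hs : ∀ g ∈ stabilizer G a, ∀ x ∈ s, g • x ∈ s)
    (hle : ∀ x ∈ s, ∀ g : G, g • a = a → g • x = x → g ∈ N) : N.index ∣ s.ncard := by
  rw [← index_subgroupOf_stabilizer hN htr a]
  let S : SubMulAction (stabilizer G a) X :=
    { carrier := s, smul_mem' := fun g x hx => hs g g.2 x hx }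
  have := index_dvd_card_of_stabilizer_le (H := stabilizer G a) (Y := S) (N.subgroupOf (stabilizer G a))
    (fun x g hg => hle x x.2 g g.2 (congrArg Subtype.val hg))
  rw [← Nat.card_coe_set_eq]
  exact this

lemma mem_of_fix_two [Finite G] [Finite Ω] (htr : IsPretransitive G Ω) {g : G} {a b : Ω}
    (hab : a ≠ b) (ha : g • a = a) (hb : g • b = b) : g ∈ derSubgroup G Ω := by
  by_contra hg
  have : Nonempty Ω := ⟨a⟩
  obtain ⟨hsub, -⟩ := Nat.card_eq_one_iff_unique.mp (card_fixedBy_of_notMem htr hg)
  exact hab (congrArg Subtype.val (hsub.elim (⟨a, ha⟩ : fixedBy Ω g) ⟨b, hb⟩))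

/-- Elements outside the derangement subgroup that fix a block fix a point of it. -/
theorem exists_fix_mem_block [Finite G] [Finite Ω] (htr : IsPretransitive G Ω) {B : Set Ω}
    (hB : IsBlock G B) {β : Ω} (hβ : β ∈ B) {g : G} (hg : g ∉ derSubgroup G Ω)
    (hgB : ∀ x ∈ B, g • x ∈ B) : ∃ x ∈ B, g • x = x := by
  classical
  set D := derSubgroup G Ω
  have : Nonempty Ω := ⟨β⟩
  let K : Subgroup G :=
    { carrier := {k | ∀ x, x ∈ B ↔ k • x ∈ B}
      one_mem' := fun x => by simp
      mul_mem' := fun {a b} ha hb x => by rw [mul_smul]; exact (hb x).trans (ha _)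
      inv_mem' := fun {a} ha x => by
        have := ha (a⁻¹ • x); rw [smul_inv_smul] at this; exact this.symm }
  have hblock : ∀ k : G, ∀ x ∈ B, k • x ∈ B → k ∈ K := by
    intro k x hx hkx
    have h1 := hB.smul_eq_of_mem hx hkx
    intro y
    conv_rhs => rw [← h1]
    exact Set.smul_mem_smul_set_iff.symm
  let S : SubMulAction K Ω := { carrier := B, smul_mem' := fun k x hx => (k.2 x).mp hx }
  have hne : Nonempty S := ⟨⟨β, hβ⟩⟩
  have htrS : IsPretransitive (D.subgroupOf K) S := by
    refine ⟨fun x y => ?_⟩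
    obtain ⟨⟨d, hd⟩, hdx⟩ := (derSubgroup_transitive htr).exists_smul_eq x.1 y.1
    change d • x.1 = y.1 at hdx
    exact ⟨⟨⟨d, hblock d x.1 x.2 (hdx ▸ y.2)⟩, hd⟩, Subtype.ext hdx⟩
  have := Fintype.ofFinite K
  have htrK : IsPretransitive K S := ⟨fun x y => by
    obtain ⟨k, hk⟩ := htrS.exists_smul_eq x y; exact ⟨k, hk⟩⟩
  have hall := CfsgLib.Maximal.sum_natCard_fixedBy_of_transitive (G := K) (Ω := S) htrK
  have hDsum : ∑ k ∈ Finset.univ.filter (fun k : K => (k : G) ∈ D), Nat.card (fixedBy S k) =
      (Finset.univ.filter (fun k : K => (k : G) ∈ D)).card := by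
    rw [Finset.sum_subtype (Finset.univ.filter (fun k : K => (k : G) ∈ D))
      (p := (· ∈ D.subgroupOf K)) (by simp [Subgroup.mem_subgroupOf]), ← Fintype.card_subtype]
    convert CfsgLib.Maximal.sum_natCard_fixedBy_of_transitive (G := D.subgroupOf K) (Ω := S) htrS using 1
    · exact Finset.sum_congr rfl fun _ _ => rfl
    · rw [← Nat.card_eq_fintype_card, ← Nat.card_eq_fintype_card]; rfl
  rw [← Finset.sum_filter_add_sum_filter_not Finset.univ (fun k : K => (k : G) ∈ D), hDsum] at hall
  have hcard := Finset.card_filter_add_card_filter_not (s := (Finset.univ : Finset K))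
    (fun k : K => (k : G) ∈ D)
  rw [Finset.card_univ, ← hall, add_left_cancel_iff, Finset.card_eq_sum_ones] at hcard
  have hle : ∀ k ∈ Finset.univ.filter (fun k : K => (k : G) ∉ D), Nat.card (fixedBy S k) ≤ 1 := by
    intro k hk
    rw [Finite.card_le_one_iff_subsingleton]
    refine ⟨fun x y => Subtype.ext (Subtype.ext (by_contra fun hne' => ?_))⟩
    exact (Finset.mem_filter.mp hk).2
      (mem_of_fix_two htr hne' (congrArg Subtype.val x.2) (congrArg Subtype.val y.2))
  have hgK : g ∈ K := hblock g β hβ (hgB β hβ)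
  have h1 : Nat.card (fixedBy S (⟨g, hgK⟩ : K)) = 1 :=
    (Finset.sum_eq_sum_iff_of_le hle).mp hcard.symm ⟨g, hgK⟩ (by simp [hg])
  obtain ⟨-, ⟨⟨⟨x, hx⟩, hfx⟩⟩⟩ := Nat.card_eq_one_iff_unique.mp h1
  exact ⟨x, hx, congrArg Subtype.val hfx⟩

end CfsgLib.PrimRecog
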