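import Cfsg.Agent.Lib.PrimRecog.Affine

/-! Extremely primitive groups: Manning's theorem. -/
set_option autoImplicit false

namespace CfsgLib.PrimRecog

open MulAction

variable {G Ω : Type*} [Group G] [MulAction G Ω]

/-- Extremely primitive: primitive, non-regular, stabilizers primitive on each of their orbits. -/
structure IsEP (G Ω : Type*) [Group G] [MulAction G Ω] : Prop where
  prim : IsPreprimitive G Ω
  nonreg : ∀ α : Ω, stabilizer G α ≠ ⊥
  ep : ∀ α ω : Ω, IsPreprimitive (stabilizer G α) (orbit (stabilizer G α) ω)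

/-- The length of the suborbit of `y` seen from `x`. -/
noncomputable def subdeg (G : Type*) {Ω : Type*} [Group G] [MulAction G Ω] (x y : Ω) : ℕ :=
  (orbit (stabilizer G x) y).ncard

lemma orbit_stab_smul (g : G) (x y : Ω) :
    orbit (stabilizer G (g • x)) (g • y) = (g • ·) '' orbit (stabilizer G x) y := by
  ext z
  constructor
  · rintro ⟨⟨h, hh⟩, rfl⟩
    rw [mem_stabilizer_iff] at hh
    refine ⟨(g⁻¹ * h * g) • y, ⟨⟨g⁻¹ * h * g, ?_⟩, rfl⟩, ?_⟩
    · rw [mem_stabilizer_iff, mul_smul, mul_smul, hh, inv_smul_smul]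
    · show g • (g⁻¹ * h * g) • y = h • g • y
      rw [mul_smul, mul_smul, smul_inv_smul]
  · rintro ⟨_, ⟨⟨h, hh⟩, rfl⟩, rfl⟩
    rw [mem_stabilizer_iff] at hh
    refine ⟨⟨g * h * g⁻¹, ?_⟩, ?_⟩
    · rw [mem_stabilizer_iff, mul_smul, mul_smul, inv_smul_smul, hh]
    · show (g * h * g⁻¹) • g • y = g • h • y
      rw [mul_smul, mul_smul, inv_smul_smul]

lemma subdeg_smul (g : G) (x y : Ω) : subdeg G (g • x) (g • y) = subdeg G x y := by
  rw [subdeg, orbit_stab_smul]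
  exact Set.ncard_image_of_injective _ (MulAction.injective g)

lemma subdeg_mul_card [Finite G] (x y : Ω) :
    subdeg G x y * Nat.card ↥(stabilizer G x ⊓ stabilizer G y) = Nat.card (stabilizer G x) := by
  rw [subdeg, ← index_stabilizer, ← Subgroup.index_mul_card (stabilizer (stabilizer G x) y)]
  congr 1
  exact (Nat.card_congr
    { toFun := fun h => (⟨h.1.1, h.1.2, h.2⟩ : ↥(stabilizer G x ⊓ stabilizer G y))
      invFun := fun h => ⟨⟨h.1, h.2.1⟩, h.2.2⟩
      left_inv := fun _ => rfl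
      right_inv := fun _ => rfl }).symm

lemma card_stabilizer_eq (htr : IsPretransitive G Ω) (x y : Ω) :
    Nat.card (stabilizer G x) = Nat.card (stabilizer G y) := by
  obtain ⟨g, rfl⟩ := exists_smul_eq G x y
  rw [stabilizer_smul_eq_stabilizer_map_conj]
  exact (Subgroup.card_map_of_injective (MulAut.conj g).injective).symm

lemma subdeg_comm [Finite G] (htr : IsPretransitive G Ω) (x y : Ω) :
    subdeg G x y = subdeg G y x := by
  have h1 := subdeg_mul_card (G := G) x y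
  have h2 := subdeg_mul_card (G := G) y x
  rw [inf_comm, card_stabilizer_eq htr y x, ← h1] at h2
  exact (Nat.eq_of_mul_eq_mul_right Nat.card_pos h2).symm

lemma normal_subgroupOf_stab {K H : Subgroup G}
    (hn : ∀ h ∈ H, ∀ k ∈ K, h * k * h⁻¹ ∈ K) : (K.subgroupOf H).Normal :=
  ⟨fun k hk h => hn h h.2 k hk⟩

/-- The pointwise stabilizer of a `H`-invariant set, intersected with `H`. -/
def kernelOn (G : Type*) {Ω : Type*} [Group G] [MulAction G Ω] (H : Subgroup G) (s : Set Ω) : Subgroup G where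
  carrier := {g | g ∈ H ∧ ∀ x ∈ s, g • x = x}
  one_mem' := ⟨H.one_mem, fun x _ => one_smul G x⟩
  mul_mem' := fun {a b} ha hb =>
    ⟨H.mul_mem ha.1 hb.1, fun x hx => by rw [mul_smul, hb.2 x hx, ha.2 x hx]⟩
  inv_mem' := fun {a} ha => ⟨H.inv_mem ha.1, fun x hx => by rw [inv_smul_eq_iff, ha.2 x hx]⟩

lemma kernelOn_conj {H : Subgroup G} {s : Set Ω} (hs : ∀ h ∈ H, ∀ x ∈ s, h • x ∈ s) :
    ∀ h ∈ H, ∀ k ∈ kernelOn G H s, h * k * h⁻¹ ∈ kernelOn G H s := by
  intro h hh k hk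
  refine ⟨H.mul_mem (H.mul_mem hh hk.1) (H.inv_mem hh), fun x hx => ?_⟩
  rw [mul_smul, mul_smul, hk.2 _ (hs _ (H.inv_mem hh) x hx), smul_inv_smul]

namespace IsEP

variable (hG : IsEP G Ω)
include hG

lemma transitive : IsPretransitive G Ω := hG.prim.toIsPretransitive

lemma nontrivial [FaithfulSMul G Ω] (α : Ω) : Nontrivial Ω := by
  by_contra h
  rw [not_nontrivial_iff_subsingleton] at h
  refine hG.nonreg α ((Subgroup.eq_bot_iff_forall _).mpr fun g _ => ?_)
  exact FaithfulSMul.eq_of_smul_eq_smul (α := Ω) fun x => Subsingleton.elim _ _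

lemma isCoatom [FaithfulSMul G Ω] (α : Ω) : IsCoatom (stabilizer G α) := by
  have := hG.nontrivial α
  have := hG.prim
  exact IsPreprimitive.isCoatom_stabilizer_of_isPreprimitive G α

lemma stab_ne [Finite G] [FaithfulSMul G Ω] {α β : Ω} (h : β ≠ α) :
    stabilizer G α ≠ stabilizer G β := by
  intro heq
  obtain ⟨g, hg⟩ := hG.transitive.exists_smul_eq α β
  have hgn : g ∈ Subgroup.normalizer (stabilizer G α : Set G) := by
    have hmap : (stabilizer G α).map (MulAut.conj g).toMonoidHom = stabilizer G α :=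
      (stabilizer_smul_eq_stabilizer_map_conj g α).symm.trans (by rw [hg, heq])
    have hle : ∀ x ∈ stabilizer G α, g * x * g⁻¹ ∈ stabilizer G α := fun x hx => by
      rw [← hmap]; exact ⟨x, hx, rfl⟩
    refine Subgroup.mem_normalizer_iff.mpr fun x => ⟨hle x, fun hx => ?_⟩
    rw [← hmap] at hx
    obtain ⟨y, hy, hyx⟩ := hx
    have hyx' : g * y * g⁻¹ = g * x * g⁻¹ := hyx
    exact mul_left_cancel (mul_right_cancel hyx') ▸ hy
  rcases (hG.isCoatom α).le_iff.mp Subgroup.le_normalizer with htop | heq'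
  · refine hG.nonreg α ((Subgroup.eq_bot_iff_forall _).mpr fun x hx => ?_)
    refine FaithfulSMul.eq_of_smul_eq_smul (α := Ω) fun y => ?_
    obtain ⟨k, rfl⟩ := hG.transitive.exists_smul_eq α y
    have hk : k⁻¹ ∈ Subgroup.normalizer (stabilizer G α : Set G) := htop ▸ Subgroup.mem_top _
    have := (Subgroup.mem_normalizer_iff.mp hk x).mp hx
    rw [inv_inv, mem_stabilizer_iff, mul_smul, mul_smul, inv_smul_eq_iff] at this
    rw [one_smul, this]
  · rw [heq', mem_stabilizer_iff, hg] at hgn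
    exact h hgn

/-- Two distinct point stabilizers generate the group. -/
lemma eq_top_of_le [Finite G] [FaithfulSMul G Ω] {α β : Ω} (h : β ≠ α) {K : Subgroup G}
    (h1 : stabilizer G α ≤ K) (h2 : stabilizer G β ≤ K) : K = ⊤ := by
  rcases (hG.isCoatom α).le_iff.mp h1 with h' | h'
  · exact h'
  · refine absurd ?_ (hG.stab_ne h)
    exact (((hG.isCoatom β).le_iff.mp (h' ▸ h2)).resolve_left (hG.isCoatom α).1)

/-- A normal subgroup of a stabilizer is trivial or transitive on each suborbit. -/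
lemma fix_or_orbit_eq {α : Ω} {K : Subgroup G} (hK : K ≤ stabilizer G α)
    (hn : ∀ h ∈ stabilizer G α, ∀ k ∈ K, h * k * h⁻¹ ∈ K) (ω : Ω) :
    (∀ x ∈ orbit (stabilizer G α) ω, ∀ k ∈ K, k • x = x) ∨
      orbit K ω = orbit (stabilizer G α) ω := by
  have := hG.ep α ω
  have hN : (K.subgroupOf (stabilizer G α)).Normal := normal_subgroupOf_stab hn
  set Δ := orbit (stabilizer G α) ω
  by_cases hfix : fixedPoints (K.subgroupOf (stabilizer G α)) Δ = Set.univ
  · refine Or.inl fun x hx k hk => ?_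
    have : (⟨x, hx⟩ : Δ) ∈ fixedPoints (K.subgroupOf (stabilizer G α)) Δ := hfix ▸ Set.mem_univ _
    exact congrArg Subtype.val (this ⟨⟨k, hK hk⟩, hk⟩)
  · right
    have htr : IsPretransitive (K.subgroupOf (stabilizer G α)) Δ :=
      IsQuasiPreprimitive.isPretransitive_of_normal (G := stabilizer G α) hfix
    refine Set.Subset.antisymm ?_ fun x hx => ?_
    · rintro _ ⟨⟨k, hk⟩, rfl⟩
      exact ⟨⟨k, hK hk⟩, rfl⟩
    · obtain ⟨⟨⟨k, hk'⟩, hk⟩, hkx⟩ := htr.exists_smul_eq ⟨ω, mem_orbit_self ω⟩ ⟨x, hx⟩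
      exact ⟨⟨k, hk⟩, congrArg Subtype.val hkx⟩

/-- A set invariant under two distinct stabilizers contains the whole orbit of its points. -/
lemma mem_of_invariant [Finite G] [FaithfulSMul G Ω] {α β σ : Ω} (h : β ≠ α) {s : Set Ω}
    (hσ : σ ∈ s) (h1 : ∀ g ∈ stabilizer G α, ∀ x ∈ s, g • x ∈ s)
    (h2 : ∀ g ∈ stabilizer G β, ∀ x ∈ s, g • x ∈ s) (y : Ω) : y ∈ s := by
  let K : Subgroup G :=
    { carrier := {g | ∀ x, x ∈ s ↔ g • x ∈ s}
      one_mem' := fun x => by rw [one_smul]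
      mul_mem' := fun {a b} ha hb x => by rw [mul_smul]; exact (hb x).trans (ha _)
      inv_mem' := fun {a} ha x => by
        conv_lhs => rw [← smul_inv_smul a x]
        exact (ha _).symm }
  have hle : ∀ γ : Ω, (∀ g ∈ stabilizer G γ, ∀ x ∈ s, g • x ∈ s) → stabilizer G γ ≤ K :=
    fun γ hγ g hg x => ⟨hγ g hg x, fun hx => by
      simpa using hγ g⁻¹ ((stabilizer G γ).inv_mem hg) _ hx⟩
  have hK := hG.eq_top_of_le h (hle α h1) (hle β h2)
  obtain ⟨g, rfl⟩ := hG.transitive.exists_smul_eq σ y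
  have hg : g ∈ K := hK ▸ Subgroup.mem_top g
  exact (hg σ).mp hσ

/-- No nontrivial normal subgroup of a stabilizer fixes a second point. -/
theorem eq_bot_of_fix [Finite G] [Finite Ω] [FaithfulSMul G Ω] {α β : Ω} (hβ : β ≠ α)
    {K₁ : Subgroup G} (hK : K₁ ≤ stabilizer G α)
    (hn : ∀ h ∈ stabilizer G α, ∀ k ∈ K₁, h * k * h⁻¹ ∈ K₁) (hfix : ∀ k ∈ K₁, k • β = β) :
    K₁ = ⊥ := by
  classical
  by_contra hK1
  have := Fintype.ofFinite Ω
  -- the longest suborbit
  obtain ⟨y, hy, hymax⟩ := Finset.exists_max_image (Finset.univ.filter (· ≠ α)) (subdeg G α)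
    ⟨β, by simp [hβ]⟩
  simp only [Finset.mem_filter, Finset.mem_univ, true_and] at hy hymax
  set m := subdeg G α y with hm
  have hle : ∀ x z : Ω, z ≠ x → subdeg G x z ≤ m := by
    intro x z hzx
    obtain ⟨g, hg⟩ := hG.transitive.exists_smul_eq x α
    rw [← subdeg_smul g, hg]
    exact hymax _ fun h => hzx (smul_left_cancel g (h.trans hg.symm))
  -- a point outside the orbit of a normal subgroup
  have hnot : ∀ x σ : Ω, σ ≠ x → x ∉ orbit (stabilizer G x) σ := by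
    intro x σ hσ hx
    obtain ⟨⟨h, hh⟩, hhx⟩ := hx
    exact hσ (smul_left_cancel h (hhx.trans (mem_stabilizer_iff.mp hh).symm))
  -- step one: fix all longest suborbits
  have stepA : ∀ x z : Ω, z ≠ x → ∀ K : Subgroup G, K ≤ stabilizer G x →
      (∀ h ∈ stabilizer G x, ∀ k ∈ K, h * k * h⁻¹ ∈ K) → (∀ k ∈ K, k • z = z) →
      ∀ σ : Ω, σ ≠ x → subdeg G x σ = m → ∀ k ∈ K, k • σ = σ := by
    intro x z hzx K hKx hKn hKz σ hσ hσm
    rcases hG.fix_or_orbit_eq hKx hKn σ with h | h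
    · exact h σ (mem_orbit_self σ)
    · by_contra hne
      have hσz : σ ≠ z := fun e => hne (e ▸ hKz)
      have hsub : orbit (stabilizer G x) σ ⊆ orbit (stabilizer G z) σ := by
        rw [← h]
        rintro _ ⟨⟨k, hk⟩, rfl⟩
        exact ⟨⟨k, hKz k hk⟩, rfl⟩
      have heq : orbit (stabilizer G x) σ = orbit (stabilizer G z) σ :=
        Set.eq_of_subset_of_ncard_le hsub (by rw [← subdeg, ← subdeg, hσm]; exact hle z σ hσz) (Set.toFinite _)
      refine hnot x σ hσ (hG.mem_of_invariant hzx (mem_orbit_self σ)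
        (fun g hg w hw => mem_orbit_of_mem_orbit (⟨g, hg⟩ : stabilizer G x) hw)
        (fun g hg w hw => ?_) x)
      rw [heq] at hw ⊢
      exact mem_orbit_of_mem_orbit (⟨g, hg⟩ : stabilizer G z) hw
  -- the kernels on the longest suborbits
  let K0 : Ω → Subgroup G := fun x =>
    kernelOn G (stabilizer G x) {σ | σ ≠ x ∧ subdeg G x σ = m}
  have hK0n : ∀ x, ∀ h ∈ stabilizer G x, ∀ k ∈ K0 x, h * k * h⁻¹ ∈ K0 x := by
    refine fun x => kernelOn_conj ?_
    rintro h hh σ ⟨hσ, hσm⟩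
    rw [mem_stabilizer_iff] at hh
    refine ⟨fun e => hσ (smul_left_cancel h (e.trans hh.symm)), ?_⟩
    rw [← hσm, ← subdeg_smul h x σ, hh]
  have hym : y ∈ {σ | σ ≠ α ∧ subdeg G α σ = m} := ⟨hy, hm.symm⟩
  have hK10 : K₁ ≤ K0 α := fun k hk =>
    ⟨hK hk, fun σ hσ => stepA α β hβ K₁ hK hn hfix σ hσ.1 hσ.2 k hk⟩
  obtain ⟨⟨k₀, hk₀⟩, hk₀1⟩ := (K₁.ne_bot_iff_exists_ne_one).mp hK1
  have hk₀1' : k₀ ≠ 1 := fun h => hk₀1 (Subtype.ext h)
  have hk₀' := hK10 hk₀
  obtain ⟨g, hg⟩ := hG.transitive.exists_smul_eq α y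
  have hg' : g⁻¹ • y = α := by rw [inv_smul_eq_iff, hg]
  have hL : g * k₀ * g⁻¹ ∈ K0 y := by
    refine ⟨?_, ?_⟩
    · rw [mem_stabilizer_iff, mul_smul, mul_smul, hg', hk₀'.1, hg]
    · rintro σ ⟨hσ, hσm⟩
      rw [mul_smul, mul_smul, hk₀'.2 (g⁻¹ • σ) ⟨?_, ?_⟩, smul_inv_smul]
      · exact fun e => hσ (smul_left_cancel g⁻¹ (e.trans hg'.symm))
      · rw [← hσm, ← subdeg_smul g⁻¹ y σ, hg']
  have hαy : α ∈ {σ | σ ≠ y ∧ subdeg G y σ = m} :=
    ⟨Ne.symm hy, by rw [subdeg_comm hG.transitive, hm]⟩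
  have hLH : K0 y ≤ stabilizer G α := fun l hl => hl.2 α hαy
  -- the second kernel fixes whatever the first one moves
  have hout : ∀ σ : Ω, (∃ k ∈ K0 α, k • σ ≠ σ) → ∀ l ∈ K0 y, l • σ = σ := by
    rintro σ ⟨k, hk, hkσ⟩
    rcases hG.fix_or_orbit_eq (K := K0 y) (fun l hl => hl.1) (hK0n y) σ with h | h
    · exact h σ (mem_orbit_self σ)
    · exfalso
      have hK := (hG.fix_or_orbit_eq (K := K0 α) (fun l hl => hl.1) (hK0n α) σ).resolve_left
        fun h' => hkσ (h' σ (mem_orbit_self σ) k hk)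
      have heq : orbit (stabilizer G α) σ = orbit (stabilizer G y) σ := by
        refine Set.Subset.antisymm ?_ ?_
        · rw [← hK]
          rintro _ ⟨⟨k', hk'⟩, rfl⟩
          exact ⟨⟨k', hk'.2 y hym⟩, rfl⟩
        · rw [← h]
          rintro _ ⟨⟨l, hl⟩, rfl⟩
          exact ⟨⟨l, hLH hl⟩, rfl⟩
      refine hnot α σ (fun e => hkσ (e ▸ hk.1)) (hG.mem_of_invariant hy (mem_orbit_self σ)
        (fun g hg w hw => mem_orbit_of_mem_orbit (⟨g, hg⟩ : stabilizer G α) hw)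
        (fun g hg w hw => ?_) α)
      rw [heq] at hw ⊢
      exact mem_orbit_of_mem_orbit (⟨g, hg⟩ : stabilizer G y) hw
  obtain ⟨σ, hσ⟩ : ∃ σ : Ω, k₀ • σ ≠ σ := by
    by_contra hne
    push Not at hne
    exact hk₀1' (FaithfulSMul.eq_of_smul_eq_smul (α := Ω) fun w => by rw [hne w, one_smul])
  have hLK : K0 y ≤ K0 α := by
    intro l hl
    have hker : l ∈ kernelOn G (stabilizer G α) (orbit (stabilizer G α) σ) := by
      refine ⟨hLH hl, fun x hx => hout x ?_ l hl⟩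
      by_contra hne
      push Not at hne
      obtain ⟨⟨h, hh⟩, rfl⟩ := hx
      have h2 : (h * k₀ * h⁻¹) • (h • σ) = h • σ := hne _ (hK0n α h hh k₀ hk₀')
      rw [mul_smul, mul_smul, inv_smul_smul] at h2
      exact hσ (smul_left_cancel h h2)
    exact ⟨hLH hl, fun τ hτ => stepA α σ (fun e => hσ (e ▸ hk₀'.1))
      (kernelOn G (stabilizer G α) (orbit (stabilizer G α) σ)) (fun l hl => hl.1)
      (kernelOn_conj fun h hh x hx => mem_orbit_of_mem_orbit (⟨h, hh⟩ : stabilizer G α) hx)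
      (fun l hl => hl.2 σ (mem_orbit_self σ)) τ hτ.1 hτ.2 l hker⟩
  have hL1 : g * k₀ * g⁻¹ = 1 := FaithfulSMul.eq_of_smul_eq_smul (α := Ω) fun x => by
    rw [one_smul]
    by_cases hx : ∃ k ∈ K0 α, k • x ≠ x
    · exact hout x hx _ hL
    · push Not at hx
      exact hx _ (hLK hL)
  exact hk₀1' (conj_eq_one_iff.mp hL1)

/-- Manning: nontrivial normal subgroups of a stabilizer have the same orbits as it. -/
theorem orbit_eq [Finite G] [Finite Ω] [FaithfulSMul G Ω] {α : Ω} {K : Subgroup G}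
    (hK : K ≤ stabilizer G α) (hn : ∀ h ∈ stabilizer G α, ∀ k ∈ K, h * k * h⁻¹ ∈ K)
    (hK1 : K ≠ ⊥) (ω : Ω) : orbit K ω = orbit (stabilizer G α) ω := by
  by_cases hω : ω = α
  · subst hω
    refine Set.Subset.antisymm ?_ ?_
    · rintro _ ⟨⟨k, hk⟩, rfl⟩
      exact ⟨⟨k, hK hk⟩, rfl⟩
    · rintro _ ⟨⟨h, hh⟩, rfl⟩
      exact ⟨1, by simp [mem_stabilizer_iff.mp hh]⟩
  · exact (hG.fix_or_orbit_eq hK hn ω).resolve_left fun h =>
      hK1 (hG.eq_bot_of_fix hω hK hn fun k hk => h ω (mem_orbit_self ω) k hk)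

/-- Manning: a stabilizer is faithful on each of its nontrivial orbits. -/
theorem eq_one_of_fix_orbit [Finite G] [Finite Ω] [FaithfulSMul G Ω] {α ω : Ω} (hω : ω ≠ α)
    {h : G} (hh : h ∈ stabilizer G α) (hfix : ∀ x ∈ orbit (stabilizer G α) ω, h • x = x) :
    h = 1 := by
  have := hG.eq_bot_of_fix hω (K₁ := kernelOn G (stabilizer G α) (orbit (stabilizer G α) ω))
    (fun l hl => hl.1)
    (kernelOn_conj fun g hg x hx => mem_orbit_of_mem_orbit (⟨g, hg⟩ : stabilizer G α) hx)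
    (fun l hl => hl.2 ω (mem_orbit_self ω))
  exact Subgroup.mem_bot.mp (this ▸ (⟨hh, hfix⟩ : h ∈ kernelOn G _ _))

end IsEP

end CfsgLib.PrimRecog
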