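import Cfsg.Agent.Lib.PrimRecog.Extremely
import Cfsg.Agent.Lib.Solvable.Fitting
import Cfsg.Prelude.Def_Solvable

/-! Abelian normal subgroups of stabilizers in extremely primitive groups. -/
set_option autoImplicit false

namespace CfsgLib.PrimRecog

open MulAction

variable {G Ω : Type*} [Group G] [Finite G] [MulAction G Ω] [Finite Ω] [FaithfulSMul G Ω]

namespace IsEP

variable (hG : IsEP G Ω)
include hG

/-- An element of the stabilizer centralizing a nontrivial normal subgroup of it is semiregular. -/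
lemma free_of_commute {α ω : Ω} (hω : ω ≠ α) {A : Subgroup G} (hA : A ≤ stabilizer G α)
    (hn : ∀ h ∈ stabilizer G α, ∀ k ∈ A, h * k * h⁻¹ ∈ A) (hA1 : A ≠ ⊥) {h : G}
    (hh : h ∈ stabilizer G α) (hc : ∀ a ∈ A, h * a = a * h) (hfix : h • ω = ω) : h = 1 := by
  refine hG.eq_one_of_fix_orbit hω hh fun x hx => ?_
  rw [← hG.orbit_eq hA hn hA1 ω] at hx
  obtain ⟨⟨a, ha⟩, rfl⟩ := hx
  show h • a • ω = a • ω
  rw [← mul_smul, hc a ha, mul_smul, hfix]

/-- An abelian normal subgroup of a stabilizer is its own centralizer there. -/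
lemma mem_of_commute {α : Ω} {A : Subgroup G} (hA : A ≤ stabilizer G α)
    (hn : ∀ h ∈ stabilizer G α, ∀ k ∈ A, h * k * h⁻¹ ∈ A) (hA1 : A ≠ ⊥)
    (hab : ∀ a ∈ A, ∀ b ∈ A, a * b = b * a) {h : G}
    (hh : h ∈ stabilizer G α) (hc : ∀ a ∈ A, h * a = a * h) : h ∈ A := by
  have := hG.nontrivial α
  obtain ⟨ω, hω⟩ := exists_ne α
  have : h • ω ∈ orbit A ω := by
    rw [hG.orbit_eq hA hn hA1 ω]
    exact ⟨⟨h, hh⟩, rfl⟩
  obtain ⟨⟨a, ha⟩, hah⟩ := this
  change a • ω = h • ω at hah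
  have : a⁻¹ * h = 1 := by
    refine hG.free_of_commute hω hA hn hA1
      ((stabilizer G α).mul_mem ((stabilizer G α).inv_mem (hA ha)) hh) (fun b hb => ?_) ?_
    · have hab' : a⁻¹ * b = b * a⁻¹ := hab _ (A.inv_mem ha) b hb
      rw [mul_assoc, hc b hb, ← mul_assoc, hab', mul_assoc]
    · rw [mul_smul, ← hah, inv_smul_smul]
  rw [inv_mul_eq_one] at this
  exact this ▸ ha

/-- An abelian normal subgroup of a stabilizer is minimal normal. -/
lemma eq_of_le_comm {α : Ω} {A B : Subgroup G} (hA : A ≤ stabilizer G α)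
    (hn : ∀ h ∈ stabilizer G α, ∀ k ∈ A, h * k * h⁻¹ ∈ A)
    (hab : ∀ a ∈ A, ∀ b ∈ A, a * b = b * a) (hBA : B ≤ A)
    (hBn : ∀ h ∈ stabilizer G α, ∀ k ∈ B, h * k * h⁻¹ ∈ B) (hB1 : B ≠ ⊥) : B = A :=
  le_antisymm hBA fun a ha =>
    hG.mem_of_commute (hBA.trans hA) hBn hB1 (fun x hx y hy => hab x (hBA hx) y (hBA hy)) (hA ha)
      fun b hb => hab a ha b (hBA hb)

/-- The suborbits have the size of an abelian normal subgroup of the stabilizer. -/
lemma card_orbit_eq {α ω : Ω} (hω : ω ≠ α) {A : Subgroup G} (hA : A ≤ stabilizer G α)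
    (hn : ∀ h ∈ stabilizer G α, ∀ k ∈ A, h * k * h⁻¹ ∈ A) (hA1 : A ≠ ⊥)
    (hab : ∀ a ∈ A, ∀ b ∈ A, a * b = b * a) :
    Nat.card (orbit (stabilizer G α) ω) = Nat.card A := by
  rw [← hG.orbit_eq hA hn hA1 ω]
  refine (Nat.card_congr (Equiv.ofBijective
    (fun a : A => (⟨(a : G) • ω, a, rfl⟩ : orbit A ω)) ⟨fun a b hab' => ?_, ?_⟩)).symm
  · have hab'' : (a : G) • ω = (b : G) • ω := congrArg Subtype.val hab'
    have h1 : (b : G)⁻¹ * a = 1 := hG.free_of_commute hω hA hn hA1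
      (hA (A.mul_mem (A.inv_mem b.2) a.2)) (fun c hc => hab _ (A.mul_mem (A.inv_mem b.2) a.2) c hc)
      (by rw [mul_smul, hab'', inv_smul_smul])
    exact Subtype.ext (inv_mul_eq_one.mp h1).symm
  · rintro ⟨_, a, rfl⟩
    exact ⟨a, rfl⟩

/-- The order of an abelian normal subgroup of a stabilizer divides the degree minus one. -/
lemma card_dvd_degree_sub_one {α : Ω} {A : Subgroup G} (hA : A ≤ stabilizer G α)
    (hn : ∀ h ∈ stabilizer G α, ∀ k ∈ A, h * k * h⁻¹ ∈ A) (hA1 : A ≠ ⊥)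
    (hab : ∀ a ∈ A, ∀ b ∈ A, a * b = b * a) : Nat.card A ∣ Nat.card Ω - 1 := by
  classical
  let S : SubMulAction A Ω :=
    { carrier := {x | x ≠ α}
      smul_mem' := fun a x hx h => hx
        (smul_left_cancel (a : G) (h.trans (mem_stabilizer_iff.mp (hA a.2)).symm)) }
  have hfree : ∀ x : S, stabilizer A x = ⊥ := fun x =>
    (Subgroup.eq_bot_iff_forall _).mpr fun a ha => Subtype.ext
      (hG.free_of_commute x.2 hA hn hA1 (hA a.2) (fun c hc => hab _ a.2 c hc)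
        (congrArg Subtype.val ha))
  have h1 : Nat.card S = Nat.card (Quotient (orbitRel A S)) * Nat.card A := by
    rw [← Nat.card_prod]
    exact Nat.card_congr (selfEquivOrbitsQuotientProd hfree)
  have h2 : Nat.card S + 1 = Nat.card Ω := by
    have h3 : Nat.card S = ({α}ᶜ : Set Ω).ncard := (Nat.card_coe_set_eq _).symm ▸ rfl
    rw [h3, Set.ncard_compl, Set.ncard_singleton]
    have : Nonempty Ω := ⟨α⟩
    have : 0 < Nat.card Ω := Nat.card_pos
    omega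
  exact ⟨Nat.card (Quotient (orbitRel A S)), by rw [← h2, h1, Nat.add_sub_cancel, mul_comm]⟩

/-- The centre of the Fitting subgroup. -/
lemma exists_abelian_of_fitting {α : Ω}
    (hF : Cfsg.fittingSubgroup (stabilizer G α) ≠ ⊥) :
    ∃ A : Subgroup G, A ≤ stabilizer G α ∧ (∀ h ∈ stabilizer G α, ∀ k ∈ A, h * k * h⁻¹ ∈ A) ∧
      A ≠ ⊥ ∧ (∀ a ∈ A, ∀ b ∈ A, a * b = b * a) ∧
      A = (Cfsg.fittingSubgroup (stabilizer G α)).map (stabilizer G α).subtype := by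
  set H := stabilizer G α
  set F := Cfsg.fittingSubgroup H
  have hFn : F.Normal := CfsgLib.Fitting.fitting_normal
  set Z : Subgroup H := F ⊓ Subgroup.centralizer (F : Set H) with hZ
  have hZ1 : Z ≠ ⊥ := by
    have : Nontrivial F := (Subgroup.nontrivial_iff_ne_bot F).mpr hF
    have : Group.IsNilpotent F := CfsgLib.Fitting.fitting_isNilpotent
    obtain ⟨⟨⟨z, hzF⟩, hzc⟩, hz1⟩ := Subgroup.ne_bot_iff_exists_ne_one.mp
      (Group.IsNilpotent.center_ne_bot F)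
    intro h
    have : z ∈ Z := ⟨hzF, Subgroup.mem_centralizer_iff.mpr fun y hy =>
      congrArg Subtype.val (Subgroup.mem_center_iff.mp hzc ⟨y, hy⟩)⟩
    rw [h, Subgroup.mem_bot] at this
    exact hz1 (Subtype.ext (Subtype.ext this))
  have hZn : Z.Normal := inferInstance
  have hn : ∀ h ∈ H, ∀ k ∈ Z.map H.subtype, h * k * h⁻¹ ∈ Z.map H.subtype := by
    rintro h hh _ ⟨k, hk, rfl⟩
    exact ⟨⟨h, hh⟩ * k * ⟨h, hh⟩⁻¹, hZn.conj_mem k hk _, rfl⟩
  have hA1 : Z.map H.subtype ≠ ⊥ := fun h =>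
    hZ1 ((Subgroup.map_eq_bot_iff_of_injective _ H.subtype_injective).mp h)
  have hab : ∀ a ∈ Z.map H.subtype, ∀ b ∈ Z.map H.subtype, a * b = b * a := by
    rintro _ ⟨a, ha, rfl⟩ _ ⟨b, hb, rfl⟩
    exact congrArg Subtype.val (Subgroup.mem_centralizer_iff.mp hb.2 a ha.1)
  refine ⟨Z.map H.subtype, Subgroup.map_subtype_le Z, hn, hA1, hab, le_antisymm ?_ ?_⟩
  · exact Subgroup.map_mono inf_le_left
  · rintro _ ⟨f, hf, rfl⟩
    refine hG.mem_of_commute (Subgroup.map_subtype_le Z) hn hA1 hab f.2 ?_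
    rintro _ ⟨z, hz, rfl⟩
    exact congrArg Subtype.val (Subgroup.mem_centralizer_iff.mp hz.2 f hf)

end IsEP

end CfsgLib.PrimRecog

namespace CfsgLib.PrimRecog.IsEP

open MulAction

/-- In affine type, a nontrivial normal subgroup of a stabilizer acts irreducibly. -/
lemma invariant_cases {G Ω : Type*} [Group G] [Finite G] [MulAction G Ω] [Finite Ω]
    [FaithfulSMul G Ω] (hG : IsEP G Ω) {N : Subgroup G} (hN : N.Normal)
    (hNtr : IsPretransitive N Ω) (hNc : IsMulCommutative N) {α : Ω} {M : Subgroup G}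
    (hM : M ≤ stabilizer G α) (hMn : ∀ h ∈ stabilizer G α, ∀ k ∈ M, h * k * h⁻¹ ∈ M) (hM1 : M ≠ ⊥)
    {L : Subgroup G} (hLN : L ≤ N) (hLM : ∀ m ∈ M, ∀ n ∈ L, m * n * m⁻¹ ∈ L) :
    L = ⊥ ∨ L = N := by
  have hreg := stabilizer_eq_bot_of_comm hNtr hNc α
  have hfree : ∀ n ∈ N, ∀ k ∈ N, n • α = k • α → n = k := fun n hn k hk he => by
    have : (⟨k⁻¹ * n, N.mul_mem (N.inv_mem hk) hn⟩ : N) ∈ stabilizer N α := by
      rw [mem_stabilizer_iff, Subgroup.mk_smul, mul_smul, he, inv_smul_smul]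
    rw [hreg, Subgroup.mem_bot, Subtype.ext_iff] at this
    exact (inv_mul_eq_one.mp this).symm
  have hconj : ∀ g ∈ stabilizer G α, ∀ n : G, (g * n * g⁻¹) • α = g • n • α := by
    intro g hg n
    have hg' : g⁻¹ • α = α := (stabilizer G α).inv_mem hg
    rw [mul_smul, mul_smul, hg']
  have hLH : ∀ g ∈ stabilizer G α, ∀ n ∈ L, g * n * g⁻¹ ∈ L := by
    intro g hg n hn
    have h1 : g • n • α ∈ orbit M (n • α) := by
      rw [hG.orbit_eq hM hMn hM1]; exact ⟨⟨g, hg⟩, rfl⟩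
    obtain ⟨⟨m, hm⟩, hmn⟩ := h1
    change m • n • α = g • n • α at hmn
    rw [hfree _ (hN.conj_mem n (hLN hn) g) _ (hLN (hLM m hm n hn))
      (by rw [hconj g hg, hconj m (hM hm), hmn])]
    exact hLM m hm n hn
  have hLnormal : L.Normal := ⟨fun n hn g => by
    obtain ⟨⟨k, hk⟩, hkg⟩ := hNtr.exists_smul_eq α (g • α)
    change k • α = g • α at hkg
    have hh : k⁻¹ * g ∈ stabilizer G α := by
      rw [mem_stabilizer_iff, mul_smul, ← hkg, inv_smul_smul]
    have hmem := hLH _ hh n hn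
    have hkc : k * ((k⁻¹ * g) * n * (k⁻¹ * g)⁻¹) * k⁻¹ = (k⁻¹ * g) * n * (k⁻¹ * g)⁻¹ :=
      mul_inv_eq_iff_eq_mul.mpr (congrArg Subtype.val
        (hNc.is_comm.comm (⟨k, hk⟩ : N) ⟨_, hLN hmem⟩))
    rw [← hkc] at hmem
    simpa [mul_assoc] using hmem⟩
  by_cases hL : L = ⊥
  · exact Or.inl hL
  refine Or.inr (le_antisymm hLN fun n hn => ?_)
  obtain ⟨⟨l, hl⟩, hln⟩ :=
    (transitive_of_normal (Ω := Ω) hG.prim hLnormal hL).exists_smul_eq α (n • α)
  rw [← hfree l (hLN hl) n hn hln]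
  exact hl

end CfsgLib.PrimRecog.IsEP
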