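import Cfsg.Agent.Lib.PrimRecog.MaximalCentralizers

/-! Counting: centralizer systems do not exist. -/
set_option autoImplicit false

namespace CfsgLib.PrimRecog

variable {T H : Type*} [Group T] [Group H]

lemma sum_inv_sq_le (n : ℕ) (hn : 1 ≤ n) :
    ∑ k ∈ Finset.Icc 2 n, (1 : ℚ) / (k : ℚ) ^ 2 ≤ 1 - 1 / (n : ℚ) := by
  induction n, hn using Nat.le_induction with
  | base => simp
  | succ n hn ih =>
    rw [Finset.sum_Icc_succ_top (by omega)]
    have h0 : (0 : ℚ) < n := by exact_mod_cast hn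
    have key : (1 : ℚ) / ((n + 1 : ℕ) : ℚ) ^ 2 ≤ 1 / (n : ℚ) - 1 / ((n + 1 : ℕ) : ℚ) := by
      push_cast
      rw [div_sub_div _ _ h0.ne' (by positivity), one_mul, mul_one, add_sub_cancel_left]
      apply one_div_le_one_div_of_le (by positivity)
      nlinarith
    linarith

/-- The contribution of one Sylow subgroup to the count. -/
lemma card_central_bound [Finite T] {p : ℕ} [hp : Fact p.Prime] (Q : Sylow p T)
    (hna : ¬ ∀ a ∈ (Q : Subgroup T), ∀ b ∈ (Q : Subgroup T), Commute a b) :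
    {x : T | x ∈ (Q : Subgroup T) ∧ x ≠ 1 ∧ ∀ y ∈ (Q : Subgroup T), Commute y x}.ncard * p ^ 2 + 1
      ≤ Nat.card (Q : Subgroup T) := by
  set Z := Subgroup.center (Q : Subgroup T)
  have h1 : {x : T | x ∈ (Q : Subgroup T) ∧ x ≠ 1 ∧ ∀ y ∈ (Q : Subgroup T), Commute y x}.ncard + 1
      ≤ Nat.card Z := by
    have hinj : Function.Injective (fun z : Z => ((z : (Q : Subgroup T)) : T)) :=
      fun a b h => Subtype.ext (Subtype.ext h)
    rw [← Set.ncard_range_of_injective hinj]
    have hsub : {x : T | x ∈ (Q : Subgroup T) ∧ x ≠ 1 ∧ ∀ y ∈ (Q : Subgroup T), Commute y x} ⊆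
        Set.range (fun z : Z => ((z : (Q : Subgroup T)) : T)) \ {1} := by
      rintro x ⟨hx, hx1, hc⟩
      exact ⟨⟨⟨⟨x, hx⟩, Subgroup.mem_center_iff.mpr fun y => Subtype.ext (hc y y.2).eq⟩, rfl⟩, hx1⟩
    have h2 := Set.ncard_le_ncard hsub (Set.toFinite _)
    have h3 := Set.ncard_sdiff_singleton_add_one (s := Set.range (fun z : Z => ((z : (Q : Subgroup T)) : T)))
      (a := (1 : T)) ⟨1, rfl⟩ (Set.toFinite _)
    omega
  obtain ⟨k, hk⟩ := Q.isPGroup'.index Z
  have hk2 : 2 ≤ k := by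
    by_contra hlt
    apply hna
    have hcyc : IsCyclic ((Q : Subgroup T) ⧸ Z) := by
      rcases Nat.lt_or_ge k 1 with h0 | h0
      · have : Subsingleton ((Q : Subgroup T) ⧸ Z) := by
          rw [← Finite.card_le_one_iff_subsingleton, ← Subgroup.index_eq_card, hk]
          simp [show k = 0 by omega]
        exact isCyclic_of_subsingleton
      · exact isCyclic_of_prime_card (p := p) (by rw [← Subgroup.index_eq_card, hk, show k = 1 by omega, pow_one])
    intro a ha b hb
    have hcm : IsMulCommutative (Q : Subgroup T) := MonoidHom.isMulCommutative_of_isCyclic_of_ker_le_center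
      (QuotientGroup.mk' Z) (by rw [QuotientGroup.ker_mk'])
    exact congrArg Subtype.val (hcm.is_comm.comm ⟨a, ha⟩ ⟨b, hb⟩)
  rw [← Subgroup.card_mul_index Z, hk]
  have h4 : p ^ 2 ≤ p ^ k := Nat.pow_le_pow_right hp.out.pos hk2
  have h5 : 1 ≤ p ^ 2 := Nat.one_le_pow _ _ hp.out.pos
  calc _ ≤ ({x : T | x ∈ (Q : Subgroup T) ∧ x ≠ 1 ∧ ∀ y ∈ (Q : Subgroup T), Commute y x}.ncard + 1) * p ^ 2 := by
        rw [add_mul, one_mul]; omega
    _ ≤ _ := Nat.mul_le_mul h1 h4

/-- There is no centralizer system. -/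
theorem CentralizerSystem.false [Finite T] [Nontrivial T] {ψ : H →* Equiv.Perm T}
    (hψ : CentralizerSystem ψ) : False := by
  classical
  have := Fintype.ofFinite T
  set n := Nat.card T with hn
  have hn1 : 1 < n := Finite.one_lt_card
  let B : ℕ → Finset T := fun p => Finset.univ.filter fun x => x ≠ 1 ∧ ∃ Q : Sylow p T,
    x ∈ (Q : Subgroup T) ∧ (∀ y ∈ (Q : Subgroup T), Commute y x) ∧
      ¬ (∀ a ∈ (Q : Subgroup T), ∀ b ∈ (Q : Subgroup T), Commute a b)
  have hB : ∀ p ∈ n.primeFactors, (B p).card * p ^ 2 < n := by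
    intro p hp
    have := Fact.mk (Nat.prime_of_mem_primeFactors hp)
    let f : Sylow p T → Finset T := fun Q => (Finset.univ : Finset T).filter fun x =>
      (x ∈ (Q : Subgroup T) ∧ x ≠ 1 ∧ ∀ y ∈ (Q : Subgroup T), Commute y x) ∧
        ¬ (∀ a ∈ (Q : Subgroup T), ∀ b ∈ (Q : Subgroup T), Commute a b)
    have hsub : B p ⊆ Finset.univ.biUnion f := by
      intro x hx
      obtain ⟨hx1, Q, hQ, hc, hna⟩ := (Finset.mem_filter.mp hx).2
      exact Finset.mem_biUnion.mpr ⟨Q, Finset.mem_univ _, Finset.mem_filter.mpr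
        ⟨Finset.mem_univ _, ⟨hQ, hx1, hc⟩, hna⟩⟩
    have hQ : ∀ Q : Sylow p T, ((f Q).card * p ^ 2 + 1) * (Q : Subgroup T).index ≤ n := by
      intro Q
      rw [hn, ← Subgroup.card_mul_index (Q : Subgroup T)]
      refine Nat.mul_le_mul_right _ ?_
      by_cases hna : ∀ a ∈ (Q : Subgroup T), ∀ b ∈ (Q : Subgroup T), Commute a b
      · have : f Q = ∅ := Finset.filter_eq_empty_iff.mpr fun x _ h => h.2 hna
        rw [this, Finset.card_empty, zero_mul]
        exact Nat.card_pos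
      · refine le_trans ?_ (card_central_bound Q hna)
        refine Nat.add_le_add_right (Nat.mul_le_mul_right _ (le_of_eq ?_)) 1
        rw [← Set.ncard_coe_finset]
        congr 1
        ext x
        simp only [f, Finset.coe_filter, Finset.mem_univ, true_and, Set.mem_setOf_eq]
        exact ⟨fun h => h.1, fun h => ⟨h, hna⟩⟩
    obtain ⟨Q₀⟩ : Nonempty (Sylow p T) := inferInstance
    have hnp : Nat.card (Sylow p T) ≤ (Q₀ : Subgroup T).index :=
      Nat.le_of_dvd (Nat.pos_of_ne_zero Subgroup.index_ne_zero_of_finite) (Sylow.card_dvd_index Q₀)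
    obtain ⟨Qm, -, hQm⟩ := Finset.exists_max_image (Finset.univ : Finset (Sylow p T))
      (fun Q => (f Q).card) ⟨Q₀, Finset.mem_univ _⟩
    have hidx : (Qm : Subgroup T).index = (Q₀ : Subgroup T).index := by
      have e1 := Subgroup.card_mul_index (Qm : Subgroup T)
      have e2 := Subgroup.card_mul_index (Q₀ : Subgroup T)
      rw [Sylow.card_eq_multiplicity] at e1 e2
      exact Nat.eq_of_mul_eq_mul_left (pow_pos (Nat.prime_of_mem_primeFactors hp).pos _) (e1.trans e2.symm)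
    have hcard : (B p).card ≤ Nat.card (Sylow p T) * (f Qm).card := by
      refine (Finset.card_le_card hsub).trans (Finset.card_biUnion_le.trans ?_)
      rw [Nat.card_eq_fintype_card, ← Finset.card_univ]
      exact Finset.sum_le_card_nsmul _ _ _ fun Q hQ => hQm Q hQ
    have h1 : Nat.card (Sylow p T) * ((f Qm).card * p ^ 2 + 1) ≤ n := by
      refine le_trans ?_ (hQ Qm)
      rw [hidx, mul_comm]
      exact Nat.mul_le_mul_left _ hnp
    have h2 : 0 < Nat.card (Sylow p T) := Nat.card_pos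
    calc (B p).card * p ^ 2 ≤ Nat.card (Sylow p T) * (f Qm).card * p ^ 2 := Nat.mul_le_mul_right _ hcard
      _ < Nat.card (Sylow p T) * ((f Qm).card * p ^ 2 + 1) := by rw [mul_add, mul_assoc]; omega
      _ ≤ n := h1
  have hcover : (Finset.univ : Finset T).erase 1 ⊆ n.primeFactors.biUnion B := by
    intro x hx
    have hx1 := Finset.ne_of_mem_erase hx
    obtain ⟨p, hp, hd, Q, hQ, hc, hna⟩ := hψ.exists_sylow hx1
    exact Finset.mem_biUnion.mpr ⟨p, Nat.mem_primeFactors.mpr ⟨hp, hd, by omega⟩,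
      Finset.mem_filter.mpr ⟨Finset.mem_univ _, hx1, Q, hQ, hc, hna⟩⟩
  have hle := (Finset.card_le_card hcover).trans Finset.card_biUnion_le
  rw [Finset.card_erase_of_mem (Finset.mem_univ _), Finset.card_univ, ← Nat.card_eq_fintype_card, ← hn] at hle
  have hne : n.primeFactors.Nonempty := Nat.nonempty_primeFactors.mpr hn1
  have hlt : ((∑ p ∈ n.primeFactors, (B p).card : ℕ) : ℚ) <
      ∑ p ∈ n.primeFactors, (n : ℚ) * (1 / (p : ℚ) ^ 2) := by
    push_cast
    refine Finset.sum_lt_sum_of_nonempty hne fun p hp => ?_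
    have hp0 : (0 : ℚ) < (p : ℚ) ^ 2 := by
      have := (Nat.prime_of_mem_primeFactors hp).pos
      positivity
    rw [mul_one_div, lt_div_iff₀ hp0]
    exact_mod_cast hB p hp
  have hsub : n.primeFactors ⊆ Finset.Icc 2 n := fun p hp => Finset.mem_Icc.mpr
    ⟨(Nat.prime_of_mem_primeFactors hp).two_le, Nat.le_of_mem_primeFactors hp⟩
  have h3 : ∑ p ∈ n.primeFactors, (n : ℚ) * (1 / (p : ℚ) ^ 2) ≤ (n : ℚ) - 1 := by
    rw [← Finset.mul_sum]
    calc _ ≤ (n : ℚ) * ∑ k ∈ Finset.Icc 2 n, (1 : ℚ) / (k : ℚ) ^ 2 :=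
          mul_le_mul_of_nonneg_left (Finset.sum_le_sum_of_subset_of_nonneg hsub fun _ _ _ => by positivity)
            (by positivity)
      _ ≤ (n : ℚ) * (1 - 1 / (n : ℚ)) :=
          mul_le_mul_of_nonneg_left (sum_inv_sq_le n hn1.le) (by positivity)
      _ = (n : ℚ) - 1 := by
          have : (n : ℚ) ≠ 0 := by exact_mod_cast (show n ≠ 0 by omega)
          rw [mul_sub, mul_one, mul_one_div, div_self this]
  have h4 : ((n - 1 : ℕ) : ℚ) ≤ ((∑ p ∈ n.primeFactors, (B p).card : ℕ) : ℚ) := by exact_mod_cast hle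
  rw [Nat.cast_sub hn1.le] at h4
  push_cast at h4 hlt
  linarith

end CfsgLib.PrimRecog
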