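import Cfsg.Agent.Lib.PrimRecog.Extremely
import Cfsg.Agent.Lib.PrimRecog.MaximalCentralizersCount

/-! Extremely primitive groups are affine or almost simple. -/
set_option autoImplicit false

namespace CfsgLib.PrimRecog

open MulAction

variable {G Ω : Type*} [Group G] [Finite G] [MulAction G Ω] [Finite Ω] [FaithfulSMul G Ω]

namespace IsEP

variable (hG : IsEP G Ω)
include hG

lemma eq_of_stab_le {α β : Ω} (h : stabilizer G α ≤ stabilizer G β) : β = α := by
  by_contra hne
  exact hG.stab_ne hne (Subgroup.eq_of_le_of_card_ge h (card_stabilizer_eq hG.transitive β α).le)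

/-- A point stabilizer in a stabilizer is maximal. -/
lemma isCoatom_two_point {α β : Ω} (hβ : β ≠ α) : IsCoatom (stabilizer (stabilizer G α) β) := by
  set H := stabilizer G α
  have : Nontrivial (orbit H β) := by
    by_contra hsub
    rw [not_nontrivial_iff_subsingleton] at hsub
    refine hβ (hG.eq_of_stab_le fun g hg => ?_)
    exact congrArg Subtype.val (hsub.elim (⟨g • β, ⟨g, hg⟩, rfl⟩ : orbit H β) ⟨β, mem_orbit_self β⟩)
  have := hG.ep α β
  have hc := IsPreprimitive.isCoatom_stabilizer_of_isPreprimitive H (⟨β, mem_orbit_self β⟩ : orbit H β)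
  have heq : stabilizer H (⟨β, mem_orbit_self β⟩ : orbit H β) = stabilizer H β := by
    ext x
    rw [mem_stabilizer_iff, mem_stabilizer_iff, Subtype.ext_iff]
    exact Iff.rfl
  rwa [heq] at hc

/-- An invariant set meeting the structure: either the subgroup lies in the stabilizer or the set
is everything. -/
lemma orbit_eq_univ {α : Ω} {L : Subgroup G} (hL : ¬ L ≤ stabilizer G α)
    (hinv : ∀ h ∈ stabilizer G α, ∀ l ∈ L, ∃ l' ∈ L, h • l • α = l' • α) (x : Ω) :
    ∃ l ∈ L, l • α = x := by
  let K : Subgroup G :=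
    { carrier := {g | ∀ y, (∃ l ∈ L, l • α = y) ↔ ∃ l ∈ L, l • α = g • y}
      one_mem' := fun y => by simp
      mul_mem' := fun {a b} ha hb y => by rw [mul_smul]; exact (hb y).trans (ha _)
      inv_mem' := fun {a} ha y => by
        have := ha (a⁻¹ • y)
        rw [smul_inv_smul] at this
        exact this.symm }
  have hH : stabilizer G α ≤ K := by
    intro g hg y
    constructor
    · rintro ⟨l, hl, rfl⟩
      obtain ⟨l', hl', he⟩ := hinv g hg l hl
      exact ⟨l', hl', he.symm⟩
    · rintro ⟨l, hl, he⟩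
      obtain ⟨l', hl', he'⟩ := hinv g⁻¹ ((stabilizer G α).inv_mem hg) l hl
      exact ⟨l', hl', by rw [← he', he, inv_smul_smul]⟩
  have hLK : L ≤ K := by
    intro g hg y
    refine ⟨fun ⟨l, hl, he⟩ => ⟨g * l, L.mul_mem hg hl, by rw [mul_smul, he]⟩,
      fun ⟨l, hl, he⟩ => ⟨g⁻¹ * l, L.mul_mem (L.inv_mem hg) hl, by rw [mul_smul, he, inv_smul_smul]⟩⟩
  rcases (hG.isCoatom α).le_iff.mp hH with h | h
  · obtain ⟨g, rfl⟩ := hG.transitive.exists_smul_eq α x
    exact ((h ▸ Subgroup.mem_top g : g ∈ K) α).mp ⟨1, L.one_mem, one_smul G α⟩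
  · exact absurd (h ▸ hLK) hL

/-- The diagonal case does not occur. -/
theorem no_diagonal (α : Ω) {T C : Subgroup G} (hT : IsPretransitive T Ω)
    (hTs : ∀ t ∈ T, t ≠ 1 → IsDer Ω t) (hC : IsPretransitive C Ω)
    (hCT : ∀ c ∈ C, ∀ t ∈ T, c * t = t * c)
    (hcenter : ∀ x ∈ T, (∀ y ∈ T, x * y = y * x) → x = 1)
    (hsplit : ∀ h ∈ stabilizer G α, (∀ t ∈ T, h * t * h⁻¹ ∈ T) ∨
      (∀ t ∈ T, ∀ u ∈ T, h * t * h⁻¹ * u = u * (h * t * h⁻¹))) : False := by
  have hfree : ∀ t ∈ T, ∀ u ∈ T, t • α = u • α → t = u := fun t ht u hu he => by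
    by_contra hne
    exact hTs _ (T.mul_mem (T.inv_mem hu) ht) (fun h => hne (inv_mul_eq_one.mp h).symm) α
      (by rw [mul_smul, he, inv_smul_smul])
  let e : T ≃ Ω := Equiv.ofBijective (fun t => (t : G) • α)
    ⟨fun t u h => Subtype.ext (hfree t t.2 u u.2 h), fun x => by
      obtain ⟨t, ht⟩ := hT.exists_smul_eq α x
      exact ⟨t, ht⟩⟩
  let ψ : stabilizer G α →* Equiv.Perm T :=
    { toFun := fun h => (e.trans (MulAction.toPerm (h : G))).trans e.symm
      map_one' := by ext; simp
      map_mul' := fun a b => by ext; simp [mul_smul] }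
  have hψ : ∀ h x, ((ψ h x : T) : G) • α = (h : G) • (x : G) • α := fun h x => e.apply_symm_apply _
  have hconj : ∀ (h : stabilizer G α) (x : T),
      ((ψ h x : T) : G) • α = ((h : G) * x * (h : G)⁻¹) • α := by
    intro h x
    have h' : (h : G)⁻¹ • α = α := (stabilizer G α).inv_mem h.2
    rw [hψ, mul_smul, mul_smul, h']
  have : Nontrivial Ω := hG.nontrivial α
  have : Nontrivial T := e.nontrivial
  refine CentralizerSystem.false (ψ := ψ) ⟨?_, ?_, ?_, ?_, ?_, ?_⟩
  · -- powers
    intro h x n
    apply e.injective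
    show ((ψ h (x ^ n) : T) : G) • α = ((ψ h x ^ n : T) : G) • α
    rw [hconj, Subgroup.coe_pow, Subgroup.coe_pow, ← conj_pow]
    rcases hsplit h h.2 with hh | hh
    · rw [hfree _ (hh x x.2) _ (ψ h x).2 (hconj h x).symm]
    · induction n with
      | zero => simp
      | succ n ih =>
        rw [pow_succ', mul_smul, ih, ← mul_smul, hh x x.2 _ (T.pow_mem (ψ h x).2 n), mul_smul,
          ← hconj h x, ← mul_smul, ← pow_succ]
  · -- commuting pairs
    intro h x y hxy
    rcases hsplit h h.2 with hh | hh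
    · have h1 := hfree _ (hh x x.2) _ (ψ h x).2 (hconj h x).symm
      have h2 := hfree _ (hh y y.2) _ (ψ h y).2 (hconj h y).symm
      refine Subtype.ext ?_
      rw [Subgroup.coe_mul, Subgroup.coe_mul, ← h1, ← h2]
      have := congrArg (fun z : T => (h : G) * z * (h : G)⁻¹) hxy.eq
      simpa [mul_assoc] using this
    · refine Subtype.ext (hfree _ (ψ h x * ψ h y).2 _ (ψ h y * ψ h x).2 ?_)
      have hc : (h : G) * x * (h : G)⁻¹ * ((h : G) * y * (h : G)⁻¹) =
          (h : G) * y * (h : G)⁻¹ * ((h : G) * x * (h : G)⁻¹) := by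
        have := congrArg (fun z : T => (h : G) * z * (h : G)⁻¹) hxy.eq
        simpa [mul_assoc] using this
      rw [Subgroup.coe_mul, Subgroup.coe_mul, mul_smul, mul_smul, hconj h y, ← mul_smul,
        ← hh y y.2 _ (ψ h x).2, mul_smul, hconj h x, ← mul_smul, ← hc, mul_smul, ← hconj h y,
        ← mul_smul, hh x x.2 _ (ψ h y).2, mul_smul]
  · -- inner automorphisms
    intro u
    obtain ⟨⟨c, hc⟩, hcα⟩ := hC.exists_smul_eq α ((u : G)⁻¹ • α)
    change c • α = (u : G)⁻¹ • α at hcα
    refine ⟨⟨(u : G) * c, ?_⟩, fun x => Subtype.ext (hfree _ (ψ _ x).2 _ (u * x * u⁻¹).2 ?_)⟩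
    · rw [mem_stabilizer_iff, mul_smul, hcα, smul_inv_smul]
    · rw [hψ]
      show ((u : G) * c) • (x : G) • α = _
      rw [← mul_smul, mul_assoc, hCT c hc x x.2, ← mul_assoc, mul_smul, hcα, ← mul_smul]
      rfl
  · -- maximal centralizers
    intro x hx
    have hβ : (x : G) • α ≠ α := fun h =>
      hx (Subtype.ext (hfree x x.2 1 T.one_mem (by rw [h, one_smul])))
    have heq : pstab ψ x = stabilizer (stabilizer G α) ((x : G) • α) := by
      ext h
      rw [mem_stabilizer_iff]
      constructor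
      · intro (hh : ψ h x = x)
        show (h : G) • (x : G) • α = (x : G) • α
        rw [← hψ, hh]
      · intro (hh : (h : G) • (x : G) • α = (x : G) • α)
        exact Subtype.ext (hfree _ (ψ h x).2 _ x.2 (by rw [hψ, hh]))
    rw [heq]
    exact hG.isCoatom_two_point hβ
  · -- no invariant subgroups
    intro L hL
    by_cases hle : L.map T.subtype ≤ stabilizer G α
    · left
      refine (Subgroup.eq_bot_iff_forall _).mpr fun l hl => Subtype.ext (hfree l l.2 1 T.one_mem ?_)
      rw [one_smul]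
      exact hle ⟨l, hl, rfl⟩
    · right
      refine (Subgroup.eq_top_iff' _).mpr fun x => ?_
      obtain ⟨_, ⟨l, hl, rfl⟩, he⟩ := hG.orbit_eq_univ hle (by
        rintro h hh _ ⟨l, hl, rfl⟩
        exact ⟨_, ⟨_, hL ⟨h, hh⟩ l hl, rfl⟩, (hψ ⟨h, hh⟩ l).symm⟩) ((x : G) • α)
      exact Subtype.ext (hfree _ l.2 _ x.2 he) ▸ hl
  · intro x hx
    exact Subtype.ext (hcenter x x.2 fun y hy => congrArg Subtype.val (hx ⟨y, hy⟩))

/-- A non-abelian minimal normal subgroup forces almost simplicity. -/
theorem isAS (α : Ω) {N : Subgroup G} (hN : N.Normal) (hN1 : N ≠ ⊥)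
    (hmin : ∀ M : Subgroup G, M.Normal → M ≤ N → M = ⊥ ∨ M = N) (hna : ¬ IsMulCommutative N) :
    IsAS G := by
  have hNtr := transitive_of_normal (Ω := Ω) hG.prim hN hN1
  rcases minimal_normal_cases hN hN1 hmin with h | ⟨hs, -⟩ | ⟨T, hT⟩
  · exact absurd h hna
  · by_contra hnas
    obtain ⟨M, hM, hM1, hMN, hdN, -⟩ := simple_case hG.prim hN hs hna hnas
    refine hG.no_diagonal α hNtr hdN (transitive_of_normal (Ω := Ω) hG.prim hM hM1)
      (fun c hc t ht => ?_)
      (fun x hx hc => congrArg Subtype.val (center_trivial_of_simple hs hna ⟨x, hx⟩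
        fun y => Subtype.ext (hc y y.2)))
      (fun h _ => Or.inl fun t ht => hN.conj_mem t ht h)
    refine eq_of_mul_inv_eq_one ?_
    refine hMN _ ?_ ?_
    · have : c * t * (t * c)⁻¹ = c * (t * c⁻¹ * t⁻¹) := by group
      rw [this]
      exact M.mul_mem hc (hM.conj_mem _ (M.inv_mem hc) t)
    · have : c * t * (t * c)⁻¹ = (c * t * c⁻¹) * t⁻¹ := by group
      rw [this]
      exact N.mul_mem (hN.conj_mem t ht c) (N.inv_mem ht)
  · exfalso
    classical
    set H := stabilizer G α with hH
    obtain ⟨g, hg⟩ := hT.other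
    obtain ⟨⟨t₀, ht₀⟩, ht₀'⟩ := Subgroup.ne_bot_iff_exists_ne_one.mp hT.ne
    have ht₀1 : t₀ ≠ 1 := fun h => ht₀' (Subtype.ext h)
    by_cases hS : H ⊓ N = ⊥
    · -- regular
      have hfree : ∀ n ∈ N, n • α = α → n = 1 := fun n hn h =>
        Subgroup.mem_bot.mp (hS ▸ (⟨h, hn⟩ : n ∈ H ⊓ N))
      have hcent : ∀ h ∈ H, (∀ t ∈ T, h * t * h⁻¹ ∈ T) → ∀ t ∈ T, h * t * h⁻¹ = t := by
        intro h hh hhT t ht
        by_cases ht1 : t = 1
        · simp [ht1]
        let L : Subgroup H :=
          { carrier := {k | ∀ u ∈ T, (k : G) * u * (k : G)⁻¹ ∈ T}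
            one_mem' := fun u hu => by simpa using hu
            mul_mem' := fun {a b} ha hb u hu => by
              have := ha _ (hb u hu)
              simpa [mul_assoc] using this
            inv_mem' := fun {a} ha u hu => by
              have hfin : T.map (MulAut.conj (a : G)).toMonoidHom = T := by
                refine Subgroup.eq_of_le_of_card_ge ?_ ?_
                · rintro _ ⟨v, hv, rfl⟩; exact ha v hv
                · exact (Subgroup.card_map_of_injective (MulAut.conj (a : G)).injective).ge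
              rw [← hfin] at hu
              obtain ⟨v, hv, rfl⟩ := hu
              simpa [mul_assoc] using hv }
        have hle : stabilizer H (t • α) ≤ L := by
          intro k hk u hu
          change (k : G) • t • α = t • α at hk
          have h' : (k : G)⁻¹ • α = α := H.inv_mem k.2
          have hkt : (k : G) * t * (k : G)⁻¹ = t := by
            refine (inv_mul_eq_one.mp (hfree (t⁻¹ * ((k : G) * t * (k : G)⁻¹))
              (N.mul_mem (N.inv_mem (hT.le ht)) (hN.conj_mem t (hT.le ht) k)) ?_)).symm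
            rw [mul_smul, mul_smul, mul_smul, h', hk, inv_smul_smul]
          rcases hT.conj k with hk' | hk'
          · exact hk' u hu
          · exact absurd (hT.eq_one_of_mem_both ht (hkt ▸ hk' t ht)) ht1
        have hβ : t • α ≠ α := fun h' => ht1 (hfree t (hT.le ht) h')
        rcases (hG.isCoatom_two_point hβ).le_iff.mp hle with htop | heq
        · exfalso
          obtain ⟨⟨n, hn⟩, hnα⟩ := hNtr.exists_smul_eq α (g • α)
          change n • α = g • α at hnα
          have hk : n⁻¹ * g ∈ H := by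
            rw [hH, mem_stabilizer_iff, mul_smul, ← hnα, inv_smul_smul]
          have h1 : (n⁻¹ * g) * t₀ * (n⁻¹ * g)⁻¹ ∈ T :=
            (htop ▸ Subgroup.mem_top (⟨_, hk⟩ : H) : (⟨_, hk⟩ : H) ∈ L) t₀ ht₀
          have h2 : g * t₀ * g⁻¹ ∈ T := by
            have := hT.norm n hn _ h1
            simpa [mul_assoc] using this
          exact ht₀1 (conj_eq_one_iff.mp (hT.eq_one_of_mem_both h2 (hg t₀ ht₀)))
        · have hhL : (⟨h, hh⟩ : H) ∈ L := hhT
          rw [heq] at hhL
          change h • t • α = t • α at hhL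
          have h' : h⁻¹ • α = α := H.inv_mem hh
          refine (inv_mul_eq_one.mp (hfree (t⁻¹ * (h * t * h⁻¹))
            (N.mul_mem (N.inv_mem (hT.le ht)) (hN.conj_mem t (hT.le ht) h)) ?_)).symm
          rw [mul_smul, mul_smul, mul_smul, h', hhL, inv_smul_smul]
      have := Fintype.ofFinite H
      let O : Finset G := Finset.univ.image fun h : H => (h : G) * t₀ * (h : G)⁻¹
      have hmem : ∀ x ∈ O, x ≠ t₀ → x ∈ coFactor N T := by
        intro x hx hne
        obtain ⟨h, -, rfl⟩ := Finset.mem_image.mp hx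
        rcases hT.conj h with hh | hh
        · exact absurd (hcent h h.2 hh t₀ ht₀) hne
        · exact hh t₀ ht₀
      have hpair : ∀ x ∈ O, ∀ y ∈ O, x * y = y * x := by
        intro x hx y hy
        obtain ⟨a, -, rfl⟩ := Finset.mem_image.mp hx
        obtain ⟨b, -, rfl⟩ := Finset.mem_image.mp hy
        have hm : ((b⁻¹ * a : H) : G) * t₀ * ((b⁻¹ * a : H) : G)⁻¹ ∈ O :=
          Finset.mem_image_of_mem _ (Finset.mem_univ (b⁻¹ * a))
        set x' := ((b⁻¹ * a : H) : G) * t₀ * ((b⁻¹ * a : H) : G)⁻¹ with hx'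
        have hcx : x' * t₀ = t₀ * x' := by
          by_cases he : x' = t₀
          · rw [he]
          · exact (coFactor_comm ht₀ (hmem x' hm he)).symm
        have := congrArg (fun z => (b : G) * z * (b : G)⁻¹) hcx
        simpa [hx', mul_assoc] using this
      set π := O.noncommProd id fun x hx y hy _ => hpair x hx y hy with hπ
      have hπN : π ∈ N := Subgroup.noncommProd_mem N _ fun x hx => by
        obtain ⟨h, -, rfl⟩ := Finset.mem_image.mp hx
        exact hN.conj_mem t₀ (hT.le ht₀) h
      have hinv : ∀ h : H, (h : G) * π * (h : G)⁻¹ = π := by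
        intro h
        have himg : O.image (MulAut.conj (h : G)) = O := by
          refine Finset.eq_of_subset_of_card_le ?_
            (Finset.card_image_of_injective _ (MulAut.conj (h : G)).injective).ge
          intro x hx
          obtain ⟨y, hy, rfl⟩ := Finset.mem_image.mp hx
          obtain ⟨k, -, rfl⟩ := Finset.mem_image.mp hy
          refine Finset.mem_image.mpr ⟨h * k, Finset.mem_univ _, ?_⟩
          simp [mul_assoc]
        have h1 := Finset.map_noncommProd O id (fun x hx y hy _ => hpair x hx y hy)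
          (MulAut.conj (h : G)).toMonoidHom
        show (MulAut.conj (h : G)).toMonoidHom π = π
        rw [hπ, h1]
        have h2 := (MulAut.conj (h : G)).injective
        calc O.noncommProd (fun i => (MulAut.conj (h : G)).toMonoidHom (id i)) _
            = (O.image (MulAut.conj (h : G))).noncommProd id (fun x hx y hy _ => hpair x (himg ▸ hx) y (himg ▸ hy)) := by
              simp only [Finset.noncommProd, Finset.image_val_of_injOn h2.injOn, Multiset.map_map]
              rfl
          _ = O.noncommProd id _ := Finset.noncommProd_congr himg (fun x _ => rfl) _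
      have hfix : π • α = α := by
        refine hG.eq_of_stab_le fun k hk => ?_
        have h' : k⁻¹ • α = α := H.inv_mem hk
        rw [mem_stabilizer_iff]
        conv_rhs => rw [← hinv ⟨k, hk⟩, mul_smul, mul_smul, h']
      have hπ1 := hfree π hπN hfix
      have hO : t₀ ∈ O := Finset.mem_image.mpr ⟨1, Finset.mem_univ _, by simp⟩
      rw [hπ, ← Finset.mul_noncommProd_erase O hO id (fun x hx y hy _ => hpair x hx y hy)] at hπ1
      refine ht₀1 (hT.eq_one_of_mem_both ht₀ ?_)
      rw [id_eq] at hπ1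
      rw [eq_inv_of_mul_eq_one_left hπ1]
      exact Subgroup.inv_mem _ (Subgroup.noncommProd_mem _ _ fun x hx =>
        hmem x (Finset.mem_of_mem_erase hx) (Finset.ne_of_mem_erase hx))
    · -- the point stabilizer in `N` is non-trivial
      have hTα : ¬ T ≤ H := fun hle => by
        refine ht₀1 (FaithfulSMul.eq_of_smul_eq_smul (α := Ω) fun x => ?_)
        obtain ⟨⟨n, hn⟩, rfl⟩ := hNtr.exists_smul_eq α x
        have h1 : n⁻¹ * t₀ * n ∈ T := by simpa using hT.norm n⁻¹ (N.inv_mem hn) t₀ ht₀
        have h2 : (n⁻¹ * t₀ * n) • α = α := hle h1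
        show t₀ • (n • α) = (1 : G) • (n • α)
        rw [mul_smul, mul_smul, inv_smul_eq_iff] at h2
        rw [one_smul, h2]
      have hTtr : IsPretransitive T Ω := by
        have huniv := hG.orbit_eq_univ hTα (fun h hh t ht => by
          have h1 : h • t • α ∈ orbit ↥(H ⊓ N) (t • α) := by
            rw [hG.orbit_eq (inf_le_left) (fun a ha k hk => ⟨H.mul_mem (H.mul_mem ha hk.1) (H.inv_mem ha),
              hN.conj_mem k hk.2 a⟩) hS (t • α)]
            exact ⟨⟨h, hh⟩, rfl⟩
          obtain ⟨⟨s, hsH, hsN⟩, hs⟩ := h1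
          change s • t • α = h • t • α at hs
          refine ⟨s * t * s⁻¹, hT.norm s hsN t ht, ?_⟩
          have h' : s⁻¹ • α = α := H.inv_mem hsH
          rw [← hs, mul_smul, mul_smul, h'])
        refine ⟨fun x y => ?_⟩
        obtain ⟨a, ha, rfl⟩ := huniv x
        obtain ⟨b, hb, rfl⟩ := huniv y
        exact ⟨⟨b * a⁻¹, T.mul_mem hb (T.inv_mem ha)⟩, by
          show (b * a⁻¹) • a • α = b • α
          rw [mul_smul, inv_smul_smul]⟩
      have hCtr : IsPretransitive (coFactor N T) Ω := ⟨fun x y => by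
        obtain ⟨⟨t, ht⟩, he⟩ := hTtr.exists_smul_eq (g⁻¹ • x) (g⁻¹ • y)
        change t • g⁻¹ • x = g⁻¹ • y at he
        refine ⟨⟨g * t * g⁻¹, hg t ht⟩, ?_⟩
        show (g * t * g⁻¹) • x = y
        rw [mul_smul, mul_smul, he, smul_inv_smul]⟩
      exact hG.no_diagonal α hTtr
        (fun t ht => isDer_of_commute hCtr fun c hc => (coFactor_comm ht hc).symm) hCtr
        (fun c hc t ht => (coFactor_comm ht hc).symm) hT.center
        (fun h _ => (hT.conj h).imp id fun h' t ht u hu => (coFactor_comm hu (h' t ht)).symm)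

end IsEP

end CfsgLib.PrimRecog
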