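import Cfsg.Agent.Lib.PrimRecog.Basic

/-! A non-abelian, non-simple minimal normal subgroup splits as a product `T × C`. -/
set_option autoImplicit false

namespace CfsgLib.PrimRecog

open MulAction

variable {G Ω : Type*} [Group G] [MulAction G Ω]

/-- The centralizer of `T` in `N`. -/
def coFactor (N T : Subgroup G) : Subgroup G := Subgroup.centralizer (T : Set G) ⊓ N

/-- `T` is a proper direct factor of `N`, whose conjugates are equal to it or commute with it. -/
structure IsFactor (N T : Subgroup G) : Prop where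
  le : T ≤ N
  ne : T ≠ ⊥
  norm : ∀ n ∈ N, ∀ t ∈ T, n * t * n⁻¹ ∈ T
  center : ∀ x ∈ T, (∀ y ∈ T, x * y = y * x) → x = 1
  conj : ∀ g : G, (∀ t ∈ T, g * t * g⁻¹ ∈ T) ∨ (∀ t ∈ T, g * t * g⁻¹ ∈ coFactor N T)
  other : ∃ g : G, ∀ t ∈ T, g * t * g⁻¹ ∈ coFactor N T
  decomp : ∀ n ∈ N, ∃ t ∈ T, ∃ c ∈ coFactor N T, n = t * c

lemma coFactor_comm {N T : Subgroup G} {t c : G} (ht : t ∈ T) (hc : c ∈ coFactor N T) :
    t * c = c * t := Subgroup.mem_centralizer_iff.mp hc.1 t ht

lemma coFactor_le {N T : Subgroup G} : coFactor N T ≤ N := inf_le_right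

/-- The three possibilities for a minimal normal subgroup. -/
theorem minimal_normal_cases [Finite G] {N : Subgroup G} (hN : N.Normal) (hN1 : N ≠ ⊥)
    (hmin : ∀ M : Subgroup G, M.Normal → M ≤ N → M = ⊥ ∨ M = N) :
    IsMulCommutative N ∨ (IsSimpleGroup N ∧ ¬ IsMulCommutative N) ∨ ∃ T, IsFactor N T := by
  by_cases habN : IsMulCommutative N
  · exact Or.inl habN
  refine Or.inr ?_
  obtain ⟨T, ⟨hle, hne, hnorm⟩, hTmin⟩ := (wellFounded_lt (α := Subgroup G)).has_min
    {T : Subgroup G | T ≤ N ∧ T ≠ ⊥ ∧ ∀ n ∈ N, ∀ t ∈ T, n * t * n⁻¹ ∈ T}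
    ⟨N, le_rfl, hN1, fun n hn t ht => N.mul_mem (N.mul_mem hn ht) (N.inv_mem hn)⟩
  have hsub : ∀ K : Subgroup G, K ≤ T → (∀ n ∈ N, ∀ t ∈ K, n * t * n⁻¹ ∈ K) → K ≠ ⊥ → K = T := by
    intro K hK hKn hK1
    by_contra h
    exact hTmin K ⟨hK.trans hle, hK1, hKn⟩ (lt_of_le_of_ne hK h)
  -- each conjugate is equal to `T` or commutes with it
  have hconj : ∀ g : G, (∀ t ∈ T, g * t * g⁻¹ ∈ T) ∨
      (∀ t ∈ T, g * t * g⁻¹ ∈ coFactor N T) := by
    intro g
    set T' := T.map (MulAut.conj g).toMonoidHom with hT'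
    have hmem : ∀ t ∈ T, g * t * g⁻¹ ∈ T' := fun t ht => ⟨t, ht, rfl⟩
    have hnorm' : ∀ n ∈ N, ∀ t ∈ T', n * t * n⁻¹ ∈ T' := by
      rintro n hn _ ⟨t, ht, rfl⟩
      refine ⟨(g⁻¹ * n * g) * t * (g⁻¹ * n * g)⁻¹, hnorm _ ?_ t ht, ?_⟩
      · simpa using hN.conj_mem n hn g⁻¹
      · simp [mul_assoc]
    have hle' : T' ≤ N := by
      rintro _ ⟨t, ht, rfl⟩
      exact hN.conj_mem t (hle ht) g
    by_cases hK : T' ⊓ T = ⊥
    · refine Or.inr fun t ht => ⟨Subgroup.mem_centralizer_iff.mpr fun y hy => ?_, hle' (hmem t ht)⟩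
      set x := g * t * g⁻¹
      have hx : x ∈ T' := hmem t ht
      have : y * x * y⁻¹ * x⁻¹ ∈ T' ⊓ T := by
        refine ⟨T'.mul_mem (hnorm' y (hle hy) x hx) (T'.inv_mem hx), ?_⟩
        have : x * y⁻¹ * x⁻¹ ∈ T := hnorm x (hle' hx) _ (T.inv_mem hy)
        simpa [mul_assoc] using T.mul_mem hy this
      rw [hK, Subgroup.mem_bot, mul_inv_eq_one, mul_inv_eq_iff_eq_mul] at this
      exact this
    · refine Or.inl fun t ht => ?_
      have hKT : T' ⊓ T = T := hsub _ inf_le_right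
        (fun n hn t ht => ⟨hnorm' n hn t ht.1, hnorm n hn t ht.2⟩) hK
      have hTT' : T ≤ T' := hKT ▸ inf_le_left
      have hcard : Nat.card T' ≤ Nat.card T :=
        (Subgroup.card_map_of_injective (MulAut.conj g).injective).le
      have : T = T' := Subgroup.eq_of_le_of_card_ge hTT' hcard
      have h2 := hmem t ht
      rwa [← this] at h2
  set X : Set G := {x | ∃ g : G, ∃ t ∈ T, x = g * t * g⁻¹} with hX
  have hclos : Subgroup.closure X = N := by
    have hnX : (Subgroup.closure X).Normal := by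
      refine ⟨fun x hx g => ?_⟩
      induction hx using Subgroup.closure_induction with
      | mem x hx =>
        obtain ⟨h, t, ht, rfl⟩ := hx
        exact Subgroup.subset_closure ⟨g * h, t, ht, by group⟩
      | one => simp
      | mul x y _ _ hx hy =>
        have := Subgroup.mul_mem _ hx hy
        simpa [mul_assoc] using this
      | inv x _ hx =>
        have := Subgroup.inv_mem _ hx
        simpa [mul_assoc] using this
    refine (hmin _ hnX ?_).resolve_left ?_
    · rw [Subgroup.closure_le]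
      rintro _ ⟨g, t, ht, rfl⟩
      exact hN.conj_mem t (hle ht) g
    · intro h
      refine hne ((Subgroup.eq_bot_iff_forall _).mpr fun t ht => ?_)
      have : t ∈ Subgroup.closure X := Subgroup.subset_closure ⟨1, t, ht, by simp⟩
      rwa [h, Subgroup.mem_bot] at this
  have hcenter : ∀ x ∈ T, (∀ y ∈ T, x * y = y * x) → x = 1 := by
    intro x hx hxc
    by_contra hx1
    apply habN
    have hK : T ⊓ Subgroup.centralizer (T : Set G) = T := by
      refine hsub _ inf_le_left (fun n hn t ht => ⟨hnorm n hn t ht.1,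
        Subgroup.mem_centralizer_iff.mpr fun y hy => ?_⟩) ?_
      · have hy' : n⁻¹ * y * n ∈ T := by simpa using hnorm n⁻¹ (N.inv_mem hn) y hy
        have := congrArg (fun z => n * z * n⁻¹) (Subgroup.mem_centralizer_iff.mp ht.2 _ hy')
        simpa [mul_assoc] using this
      · intro h
        have : x ∈ T ⊓ Subgroup.centralizer (T : Set G) :=
          ⟨hx, Subgroup.mem_centralizer_iff.mpr fun y hy => (hxc y hy).symm⟩
        rw [h, Subgroup.mem_bot] at this
        exact hx1 this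
    have hTab : ∀ t ∈ T, ∀ y ∈ T, y * t = t * y := fun t ht y hy => by
      rw [← hK] at ht
      exact Subgroup.mem_centralizer_iff.mp ht.2 y hy
    have hXc : ∀ a ∈ X, ∀ b ∈ X, a * b = b * a := by
      rintro _ ⟨g, t, ht, rfl⟩ _ ⟨h, u, hu, rfl⟩
      have : ((h⁻¹ * g) * t * (h⁻¹ * g)⁻¹) * u = u * ((h⁻¹ * g) * t * (h⁻¹ * g)⁻¹) := by
        rcases hconj (h⁻¹ * g) with hc | hc
        · exact hTab u hu _ (hc t ht)
        · exact (coFactor_comm hu (hc t ht)).symm
      have := congrArg (fun z => h * z * h⁻¹) this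
      simpa [mul_assoc] using this
    rw [← hclos]
    exact Subgroup.isMulCommutative_closure hXc
  by_cases hall : ∀ g : G, ∀ t ∈ T, g * t * g⁻¹ ∈ T
  · left
    refine ⟨?_, habN⟩
    have hTN : T = N := (hmin T ⟨fun t ht g => hall g t ht⟩ hle).resolve_left hne
    have : Nontrivial N := (Subgroup.nontrivial_iff_ne_bot N).mpr hN1
    refine ⟨fun H hH => ?_⟩
    by_cases h : H.map N.subtype = ⊥
    · exact Or.inl ((Subgroup.map_eq_bot_iff_of_injective _ N.subtype_injective).mp h)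
    · right
      have h2 := hsub (H.map N.subtype) (by rw [hTN]; exact Subgroup.map_subtype_le H)
        (by
          rintro n hn _ ⟨x, hx, rfl⟩
          exact ⟨⟨n, hn⟩ * x * ⟨n, hn⟩⁻¹, hH.conj_mem x hx _, rfl⟩) h
      rw [hTN] at h2
      exact (Subgroup.eq_top_iff' _).mpr fun x => by
        have : (x : G) ∈ H.map N.subtype := h2.symm ▸ x.2
        obtain ⟨y, hy, hyx⟩ := this
        rwa [← Subtype.ext hyx]
  · right
    push Not at hall
    obtain ⟨g, t, ht, hg⟩ := hall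
    refine ⟨T, hle, hne, hnorm, hcenter, hconj, ⟨g, (hconj g).resolve_left fun h => hg (h t ht)⟩, ?_⟩
    intro n hn
    rw [← hclos] at hn
    induction hn using Subgroup.closure_induction with
    | mem x hx =>
      obtain ⟨g, t, ht, rfl⟩ := hx
      rcases hconj g with hc | hc
      · exact ⟨_, hc t ht, 1, one_mem _, (mul_one _).symm⟩
      · exact ⟨1, one_mem _, _, hc t ht, (one_mul _).symm⟩
    | one => exact ⟨1, one_mem _, 1, one_mem _, (mul_one _).symm⟩
    | mul x y _ _ hx hy =>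
      obtain ⟨a, ha, c, hc, rfl⟩ := hx
      obtain ⟨b, hb, d, hd, rfl⟩ := hy
      refine ⟨a * b, T.mul_mem ha hb, c * d, Subgroup.mul_mem _ hc hd, ?_⟩
      rw [mul_assoc a c, ← mul_assoc c b, ← coFactor_comm hb hc]
      simp [mul_assoc]
    | inv x _ hx =>
      obtain ⟨a, ha, c, hc, rfl⟩ := hx
      refine ⟨a⁻¹, T.inv_mem ha, c⁻¹, Subgroup.inv_mem _ hc, ?_⟩
      rw [← mul_inv_rev, coFactor_comm ha hc]

namespace IsFactor

variable {N T : Subgroup G} (hT : IsFactor N T)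
include hT

lemma eq_one_of_mem_both {x : G} (h1 : x ∈ T) (h2 : x ∈ coFactor N T) : x = 1 :=
  hT.center x h1 fun _ hy => (coFactor_comm hy h2).symm

lemma not_isPGroup [Finite G] (p : ℕ) (hp : p.Prime) : ¬ IsPGroup p T := by
  have : Nontrivial T := (Subgroup.nontrivial_iff_ne_bot T).mpr hT.ne
  exact not_isPGroup_of_center
    (fun x hx => Subtype.ext (hT.center x x.2 fun y hy => congrArg Subtype.val (hx ⟨y, hy⟩))) p hp

lemma two_prime_orders [Finite G] :
    ∃ s ∈ T, ∃ t ∈ T, (orderOf s).Prime ∧ (orderOf t).Prime ∧ orderOf s ≠ orderOf t := by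
  have : Nontrivial T := (Subgroup.nontrivial_iff_ne_bot T).mpr hT.ne
  obtain ⟨s, t, hs, ht, hst⟩ := exists_two_prime_orders (G := T)
    (fun x hx => Subtype.ext (hT.center x x.2 fun y hy => congrArg Subtype.val (hx ⟨y, hy⟩)))
  rw [← Subgroup.orderOf_coe] at hs ht
  rw [← Subgroup.orderOf_coe, ← Subgroup.orderOf_coe] at hst
  exact ⟨s, s.2, t, t.2, hs, ht, hst⟩

/-- A product with both components nontrivial lies in no conjugate of `T`. -/
lemma mul_not_single {t c : G} (ht : t ∈ T) (hc : c ∈ coFactor N T) (ht1 : t ≠ 1) (hc1 : c ≠ 1)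
    (g u : G) (hu : u ∈ T) : t * c ≠ g * u * g⁻¹ := by
  intro h
  rcases hT.conj g with hg | hg
  · have : t * c ∈ T := h ▸ hg u hu
    exact hc1 (hT.eq_one_of_mem_both ((T.mul_mem_cancel_left ht).mp this) hc)
  · have : t * c ∈ coFactor N T := h ▸ hg u hu
    exact ht1 (hT.eq_one_of_mem_both ht ((Subgroup.mul_mem_cancel_right _ hc).mp this))

variable [FaithfulSMul G Ω] [Finite G]

/-- A point stabilizer either covers `T` in projection, when `T` is semiregular, or some element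
of `T` remains fixed-point-free after multiplication by any element of the centralizer. -/
theorem dichotomy [Nonempty Ω] (htr : IsPretransitive N Ω) :
    (∀ t ∈ T, t ≠ 1 → IsDer Ω t) ∨
      ∃ a ∈ T, a ≠ 1 ∧ ∀ c ∈ coFactor N T, IsDer Ω (a * c) := by
  obtain ⟨ω₀⟩ := ‹Nonempty Ω›
  let P : Subgroup G :=
    { carrier := {a | a ∈ T ∧ ∃ c ∈ coFactor N T, (a * c) • ω₀ = ω₀}
      one_mem' := ⟨T.one_mem, 1, one_mem _, by simp⟩
      mul_mem' := by
        rintro a b ⟨ha, c, hc, hac⟩ ⟨hb, d, hd, hbd⟩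
        refine ⟨T.mul_mem ha hb, c * d, Subgroup.mul_mem _ hc hd, ?_⟩
        have : a * b * (c * d) = (a * c) * (b * d) := by
          rw [mul_assoc a c, ← mul_assoc c b, ← coFactor_comm hb hc]
          simp [mul_assoc]
        rw [this, mul_smul, hbd, hac]
      inv_mem' := by
        rintro a ⟨ha, c, hc, hac⟩
        refine ⟨T.inv_mem ha, c⁻¹, Subgroup.inv_mem _ hc, ?_⟩
        rw [← mul_inv_rev, ← coFactor_comm ha hc, inv_smul_eq_iff, hac] }
  by_cases hP : T ≤ P
  · left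
    intro t ht ht1 ω hω
    obtain ⟨⟨n, hn⟩, hnω⟩ := htr.exists_smul_eq ω₀ ω
    have hu : n⁻¹ * t * n ∈ T := by simpa using hT.norm n⁻¹ (N.inv_mem hn) t ht
    have hfix : (n⁻¹ * t * n) • ω₀ = ω₀ := by
      change n • ω₀ = ω at hnω
      rw [mul_smul, mul_smul, hnω, hω, inv_smul_eq_iff, hnω]
    set u := n⁻¹ * t * n
    have hu1 : u = 1 := by
      refine FaithfulSMul.eq_of_smul_eq_smul (α := Ω) fun x => ?_
      obtain ⟨⟨m, hm⟩, hmx⟩ := htr.exists_smul_eq ω₀ x
      change m • ω₀ = x at hmx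
      obtain ⟨a, ha, c, hc, hac⟩ := hT.decomp m⁻¹ (N.inv_mem hm)
      obtain ⟨-, d, hd, had⟩ := hP ha
      have h1 : m⁻¹ * u * m = a * u * a⁻¹ := by
        rw [← inv_inv m, inv_inv m⁻¹, hac, mul_inv_rev, mul_assoc a c u, ← coFactor_comm hu hc]
        simp [mul_assoc]
      have h2 : a * u * a⁻¹ = (a * d) * u * (a * d)⁻¹ := by
        rw [mul_inv_rev, mul_assoc a d u, ← coFactor_comm hu hd]
        simp [mul_assoc]
      have h3 : (m⁻¹ * u * m) • ω₀ = ω₀ := by
        rw [h1, h2, mul_smul, mul_smul, inv_smul_eq_iff.mpr had.symm, hfix, had]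
      rw [one_smul, ← hmx]
      rwa [mul_smul, mul_smul, inv_smul_eq_iff] at h3
    exact ht1 (by
      have := congrArg (fun z => n * z * n⁻¹) hu1
      simpa [u, mul_assoc] using this)
  · right
    obtain ⟨a, ha, hconj⟩ := exists_not_conj_mem hP
    refine ⟨a, ha, ?_, fun c hc ω hω => ?_⟩
    · rintro rfl
      exact hconj 1 T.one_mem (by simpa using P.one_mem)
    obtain ⟨⟨n, hn⟩, hnω⟩ := htr.exists_smul_eq ω₀ ω
    change n • ω₀ = ω at hnω
    obtain ⟨x, hx, y, hy, rfl⟩ := hT.decomp n hn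
    apply hconj x hx
    have hxa : x⁻¹ * a * x ∈ T := T.mul_mem (T.mul_mem (T.inv_mem hx) ha) hx
    refine ⟨hxa, y⁻¹ * c * y,
      Subgroup.mul_mem _ (Subgroup.mul_mem _ (Subgroup.inv_mem _ hy) hc) hy, ?_⟩
    have heq : x⁻¹ * a * x * (y⁻¹ * c * y) = (x * y)⁻¹ * (a * c) * (x * y) := by
      have h1 : x⁻¹ * a * x * y⁻¹ = y⁻¹ * (x⁻¹ * a * x) :=
        coFactor_comm hxa (Subgroup.inv_mem _ hy)
      calc x⁻¹ * a * x * (y⁻¹ * c * y) = (x⁻¹ * a * x * y⁻¹) * c * y := by simp [mul_assoc]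
        _ = y⁻¹ * (x⁻¹ * a) * (x * c) * y := by rw [h1]; simp [mul_assoc]
        _ = _ := by rw [coFactor_comm hx hc]; simp [mul_assoc]
    rw [heq, mul_smul, mul_smul, hnω, hω, inv_smul_eq_iff, hnω]

end IsFactor

end CfsgLib.PrimRecog
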