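import Cfsg.Agent.Lib.Structure80.FixedProduct

/-! The reverse divisibility in the fixed point formula of a group of order `p²` acting coprimely. -/
set_option autoImplicit false

namespace CfsgLib.PrimRecog.FixedReverse

open CfsgLib.Structure80.FixedProduct
open scoped Pointwise

universe u v

variable {E : Type v} [Group E] {p : ℕ} [hp : Fact p.Prime]

/-- The abelian case. -/
lemma card_dvd_comm {A : Type u} [CommGroup A] [Finite A] (hA : ¬ p ∣ Nat.card A) (φ : E →* MulAut A)
    (x z : E) (hcomm : Commute (φ x) (φ z)) (hx : φ x ^ p = 1) (hz : φ z ^ p = 1) :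
    Nat.card A * Nat.card (fixPair φ x z) ^ p ∣
      (∏ i : ZMod p, Nat.card (fixEl φ (x * z ^ i.val))) * Nat.card (fixEl φ z) := by
  classical
  let T : ZMod p → ZMod p → MulAut A := fun j k => φ x ^ j.val * φ z ^ k.val
  have hmod : ∀ (g : MulAut A), g ^ p = 1 → ∀ i j : ZMod p, g ^ (i + j).val = g ^ i.val * g ^ j.val :=
    fun g hg i j => by rw [← pow_add, ZMod.val_add]; exact (pow_eq_pow_mod _ hg).symm
  have hTadd : ∀ j k j' k', T (j + j') (k + k') = T j k * T j' k' := fun j k j' k' => by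
    simp only [T, hmod _ hx, hmod _ hz]
    rw [mul_assoc, mul_assoc]
    congr 1
    rw [← mul_assoc, ← mul_assoc, (hcomm.pow_pow j'.val k.val).eq]
  have hT00 : T 0 0 = 1 := by simp [T]
  have hT01 : T 0 1 = φ z := by simp [T, ZMod.val_one]
  have hel : ∀ i : ZMod p, φ (x * z ^ i.val) = T 1 i := fun i => by simp [T, ZMod.val_one]
  let N : ZMod p → A →* A := fun i => MonoidHom.mk' (fun a => ∏ t : ZMod p, T t (t * i) a)
    fun a b => by simp only [map_mul, Finset.prod_mul_distrib]
  let Nz : A →* A := MonoidHom.mk' (fun a => ∏ k : ZMod p, T 0 k a)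
    fun a b => by simp only [map_mul, Finset.prod_mul_distrib]
  have hN : ∀ i a, N i a ∈ fixEl φ (x * z ^ i.val) := fun i a => by
    rw [mem_fixEl, hel]
    show T 1 i (∏ t : ZMod p, T t (t * i) a) = ∏ t : ZMod p, T t (t * i) a
    rw [map_prod]
    simp only [← MulAut.mul_apply, ← hTadd]
    refine Fintype.prod_equiv (Equiv.addLeft (1 : ZMod p)) _ _ fun t => ?_
    simp [add_mul]
  have hNz : ∀ a, Nz a ∈ fixEl φ z := fun a => by
    rw [mem_fixEl, ← hT01]
    show T 0 1 (∏ k : ZMod p, T 0 k a) = ∏ k : ZMod p, T 0 k a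
    rw [map_prod]
    simp only [← MulAut.mul_apply, ← hTadd, add_zero]
    exact Equiv.prod_comp (Equiv.addLeft (1 : ZMod p)) (fun k => T 0 k a)
  have hTfix : ∀ c ∈ fixPair φ x z, ∀ j k, T j k c = c := by
    intro c hc j k
    obtain ⟨h1, h2⟩ := mem_fixPair.1 hc
    have : ∀ g : MulAut A, g c = c → ∀ n : ℕ, (g ^ n) c = c := fun g hg n => by
      induction n with
      | zero => simp
      | succ n ih => rw [pow_succ, MulAut.mul_apply, hg, ih]
    simp only [T, MulAut.mul_apply, this _ h2, this _ h1]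
  have hpairfix : ∀ i : ZMod p, ∀ c ∈ fixPair φ x z, c ∈ fixEl φ (x * z ^ i.val) := fun i c hc => by
    rw [mem_fixEl, hel, hTfix c hc]
  let Φ : A × (ZMod p → fixPair φ x z) →* ((i : ZMod p) → fixEl φ (x * z ^ i.val)) × fixEl φ z :=
    MonoidHom.mk' (fun t => (fun i => ⟨N i t.1 * (t.2 i : A), mul_mem (hN i _) (hpairfix i _ (t.2 i).2)⟩,
      ⟨Nz t.1, hNz _⟩)) fun t t' => by
        refine Prod.ext (funext fun i => Subtype.ext ?_) (Subtype.ext ?_)
        · simp only [Prod.fst_mul, Prod.snd_mul, Pi.mul_apply, Subgroup.coe_mul, map_mul]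
          exact mul_mul_mul_comm _ _ _ _
        · simp only [Prod.fst_mul, Prod.snd_mul, Subgroup.coe_mul, map_mul]
  have hpinj : ∀ a : A, a ^ p = 1 → a = 1 := fun a ha => orderOf_eq_one_iff.1 <|
    ((Nat.dvd_prime hp.out).1 (orderOf_dvd_of_pow_eq_one ha)).resolve_right
      fun h => hA (h ▸ orderOf_dvd_natCard a)
  have hinj : Function.Injective Φ := by
    rw [injective_iff_map_eq_one]
    rintro ⟨a, c⟩ h
    have h1 : ∀ i, N i a * (c i : A) = 1 := fun i => congrArg Subtype.val (congrFun (congrArg Prod.fst h) i)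
    have h2 : Nz a = 1 := congrArg Subtype.val (congrArg Prod.snd h)
    -- the orbit sums
    have hNN : ∀ i, Nz (N i a) = 1 := by
      intro i
      show ∏ k : ZMod p, T 0 k (∏ t : ZMod p, T t (t * i) a) = 1
      simp only [map_prod, ← MulAut.mul_apply, ← hTadd, zero_add]
      rw [Finset.prod_comm]
      refine Finset.prod_eq_one fun t _ => ?_
      calc ∏ k : ZMod p, T t (k + t * i) a = ∏ k : ZMod p, T t k a :=
            Equiv.prod_comp (Equiv.addRight (t * i)) (fun k => T t k a)
        _ = ∏ k : ZMod p, T t 0 (T 0 k a) :=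
            Finset.prod_congr rfl fun k _ => by rw [← MulAut.mul_apply, ← hTadd, add_zero, zero_add]
        _ = T t 0 (Nz a) := (map_prod (T t 0) _ _).symm
        _ = 1 := by rw [h2, map_one]
    have hc : c = 1 := funext fun i => Subtype.ext (hpinj _ (by
      have h3 := congrArg Nz (h1 i)
      rw [map_mul, map_one, hNN, one_mul] at h3
      rw [← h3]
      show _ = ∏ k : ZMod p, T 0 k (c i : A)
      simp [hTfix _ (c i).2]))
    have h4 : ∀ i, N i a = 1 := fun i => by simpa [hc] using h1 i
    refine Prod.ext (hpinj a ?_) hc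
    have h5 : ∏ i : ZMod p, N i a = 1 := Finset.prod_eq_one fun i _ => h4 i
    have h6 : ∏ i : ZMod p, N i a = a ^ p := by
      show ∏ i : ZMod p, ∏ t : ZMod p, T t (t * i) a = a ^ p
      rw [Finset.prod_comm, Fintype.prod_eq_single 0]
      · simp [hT00]
      · intro t ht
        calc ∏ i : ZMod p, T t (t * i) a = ∏ k : ZMod p, T t k a :=
              Equiv.prod_comp (Equiv.mulLeft₀ t ht) (fun k => T t k a)
          _ = ∏ k : ZMod p, T t 0 (T 0 k a) :=
              Finset.prod_congr rfl fun k _ => by rw [← MulAut.mul_apply, ← hTadd, add_zero, zero_add]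
          _ = T t 0 (Nz a) := (map_prod (T t 0) _ _).symm
          _ = 1 := by rw [h2, map_one]
    exact h6.symm.trans h5
  have := Subgroup.card_dvd_of_injective Φ hinj
  rw [Nat.card_prod, Nat.card_prod, Nat.card_fun, Nat.card_zmod, Nat.card_pi] at this
  exact this

/-- The case of an `r`-group. -/
lemma card_dvd_pgroup (hE : IsPGroup p E) (r : ℕ) [Fact r.Prime] :
    ∀ (n : ℕ) (W : Type u) [Group W] [Finite W], Nat.card W ≤ n → IsPGroup r W → ¬ p ∣ Nat.card W →
      ∀ (φ : E →* MulAut W) (x z : E), Commute (φ x) (φ z) → φ x ^ p = 1 → φ z ^ p = 1 →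
      Nat.card W * Nat.card (fixPair φ x z) ^ p ∣
        (∏ i : ZMod p, Nat.card (fixEl φ (x * z ^ i.val))) * Nat.card (fixEl φ z) := by
  intro n
  induction n with
  | zero => intro W _ _ h; exact absurd (Nat.le_zero.1 h) Nat.card_pos.ne'
  | succ n ih =>
    intro W _ _ hn hr hW φ x z hcomm hx hz
    by_cases hab : Subgroup.center W = ⊤
    · letI : CommGroup W :=
        { (inferInstance : Group W) with
          mul_comm := fun a b => (Subgroup.mem_center_iff.1 (hab ▸ Subgroup.mem_top a) b).symm }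
      exact card_dvd_comm hW φ x z hcomm hx hz
    set N := Subgroup.center W
    have hN : ∀ e, ∀ w ∈ N, φ e w ∈ N := fun e w hw => by
      rw [Subgroup.mem_center_iff]
      intro g
      obtain ⟨g, rfl⟩ := (φ e).surjective g
      rw [← map_mul, ← map_mul, Subgroup.mem_center_iff.1 hw g]
    have : Nontrivial W := by
      by_contra h
      rw [not_nontrivial_iff_subsingleton] at h
      exact hab (Subsingleton.elim _ _)
    have := hr.center_nontrivial
    have h1 := Subgroup.card_eq_card_quotient_mul_card_subgroup N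
    have hN1 : 1 < Nat.card N := Finite.one_lt_card
    have hN2 : Nat.card N < Nat.card W :=
      lt_of_le_of_ne (Nat.le_of_dvd Nat.card_pos (Subgroup.card_subgroup_dvd_card N))
        fun h => hab (Subgroup.eq_top_of_card_eq N h)
    have hQ2 : Nat.card (W ⧸ N) < Nat.card W := by
      rw [h1]; exact lt_mul_of_one_lt_right Nat.card_pos hN1
    have hres : ∀ (V : Type u) [Group V] (ψ : E →* MulAut V) (_ : ∀ e, φ e = 1 → ψ e = 1),
        Commute (ψ x) (ψ z) ∧ ψ x ^ p = 1 ∧ ψ z ^ p = 1 := by
      intro V _ ψ f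
      refine ⟨?_, by rw [← map_pow]; exact f _ (by rw [map_pow, hx]), by rw [← map_pow]; exact f _ (by rw [map_pow, hz])⟩
      have h2 : ψ (x * z * (z * x)⁻¹) = 1 :=
        f _ (by rw [map_mul, map_inv, map_mul, map_mul, hcomm.eq, mul_inv_cancel])
      rw [map_mul, map_inv, map_mul, map_mul, mul_inv_eq_one] at h2
      exact h2
    obtain ⟨a1, a2, a3⟩ := hres N (restrictHom φ N hN) (fun e he => MulEquiv.ext fun w => Subtype.ext (by simp [he]))
    obtain ⟨b1, b2, b3⟩ := hres (W ⧸ N) (quotHom φ N hN) (fun e he => MulEquiv.ext fun w => by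
      induction w using QuotientGroup.induction_on with
      | H w => simp [he])
    have A := ih N (by omega) (hr.to_subgroup N) (not_dvd_of_dvd hW (Subgroup.card_subgroup_dvd_card N)) _ x z a1 a2 a3
    have B := ih (W ⧸ N) (by omega) (hr.to_quotient N) (not_dvd_of_dvd hW (Subgroup.card_quotient_dvd_card N)) _ x z b1 b2 b3
    simp only [fun e => card_fixEl_quotient hE hW φ N hN e, card_fixPair_quotient hE hW φ N hN x z,
      Finset.prod_mul_distrib, h1]
    refine Eq.subst ?_ (Nat.mul_dvd_mul A B) (motive := fun t : ℕ × ℕ => t.1 ∣ t.2) (a := (_, _)) (b := (_, _))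
    refine Prod.ext ?_ ?_ <;> ring

/-- The reverse divisibility in any coprimely acted on group. -/
theorem card_dvd {W : Type u} [Group W] [Finite W] (hE : IsPGroup p E) (hW : ¬ p ∣ Nat.card W)
    (φ : E →* MulAut W) (x z : E) (hcomm : Commute (φ x) (φ z)) (hx : φ x ^ p = 1) (hz : φ z ^ p = 1) :
    Nat.card W * Nat.card (fixPair φ x z) ^ p ∣
      (∏ i : ZMod p, Nat.card (fixEl φ (x * z ^ i.val))) * Nat.card (fixEl φ z) := by
  have hL0 : Nat.card W * Nat.card (fixPair φ x z) ^ p ≠ 0 :=
    mul_ne_zero Nat.card_pos.ne' (pow_ne_zero _ Nat.card_pos.ne')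
  rw [Nat.dvd_iff_prime_pow_dvd_dvd]
  intro r k hr hk
  have := Fact.mk hr
  refine (pow_dvd_pow r ((hr.pow_dvd_iff_le_factorization hL0).1 hk)).trans ?_
  obtain ⟨S, hS⟩ := exists_invariant_sylow hE hW φ r
  set ψ := restrictHom φ (S : Subgroup W) (invariant_of_smul_eq φ hS) with hψ
  have hcoe : ∀ e, φ e = 1 → ψ e = 1 := fun e he => MulEquiv.ext fun w => Subtype.ext (by simp [hψ, he])
  have hcomm' : Commute (ψ x) (ψ z) := MulEquiv.ext fun w => Subtype.ext (by
    simp only [hψ, MulAut.mul_apply, restrictHom_apply]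
    rw [← MulAut.mul_apply, ← MulAut.mul_apply, hcomm.eq])
  have key := card_dvd_pgroup hE r _ (S : Subgroup W) le_rfl S.isPGroup'
    (not_dvd_of_dvd hW (Subgroup.card_subgroup_dvd_card _)) ψ x z hcomm'
    (by rw [← map_pow]; exact hcoe _ (by rw [map_pow, hx]))
    (by rw [← map_pow]; exact hcoe _ (by rw [map_pow, hz]))
  have hpair : r ^ (Nat.card (fixPair φ x z)).factorization r ∣ Nat.card (fixPair ψ x z) :=
    ordProj_fixSub_dvd (hE.to_subgroup _) hW (φ.comp (Subgroup.closure ({x, z} : Set E)).subtype) S fun a => hS _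
  rw [Nat.ordProj_mul r Nat.card_pos.ne' (pow_ne_zero _ Nat.card_pos.ne')]
  have hS' : r ^ (Nat.card W).factorization r = Nat.card (S : Subgroup W) := S.card_eq_multiplicity.symm
  have hpow : r ^ (Nat.card (fixPair φ x z) ^ p).factorization r =
      (r ^ (Nat.card (fixPair φ x z)).factorization r) ^ p := by
    rw [Nat.factorization_pow, Finsupp.smul_apply, smul_eq_mul, ← pow_mul, mul_comm]
  rw [hS', hpow]
  refine ((Nat.mul_dvd_mul dvd_rfl (pow_dvd_pow_of_dvd hpair p)).trans key).trans ?_
  have hel : ∀ e, Nat.card (fixEl ψ e) ∣ Nat.card (fixEl φ e) := fun e =>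
    Subgroup.card_dvd_of_injective
      (MonoidHom.mk' (fun w : fixEl ψ e => (⟨((w : (S : Subgroup W)) : W),
        fun a => congrArg Subtype.val (w.2 a)⟩ : fixEl φ e)) fun a b => rfl)
      fun a b h => Subtype.ext (Subtype.ext (congrArg (fun w : fixEl φ e => (w : W)) h))
  exact Nat.mul_dvd_mul (Finset.prod_dvd_prod_of_dvd _ _ fun i _ => hel _) (hel z)

end CfsgLib.PrimRecog.FixedReverse
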