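import Mathlib

/-! An abelian group acting irreducibly on an elementary abelian group is cyclic, and the
automorphisms of the action are powers of the Frobenius map. -/
set_option autoImplicit false

namespace CfsgLib.PrimRecog

variable {A V : Type*} [CommGroup A] [Finite A] [AddCommGroup V] [Finite V] [Nontrivial V]

/-- The commutative ring of endomorphisms generated by the image of `A`. -/
def envelope (ρ : A →* AddMonoid.End V) : Subring (AddMonoid.End V) :=
  Subring.closure (Set.range ρ)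

omit [Finite A] [Finite V] [Nontrivial V] in
lemma envelope_comm (ρ : A →* AddMonoid.End V) {x y : AddMonoid.End V} (hx : x ∈ envelope ρ)
    (hy : y ∈ envelope ρ) : x * y = y * x := by
  have h := Subring.isMulCommutative_closure (s := Set.range ρ) (by
    rintro _ ⟨a, rfl⟩ _ ⟨b, rfl⟩
    rw [← map_mul, ← map_mul, mul_comm])
  exact congrArg Subtype.val (h.is_comm.comm ⟨x, hx⟩ ⟨y, hy⟩)

omit [Finite A] [Finite V] [Nontrivial V] in
/-- A nonzero element of the envelope is injective. -/
lemma envelope_injective (ρ : A →* AddMonoid.End V)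
    (hirr : ∀ W : AddSubgroup V, (∀ a : A, ∀ w ∈ W, ρ a w ∈ W) → W = ⊥ ∨ W = ⊤)
    {x : AddMonoid.End V} (hx : x ∈ envelope ρ) (hx0 : x ≠ 0) {v : V} (hv : x v = 0) : v = 0 := by
  rcases hirr (AddMonoidHom.ker x) (fun a w hw => by
    have hw' : x w = 0 := hw
    have := envelope_comm ρ hx (Subring.subset_closure ⟨a, rfl⟩ : ρ a ∈ envelope ρ)
    have h2 : x (ρ a w) = ρ a (x w) := DFunLike.congr_fun this w
    show x (ρ a w) = 0
    rw [h2, hw', map_zero]) with h | h
  · exact AddSubgroup.mem_bot.mp (h ▸ (AddMonoidHom.mem_ker.mpr hv : v ∈ AddMonoidHom.ker x))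
  · exact absurd (AddMonoidHom.ext fun w => AddMonoidHom.mem_ker.mp (h ▸ AddSubgroup.mem_top w : w ∈ AddMonoidHom.ker x)) hx0

/-- Structure of a faithful irreducible abelian linear group. -/
theorem irreducible_abelian (p d : ℕ) (hp : p.Prime) (hV : Nat.card V = p ^ d)
    (hpV : ∀ v : V, p • v = 0) (ρ : A →* AddMonoid.End V) (hinj : Function.Injective ρ)
    (hirr : ∀ W : AddSubgroup V, (∀ a : A, ∀ w ∈ W, ρ a w ∈ W) → W = ⊥ ∨ W = ⊤) :
    IsCyclic A ∧ (∀ i : ℕ, 0 < i → i < d → ¬ Nat.card A ∣ p ^ i - 1) ∧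
      Nat.card A ∣ p ^ d - 1 ∧
      ∀ σ : A ≃* A, ∀ ξ : V ≃+ V, (∀ a v, ξ (ρ a v) = ρ (σ a) (ξ v)) →
        ∃ j : ℕ, ∀ a : A, σ a = a ^ p ^ j := by
  classical
  let K := envelope ρ
  letI : CommRing K :=
    { (inferInstance : Ring K) with mul_comm := fun x y => Subtype.ext (envelope_comm ρ x.2 y.2) }
  have hinjK : ∀ x : K, x ≠ 0 → ∀ v : V, (x : AddMonoid.End V) v = 0 → v = 0 :=
    fun x hx v hv => envelope_injective ρ hirr x.2 (fun h => hx (Subtype.ext h)) hv
  obtain ⟨v₀, hv₀⟩ := exists_ne (0 : V)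
  let ev : K →+ V :=
    { toFun := fun x => (x : AddMonoid.End V) v₀
      map_zero' := rfl
      map_add' := fun _ _ => rfl }
  have hev : Function.Bijective ev := by
    refine ⟨(injective_iff_map_eq_zero ev).mpr fun x hx => by_contra fun h => hv₀ (hinjK x h v₀ hx), ?_⟩
    rcases hirr ev.range (fun a w hw => by
      obtain ⟨x, rfl⟩ := hw
      exact ⟨(⟨ρ a, Subring.subset_closure ⟨a, rfl⟩⟩ : K) * x, rfl⟩) with h | h
    · exfalso
      exact hv₀ (AddSubgroup.mem_bot.mp (h ▸ (⟨1, rfl⟩ : v₀ ∈ ev.range)))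
    · exact AddMonoidHom.range_eq_top.mp h
  have : Finite K := Finite.of_injective _ hev.1
  have hK1 : (1 : K) ≠ 0 := fun h => hv₀ (DFunLike.congr_fun (congrArg Subtype.val h) v₀)
  have : Nontrivial K := ⟨1, 0, hK1⟩
  have : NoZeroDivisors K := ⟨fun {x y} hxy => or_iff_not_imp_left.mpr fun hx => hev.1 (by
    refine (hinjK x hx _ ?_).trans (map_zero ev).symm
    exact DFunLike.congr_fun (congrArg Subtype.val hxy) v₀)⟩
  have : IsDomain K := NoZeroDivisors.to_isDomain _
  letI : Fintype K := Fintype.ofFinite K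
  letI : Field K := Fintype.fieldOfDomain K
  have hKcard : Nat.card K = p ^ d := by rw [Nat.card_eq_of_bijective ev hev, hV]
  have : Fact p.Prime := ⟨hp⟩
  have : CharP K p := by
    rw [CharP.charP_iff_prime_eq_zero hp]
    refine hev.1 ?_
    rw [map_zero, ← nsmul_one, map_nsmul]
    exact hpV _
  let ι : A →* K := ρ.codRestrict K fun a => Subring.subset_closure ⟨a, rfl⟩
  have hι : Function.Injective ι := fun a b h => hinj (congrArg Subtype.val h)
  have hcyc : IsCyclic A := isCyclic_of_injective_ringHom ι hι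
  obtain ⟨a₀, ha₀⟩ := IsCyclic.exists_ofOrder_eq_natCard (α := A)
  have hunits : ∀ x : K, x ≠ 0 → x ^ (p ^ d - 1) = 1 := by
    intro x hx
    have := FiniteField.pow_card_sub_one_eq_one x hx
    rwa [← Nat.card_eq_fintype_card, hKcard] at this
  refine ⟨hcyc, fun i hi hid hdvd => ?_, ?_, fun σ ξ hσ => ?_⟩
  · -- all of `K` would lie in a smaller field
    have hfix : ∀ x : K, x ^ p ^ i = x := by
      rintro ⟨x, hx⟩
      induction hx using Subring.closure_induction with
      | mem x hx =>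
        obtain ⟨a, rfl⟩ := hx
        show ι a ^ p ^ i = ι a
        have h1 : a ^ (p ^ i - 1) = 1 :=
          orderOf_dvd_iff_pow_eq_one.mp ((orderOf_dvd_natCard a).trans hdvd)
        rw [← map_pow]
        congr 1
        rw [show p ^ i = (p ^ i - 1) + 1 from (Nat.sub_add_cancel (Nat.one_le_pow _ _ hp.pos)).symm,
          pow_succ, h1, one_mul]
      | zero => exact zero_pow (pow_ne_zero _ hp.ne_zero)
      | one => exact one_pow _
      | add x y hx hy h1 h2 =>
        show ((⟨x, hx⟩ : K) + ⟨y, hy⟩) ^ p ^ i = ⟨x, hx⟩ + ⟨y, hy⟩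
        rw [add_pow_char_pow, h1, h2]
      | neg x hx h1 =>
        show (-(⟨x, hx⟩ : K)) ^ p ^ i = -⟨x, hx⟩
        have h0 := add_pow_char_pow (R := K) (p := p) (n := i) (x := -⟨x, hx⟩) (y := ⟨x, hx⟩)
        rw [neg_add_cancel, zero_pow (pow_ne_zero _ hp.ne_zero), h1] at h0
        exact eq_neg_of_add_eq_zero_left h0.symm
      | mul x y hx hy h1 h2 =>
        show ((⟨x, hx⟩ : K) * ⟨y, hy⟩) ^ p ^ i = ⟨x, hx⟩ * ⟨y, hy⟩
        rw [mul_pow, h1, h2]
    obtain ⟨g, hg⟩ := IsCyclic.exists_ofOrder_eq_natCard (α := Kˣ)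
    rw [Nat.card_units, hKcard] at hg
    have h1 : g ^ (p ^ i - 1) = 1 := by
      refine Units.ext ?_
      have h := hfix (g : K)
      rw [show p ^ i = (p ^ i - 1) + 1 from (Nat.sub_add_cancel (Nat.one_le_pow _ _ hp.pos)).symm,
        pow_succ] at h
      rw [Units.val_pow_eq_pow_val, Units.val_one]
      exact mul_right_cancel₀ g.ne_zero (h.trans (one_mul _).symm)
    have h2 := orderOf_dvd_of_pow_eq_one h1
    rw [hg] at h2
    have h3 : 0 < p ^ i - 1 := Nat.sub_pos_of_lt (Nat.one_lt_pow (by omega) hp.one_lt)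
    have h4 := Nat.le_of_dvd h3 h2
    have h5 : p ^ i < p ^ d := Nat.pow_lt_pow_right hp.one_lt hid
    omega
  · rw [← ha₀, ← orderOf_injective ι hι]
    exact orderOf_dvd_of_pow_eq_one (hunits _ (Units.ne_zero ((IsUnit.map ι (Group.isUnit a₀)).unit)))
  · -- conjugation by `ξ` is a field automorphism
    let c : AddMonoid.End V →+* AddMonoid.End V :=
      { toFun := fun x => (ξ.toAddMonoidHom.comp x).comp ξ.symm.toAddMonoidHom
        map_one' := AddMonoidHom.ext fun v => ξ.apply_symm_apply v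
        map_mul' := fun x y => AddMonoidHom.ext fun v => by
          show ξ (x (y (ξ.symm v))) = ξ (x (ξ.symm (ξ (y (ξ.symm v)))))
          rw [ξ.symm_apply_apply]
        map_zero' := AddMonoidHom.ext fun v => map_zero ξ
        map_add' := fun x y => AddMonoidHom.ext fun v => map_add ξ _ _ }
    have hc : ∀ a, c (ρ a) = ρ (σ a) := fun a => AddMonoidHom.ext fun v => by
      show ξ (ρ a (ξ.symm v)) = _
      rw [hσ, ξ.apply_symm_apply]
      rfl
    have hcK : ∀ x ∈ envelope ρ, c x ∈ envelope ρ := by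
      intro x hx
      refine (Subring.closure_le (t := (envelope ρ).comap c)).mpr ?_ hx
      rintro _ ⟨a, rfl⟩
      show c (ρ a) ∈ envelope ρ
      rw [hc]
      exact Subring.subset_closure ⟨_, rfl⟩
    let φ : K →+* K := c.restrict K K hcK
    have hφbij : Function.Bijective φ := Finite.injective_iff_bijective.mp φ.injective
    letI : Algebra (ZMod p) K := ZMod.algebra K p
    let e : K ≃ₐ[ZMod p] K := AlgEquiv.ofRingEquiv (f := RingEquiv.ofBijective φ hφbij) fun x => by
      have : φ.comp (algebraMap (ZMod p) K) = algebraMap (ZMod p) K := Subsingleton.elim _ _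
      exact RingHom.congr_fun this x
    obtain ⟨j, hj⟩ := (FiniteField.bijective_frobeniusAlgEquivOfAlgebraic_pow (ZMod p) K).2 e
    refine ⟨j, fun a => hι ?_⟩
    have h1 : ι (σ a) = e (ι a) := Subtype.ext (hc a).symm
    rw [map_pow, h1, ← hj]
    show (FiniteField.frobeniusAlgEquivOfAlgebraic (ZMod p) K ^ (j : ℕ)) (ι a) = _
    rw [AlgEquiv.coe_pow, FiniteField.coe_frobeniusAlgEquivOfAlgebraic, pow_iterate, ZMod.card]

end CfsgLib.PrimRecog
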