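import Mathlib
import Cfsg.Agent.Lib.PermGroup.Basic

/-! Normal subgroups of multiply transitive groups: Jordan, Wagner. -/
set_option autoImplicit false

namespace CfsgLib.PrimRecog.NormalMultiply

open MulAction
open scoped Pointwise

variable {G X : Type*} [Group G] [MulAction G X]

/-- A group transitive on injective `(n-1)`-tuples is transitive on injective `n`-tuples. -/
lemma full_of_pred [Finite X] {k : ℕ} (hk : Nat.card X = k + 1) (h : IsMultiplyPretransitive G X k) :
    IsMultiplyPretransitive G X (k + 1) := by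
  refine ⟨fun x y => ?_⟩
  obtain ⟨g, hg⟩ := h.exists_smul_eq (Fin.castSuccEmb.trans x) (Fin.castSuccEmb.trans y)
  refine ⟨g, Function.Embedding.ext fun i => ?_⟩
  have h1 : ∀ j : Fin k, g • x j.castSucc = y j.castSucc := fun j => DFunLike.congr_fun hg j
  induction i using Fin.lastCases with
  | cast j => exact h1 j
  | last =>
    have hy : Function.Surjective y :=
      (Nat.bijective_iff_injective_and_card y).mpr ⟨y.injective, by rw [Nat.card_fin, hk]⟩ |>.2
    obtain ⟨j, hj⟩ := hy (g • x (Fin.last k))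
    induction j using Fin.lastCases with
    | cast j =>
      rw [← h1 j] at hj
      exact absurd (x.injective (smul_left_cancel g hj)) (Fin.castSucc_lt_last j).ne
    | last => exact hj.symm

/-- A normal subgroup with exponent two point stabilizers, semiregular on the other points,
forces degree three. -/
lemma card_le_three [Finite X] (H : Subgroup G) [H.Normal] (htr : IsPretransitive G X)
    (hinv : ∀ (a : X) (h : G), h ∈ H → h • a = a → h * h = 1)
    (hsemi : ∀ (a b : X) (h : G), h ∈ H → h • a = a → h • b = b → a ≠ b → h = 1)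
    (a : X) (hreg : ∀ b c : X, b ≠ a → c ≠ a → ∃ h ∈ H, h • a = a ∧ h • b = c) :
    Nat.card X ≤ 3 := by
  classical
  have := Fintype.ofFinite X
  -- the same transitivity at every point
  have hall : ∀ c b d : X, b ≠ c → d ≠ c → ∃ h ∈ H, h • c = c ∧ h • b = d := by
    intro c b d hb hd
    obtain ⟨g, rfl⟩ := htr.exists_smul_eq a c
    obtain ⟨h, hh, h1, h2⟩ := hreg (g⁻¹ • b) (g⁻¹ • d) (fun e => hb (inv_smul_eq_iff.mp e))
      (fun e => hd (inv_smul_eq_iff.mp e))
    refine ⟨g * h * g⁻¹, Subgroup.Normal.conj_mem ‹_› h hh g, ?_, ?_⟩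
    · rw [mul_smul, inv_smul_smul, mul_smul, h1]
    · rw [mul_smul, mul_smul, h2, smul_inv_smul]
  rw [Nat.card_eq_fintype_card]
  by_contra hlt
  push Not at hlt
  have hne : ∀ c : X, c ≠ a → ∀ d : X, d ≠ c → d ≠ a → ∃ h ∈ H, h • c = c ∧ h • a = d :=
    fun c hc d hd _ => hall c a d hc.symm hd
  -- pairs `(c, d)` inject into the points different from `a`
  let P : Finset (X × X) := (Finset.univ : Finset (X × X)).filter
    fun p => p.1 ≠ a ∧ p.2 ≠ a ∧ p.2 ≠ p.1
  choose h hH hfix hmap using fun p : P => hne p.1.1 (Finset.mem_filter.mp p.2).2.1 p.1.2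
    (Finset.mem_filter.mp p.2).2.2.2 (Finset.mem_filter.mp p.2).2.2.1
  have hinj : Function.Injective fun p : P => p.1.2 := by
    intro p q hpq
    have hpa : ∀ r : P, h r • r.1.2 = a := fun r => by
      rw [← hmap r, ← mul_smul, hinv r.1.1 _ (hH r) (hfix r), one_smul]
    have hpq' : p.1.2 = q.1.2 := hpq
    have e : (h q)⁻¹ * h p = 1 := hsemi a p.1.2 _ (H.mul_mem (H.inv_mem (hH q)) (hH p))
      (by rw [mul_smul, inv_smul_eq_iff, hmap p, hmap q, hpq'])
      (by rw [mul_smul, inv_smul_eq_iff, hpa p, hpq', hpa q])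
      (Finset.mem_filter.mp p.2).2.2.1.symm
    have e' : h q = h p := inv_mul_eq_one.mp e
    refine Subtype.ext (Prod.ext ?_ hpq')
    by_contra hne'
    have h1 : h p = 1 := hsemi p.1.1 q.1.1 _ (hH p) (hfix p) (e' ▸ hfix q) hne'
    have := hmap p
    rw [h1, one_smul] at this
    exact (Finset.mem_filter.mp p.2).2.2.1 this.symm
  obtain ⟨d, hd⟩ : ∃ d : X, d ≠ a := Fintype.exists_ne_of_one_lt_card (by omega) a
  obtain ⟨c, -, hc⟩ := Finset.exists_mem_notMem_of_card_lt_card (s := ({a, d} : Finset X)) (t := Finset.univ)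
    (by rw [Finset.card_univ]; exact lt_of_le_of_lt Finset.card_le_two (by omega))
  obtain ⟨c', -, hc'⟩ := Finset.exists_mem_notMem_of_card_lt_card (s := ({a, d, c} : Finset X)) (t := Finset.univ)
    (by rw [Finset.card_univ]; exact lt_of_le_of_lt Finset.card_le_three (by omega))
  simp only [Finset.mem_insert, Finset.mem_singleton, not_or] at hc hc'
  have hp : (c, d) ∈ P := Finset.mem_filter.mpr ⟨Finset.mem_univ _, hc.1, hd, fun e => hc.2 e.symm⟩
  have hp' : (c', d) ∈ P := Finset.mem_filter.mpr ⟨Finset.mem_univ _, hc'.1, hd, fun e => hc'.2.1 e.symm⟩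
  have := congrArg (fun p : P => p.1.1) (hinj (a₁ := ⟨(c, d), hp⟩) (a₂ := ⟨(c', d), hp'⟩) rfl)
  exact hc'.2.2 this.symm

lemma faithful_ofStabilizer [FaithfulSMul G X] (a : X) :
    FaithfulSMul (stabilizer G a) (SubMulAction.ofStabilizer G a) := by
  refine ⟨fun {g h} e => Subtype.ext (eq_of_smul_eq_smul (α := X) fun x => ?_)⟩
  by_cases hx : x = a
  · rw [hx, mem_stabilizer_iff.mp g.2, mem_stabilizer_iff.mp h.2]
  · exact congrArg Subtype.val (e ⟨x, hx⟩)

/-- In a `k`-primitive group a non-regular normal subgroup is `k`-transitive, unless the group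
induces the full symmetric group and `k ≥ 3`. -/
theorem nonregular_normal : ∀ (k : ℕ) {G X : Type*} [Group G] [MulAction G X] [Finite X]
    [FaithfulSMul G X], k ≤ Nat.card X → IsMultiplyPreprimitive G X k →
    (3 ≤ k → ¬ IsMultiplyPretransitive G X (Nat.card X)) →
    ∀ (H : Subgroup G) [H.Normal], H ≠ ⊥ → (∃ a : X, stabilizer H a ≠ ⊥) →
    IsMultiplyPretransitive H X k := by
  intro k
  induction k with
  | zero => intros; exact is_zero_pretransitive
  | succ k ih =>
    intro G X _ _ _ _ hkn hprim hfull H _ hH hnr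
    have hcard : ((k + 1 : ℕ) : ℕ∞) ≤ ENat.card X := by
      rw [ENat.card_eq_coe_natCard]; exact_mod_cast hkn
    have h1 : IsPreprimitive G X := is_one_preprimitive_iff G X |>.mp
      (isMultiplyPreprimitive_of_le G X hprim (by omega) hcard)
    have htH : IsPretransitive H X := CfsgLib.PermGroup.isPretransitive_of_normal hH
    rcases Nat.eq_zero_or_pos k with rfl | hkpos
    · exact is_one_pretransitive_iff.mpr htH
    obtain ⟨a, ha⟩ := hnr
    set K : Subgroup (stabilizer G a) := H.subgroupOf (stabilizer G a) with hKdef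
    have hK : K ≠ ⊥ := by
      intro hK
      refine ha ((Subgroup.eq_bot_iff_forall _).mpr fun h hh => ?_)
      have h' : (⟨(h : G), hh⟩ : stabilizer G a) ∈ K := h.2
      rw [hK, Subgroup.mem_bot] at h'
      exact Subtype.ext (congrArg Subtype.val h' :)
    have hFa := faithful_ofStabilizer (G := G) a
    have hcardY : Nat.card (SubMulAction.ofStabilizer G a) = Nat.card X - 1 := by
      show Nat.card (({a}ᶜ : Set X)) = _
      rw [Nat.card_coe_set_eq, Set.ncard_compl, Set.ncard_singleton]
    have hpY : IsMultiplyPreprimitive (stabilizer G a) (SubMulAction.ofStabilizer G a) k :=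
      isMultiplyPreprimitive_ofStabilizer G X (a := a)
    -- it suffices that `K` be `k`-transitive on the other points
    suffices hK' : IsMultiplyPretransitive K (SubMulAction.ofStabilizer G a) k by
      rw [SubMulAction.ofStabilizer.isMultiplyPretransitive (a := a)]
      refine ⟨fun x y => ?_⟩
      let j : SubMulAction.ofStabilizer H a ↪ SubMulAction.ofStabilizer G a :=
        ⟨fun z => ⟨z.1, z.2⟩, fun z w e => Subtype.ext (congrArg Subtype.val e :)⟩
      obtain ⟨g, hg⟩ := hK'.exists_smul_eq (x.trans j) (y.trans j)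
      refine ⟨⟨⟨((g : stabilizer G a) : G), g.2⟩, (g : stabilizer G a).2⟩,
        Function.Embedding.ext fun i => Subtype.ext ?_⟩
      exact congrArg Subtype.val (DFunLike.congr_fun hg i)
    by_cases hKnr : ∃ b : SubMulAction.ofStabilizer G a, stabilizer K b ≠ ⊥
    · refine ih (by omega) hpY (fun h3 hf => hfull (by omega) ?_) K hK hKnr
      rw [show Nat.card X = Nat.card (SubMulAction.ofStabilizer G a) + 1 by omega,
        SubMulAction.ofStabilizer.isMultiplyPretransitive (a := a)]
      exact hf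
    push Not at hKnr
    have hcardY' : ((k : ℕ) : ℕ∞) ≤ ENat.card (SubMulAction.ofStabilizer G a) := by
      rw [ENat.card_eq_coe_natCard, hcardY]; exact_mod_cast (show k ≤ Nat.card X - 1 by omega)
    have hpY1 : IsPreprimitive (stabilizer G a) (SubMulAction.ofStabilizer G a) :=
      is_one_preprimitive_iff _ _ |>.mp (isMultiplyPreprimitive_of_le _ _ hpY (by omega) hcardY')
    have htK : IsPretransitive K (SubMulAction.ofStabilizer G a) :=
      CfsgLib.PermGroup.isPretransitive_of_normal hK
    rcases Nat.lt_or_ge k 2 with hk2 | hk2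
    · rw [show k = 1 by omega]
      exact is_one_pretransitive_iff.mpr htK
    exfalso
    have hne : Nonempty (SubMulAction.ofStabilizer G a) := (Nat.card_pos_iff.mp (by omega)).1
    rcases CfsgLib.PermGroup.two_primitive_regular
        (isMultiplyPreprimitive_of_le _ _ hpY hk2 hcardY') K hKnr with h3 | hexp
    · -- four points
      refine hfull (by omega) ?_
      have ht : IsMultiplyPretransitive G X 3 := by
        have := hprim.isMultiplyPretransitive
        exact isMultiplyPretransitive_of_le (n := k + 1) (by omega) hkn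
      rw [show Nat.card X = 3 + 1 by omega]
      exact full_of_pred (by omega) ht
    · have hle : Nat.card X ≤ 3 := by
        refine card_le_three H inferInstance (fun c h hh hc => ?_) (fun c b h hh hc hb hcb => ?_) a
          (fun b c hb hc => ?_)
        · -- exponent two at every point
          obtain ⟨g, rfl⟩ := exists_smul_eq G a c
          have hm : g⁻¹ * h * g ∈ stabilizer G a := by
            rw [mem_stabilizer_iff, mul_smul, mul_smul, hc, inv_smul_smul]
          have := congrArg Subtype.val (hexp ⟨g⁻¹ * h * g, hm⟩ (by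
            show g⁻¹ * h * g ∈ H
            simpa using Subgroup.Normal.conj_mem ‹H.Normal› h hh g⁻¹))
          rw [pow_two] at this
          calc h * h = g * ((g⁻¹ * h * g) * (g⁻¹ * h * g)) * g⁻¹ := by group
            _ = 1 := by
              rw [show (g⁻¹ * h * g) * (g⁻¹ * h * g) = 1 from this, mul_one, mul_inv_cancel]
        · obtain ⟨g, rfl⟩ := exists_smul_eq G a c
          have hm : g⁻¹ * h * g ∈ stabilizer G a := by
            rw [mem_stabilizer_iff, mul_smul, mul_smul, hc, inv_smul_smul]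
          have hmH : g⁻¹ * h * g ∈ H := by simpa using Subgroup.Normal.conj_mem ‹H.Normal› h hh g⁻¹
          have hb' : g⁻¹ • b ≠ a := fun e => hcb (inv_smul_eq_iff.mp e).symm
          have h0 : (⟨⟨g⁻¹ * h * g, hm⟩, hmH⟩ : K) ∈ stabilizer K (⟨g⁻¹ • b, hb'⟩ : SubMulAction.ofStabilizer G a) := by
            refine Subtype.ext ?_
            show (g⁻¹ * h * g) • g⁻¹ • b = g⁻¹ • b
            rw [mul_smul, smul_inv_smul, mul_smul, hb]
          rw [hKnr, Subgroup.mem_bot] at h0
          have h0' : g⁻¹ * h * g = 1 := congrArg (fun z : K => ((z : stabilizer G a) : G)) h0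
          calc h = g * (g⁻¹ * h * g) * g⁻¹ := by group
            _ = 1 := by rw [h0', mul_one, mul_inv_cancel]
        · obtain ⟨x, hx⟩ := htK.exists_smul_eq ⟨b, hb⟩ ⟨c, hc⟩
          exact ⟨((x : stabilizer G a) : G), x.2, (x : stabilizer G a).2, congrArg Subtype.val hx⟩
      refine hfull (by omega) ?_
      rw [show Nat.card X = k + 1 by omega]
      exact hprim.isMultiplyPretransitive

/-- Wagner: a normal subgroup which is two-transitive, inside a three-transitive group of odd degree,
is transitive on the remaining points of every pair. -/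
theorem wagner [Finite G] [Finite X] (hodd : Odd (Nat.card X)) (h3 : IsMultiplyPretransitive G X 3)
    (N : Subgroup G) [N.Normal] (h2 : IsMultiplyPretransitive N X 2) {a b c d : X} (hab : a ≠ b)
    (hca : c ≠ a) (hcb : c ≠ b) (hda : d ≠ a) (hdb : d ≠ b) :
    ∃ n ∈ N, n • a = a ∧ n • b = b ∧ n • c = d := by
  classical
  have := Fact.mk Nat.prime_two
  let L : Subgroup G := N ⊓ stabilizer G ({a, b} : Set X)
  let M : Subgroup G := N ⊓ stabilizer G a ⊓ stabilizer G b
  have hML : M ≤ L := fun x hx => by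
    refine ⟨hx.1.1, ?_⟩
    show x • ({a, b} : Set X) = {a, b}
    rw [Set.smul_set_insert, Set.smul_set_singleton, mem_stabilizer_iff.mp hx.1.2, mem_stabilizer_iff.mp hx.2]
  -- a swap of `a` and `b`
  obtain ⟨⟨t, htN⟩, hta, htb⟩ := is_two_pretransitive_iff.mp h2 hab hab.symm
  change t • a = b at hta
  change t • b = a at htb
  have htL : t ∈ L := ⟨htN, by
    show t • ({a, b} : Set X) = {a, b}
    rw [Set.smul_set_insert, Set.smul_set_singleton, hta, htb, Set.pair_comm]⟩
  have hLab : ∀ x ∈ L, (x • a = a ∧ x • b = b) ∨ (x • a = b ∧ x • b = a) := by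
    intro x hx
    have hs : x • ({a, b} : Set X) = {a, b} := hx.2
    rw [Set.smul_set_insert, Set.smul_set_singleton] at hs
    exact Set.pair_eq_pair_iff.mp hs
  have hidx : (M.subgroupOf L).index = 2 := by
    refine Subgroup.index_eq_two_iff.mpr ⟨⟨t, htL⟩, fun x => ?_⟩
    simp only [Subgroup.mem_subgroupOf, Subgroup.coe_mul]
    rcases hLab x x.2 with ⟨h1, h1'⟩ | ⟨h1, h1'⟩
    · refine Or.inr ⟨⟨⟨x.2.1, h1⟩, h1'⟩, fun h => hab.symm ?_⟩
      have : ((x : G) * t) • a = a := h.1.2
      rwa [mul_smul, hta, h1'] at this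
    · refine Or.inl ⟨⟨⟨N.mul_mem x.2.1 htN, ?_⟩, ?_⟩, fun h => hab.symm ?_⟩
      · show ((x : G) * t) • a = a
        rw [mul_smul, hta, h1']
      · show ((x : G) * t) • b = b
        rw [mul_smul, htb, h1]
      · have : (x : G) • a = a := h.1.2
        rwa [h1] at this
  -- orbits of `L` off the pair have odd size
  let Ω' : Set X := {a, b}ᶜ
  have hL' : ∀ x ∈ L, ∀ y ∈ Ω', x • y ∈ Ω' := by
    intro x hx y hy hxy
    have hs : x • ({a, b} : Set X) = {a, b} := hx.2
    rw [← hs] at hxy
    exact hy (Set.smul_mem_smul_set_iff.mp hxy)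
  have hsame : ∀ y ∈ Ω', ∀ z ∈ Ω', (orbit L y).ncard = (orbit L z).ncard := by
    intro y hy z hz
    simp only [Ω', Set.mem_compl_iff, Set.mem_insert_iff, Set.mem_singleton_iff, not_or] at hy hz
    have hcard : 3 ≤ Nat.card X := by
      rw [← Set.ncard_univ]
      refine le_trans (le_of_eq ?_) (Set.ncard_le_ncard (Set.subset_univ ({a, b, y} : Set X)) (Set.toFinite _))
      exact (Set.ncard_eq_three.mpr ⟨a, b, y, hab, Ne.symm hy.1, Ne.symm hy.2, rfl⟩).symm
    let u : Fin 3 ↪ X := ⟨![a, b, y], by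
      intro i j; fin_cases i <;> fin_cases j <;> simp [hab, hab.symm, hy.1, Ne.symm hy.1, hy.2, Ne.symm hy.2]⟩
    let v : Fin 3 ↪ X := ⟨![a, b, z], by
      intro i j; fin_cases i <;> fin_cases j <;> simp [hab, hab.symm, hz.1, Ne.symm hz.1, hz.2, Ne.symm hz.2]⟩
    obtain ⟨g, hg⟩ := h3.exists_smul_eq u v
    have hga : g • a = a := DFunLike.congr_fun hg 0
    have hgb : g • b = b := DFunLike.congr_fun hg 1
    have hgy : g • y = z := DFunLike.congr_fun hg 2
    have hgS : g • ({a, b} : Set X) = {a, b} := by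
      rw [Set.smul_set_insert, Set.smul_set_singleton, hga, hgb]
    have key : ∀ k : G, k • ({a, b} : Set X) = {a, b} → ∀ x ∈ L, k * x * k⁻¹ ∈ L := by
      intro k hk x hx
      refine ⟨Subgroup.Normal.conj_mem ‹_› x hx.1 k, ?_⟩
      show (k * x * k⁻¹) • ({a, b} : Set X) = {a, b}
      rw [mul_smul, mul_smul, inv_smul_eq_iff.mpr hk.symm, show x • ({a, b} : Set X) = {a, b} from hx.2, hk]
    rw [← hgy, show orbit L (g • y) = g • orbit L y by
      ext w
      constructor
      · rintro ⟨⟨x, hx⟩, rfl⟩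
        refine ⟨(g⁻¹ * x * g) • y, ⟨⟨_, by simpa using key g⁻¹ (inv_smul_eq_iff.mpr hgS.symm) x hx⟩, rfl⟩, ?_⟩
        show g • (g⁻¹ * x * g) • y = x • g • y
        rw [← mul_smul, ← mul_smul]; group
      · rintro ⟨_, ⟨⟨x, hx⟩, rfl⟩, rfl⟩
        refine ⟨⟨g * x * g⁻¹, key g hgS x hx⟩, ?_⟩
        show (g * x * g⁻¹) • g • y = g • x • y
        rw [mul_smul, inv_smul_smul, mul_smul], Set.ncard_smul_set]
  have hodd' : ∀ y ∈ Ω', Odd (orbit L y).ncard := by
    intro y hy
    have := Fintype.ofFinite X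
    -- the orbits partition the complement
    let Y : SubMulAction L X := { carrier := Ω', smul_mem' := fun x z hz => hL' x x.2 z hz }
    have hY : Nat.card Y = ∑ o : orbitRel.Quotient L Y, Nat.card o.orbit := by
      rw [Nat.card_congr (selfEquivSigmaOrbits' L Y), Nat.card_sigma]
    have horb : ∀ o : orbitRel.Quotient L Y, Nat.card o.orbit = (orbit L y).ncard := by
      intro o
      induction o using Quotient.inductionOn' with
      | h w =>
        rw [orbitRel.Quotient.orbit_mk, ← hsame w.1 w.2 y hy, Nat.card_coe_set_eq,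
          ← Set.ncard_image_of_injective _ Subtype.val_injective]
        congr 1
        ext z
        constructor
        · rintro ⟨_, ⟨x, rfl⟩, rfl⟩; exact ⟨x, rfl⟩
        · rintro ⟨x, rfl⟩; exact ⟨x • w, ⟨x, rfl⟩, rfl⟩
    rw [Finset.sum_congr rfl fun o _ => horb o, Finset.sum_const, smul_eq_mul] at hY
    have hYodd : Odd (Nat.card Y) := by
      show Odd (Nat.card ({a, b}ᶜ : Set X))
      rw [Nat.card_coe_set_eq, Set.ncard_compl, Set.ncard_pair hab]
      obtain ⟨m, hm⟩ := hodd
      have h2 : 2 ≤ Nat.card X := by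
        rw [← Set.ncard_pair hab, ← Set.ncard_univ]
        exact Set.ncard_le_ncard (Set.subset_univ _) (Set.toFinite _)
      exact ⟨m - 1, by omega⟩
    rw [hY] at hYodd
    exact (Nat.odd_mul.mp hYodd).2
  -- a Sylow 2-subgroup of `L` fixes a point in every orbit
  obtain ⟨Q⟩ : Nonempty (Sylow 2 L) := inferInstance
  have hQfix : ∀ y ∈ Ω', ∃ z ∈ orbit L y, ∀ q ∈ (Q : Subgroup L), q • z = z := by
    intro y hy
    let S : SubMulAction (Q : Subgroup L) X :=
      { carrier := orbit L y, smul_mem' := fun q z hz => mem_orbit_of_mem_orbit (q : L) hz }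
    have hcard : ¬ 2 ∣ Nat.card S := by
      rw [← even_iff_two_dvd, Nat.not_even_iff_odd]
      exact Nat.card_coe_set_eq (orbit L y) ▸ hodd' y hy
    obtain ⟨⟨z, hz⟩, hfix⟩ := Q.isPGroup'.nonempty_fixed_point_of_prime_not_dvd_card S hcard
    exact ⟨z, hz, fun q hq => congrArg Subtype.val (hfix ⟨q, hq⟩)⟩
  have hcΩ : c ∈ Ω' := by simp [Ω', hca, hcb]
  have hdΩ : d ∈ Ω' := by simp [Ω', hda, hdb]
  have horbit : d ∈ orbit L c := by
    by_contra hcd
    obtain ⟨u, hu, hufix⟩ := hQfix c hcΩ
    obtain ⟨v, hv, hvfix⟩ := hQfix d hdΩ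
    have huv : u ≠ v := by
      rintro rfl
      exact hcd (orbit_eq_iff.mp ((orbit_eq_iff.mpr hv).symm.trans (orbit_eq_iff.mpr hu)))
    obtain ⟨⟨m, hmN⟩, hmu, hmv⟩ := is_two_pretransitive_iff.mp h2 huv hab
    change m • u = a at hmu
    change m • v = b at hmv
    -- the Sylow subgroup would embed in the pointwise stabilizer
    have hle : ((Q : Subgroup L).map L.subtype).map (MulAut.conj m).toMonoidHom ≤ M := by
      rintro _ ⟨_, ⟨q, hq, rfl⟩, rfl⟩
      refine ⟨⟨?_, ?_⟩, ?_⟩
      · exact Subgroup.Normal.conj_mem ‹_› _ q.2.1 m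
      · show (m * (q : G) * m⁻¹) • a = a
        rw [mul_smul, mul_smul, ← hmu, inv_smul_smul]
        exact congrArg (m • ·) (hufix q hq)
      · show (m * (q : G) * m⁻¹) • b = b
        rw [mul_smul, mul_smul, ← hmv, inv_smul_smul]
        exact congrArg (m • ·) (hvfix q hq)
    have h := Subgroup.card_dvd_of_le hle
    rw [Subgroup.card_map_of_injective (MulAut.conj m).injective,
      Subgroup.card_map_of_injective L.subtype_injective] at h
    refine Q.not_dvd_index ?_
    have h4 : 2 * Nat.card (Q : Subgroup L) ∣ (Q : Subgroup L).index * Nat.card (Q : Subgroup L) := by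
      rw [Subgroup.index_mul_card, ← Subgroup.index_mul_card (M.subgroupOf L), hidx,
        Nat.card_congr (Subgroup.subgroupOfEquivOfLe hML).toEquiv]
      exact Nat.mul_dvd_mul_left 2 h
    exact Nat.dvd_of_mul_dvd_mul_right Nat.card_pos h4
  -- index two cannot split an odd orbit
  have hMn : (M.subgroupOf L).Normal := Subgroup.normal_of_index_eq_two hidx
  let Y : SubMulAction L X := { carrier := orbit L c, smul_mem' := fun x z hz => mem_orbit_of_mem_orbit x hz }
  have htY : IsPretransitive L Y := ⟨fun u v => by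
    obtain ⟨x, hx⟩ : (v : X) ∈ orbit L (u : X) := by rw [orbit_eq_iff.mpr u.2]; exact v.2
    exact ⟨x, Subtype.ext hx⟩⟩
  have hcY : c ∈ Y := mem_orbit_self c
  have hblock := IsBlock.orbit_of_normal (G := L) (X := Y) (N := M.subgroupOf L) ⟨c, hcY⟩
  have hdv := hblock.ncard_dvd_card (nonempty_orbit _)
  have hne0 : 0 < (orbit (M.subgroupOf L) (⟨c, hcY⟩ : Y)).ncard :=
    (Set.ncard_pos (Set.toFinite _)).mpr (nonempty_orbit _)
  have hfull : orbit (M.subgroupOf L) (⟨c, hcY⟩ : Y) = Set.univ := by
    refine Set.eq_of_subset_of_ncard_le (Set.subset_univ _) ?_ (Set.toFinite _)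
    rw [Set.ncard_univ]
    obtain ⟨k, hk⟩ := hdv
    -- at most two translates
    have hk2 : k ≤ 2 := by
      have h1 := hblock.ncard_block_mul_ncard_orbit_eq (nonempty_orbit _)
      have h2 : (orbit L (orbit (M.subgroupOf L) (⟨c, hcY⟩ : Y))).ncard ≤ 2 := by
        rw [← index_stabilizer, ← hidx]
        refine Nat.le_of_dvd (by rw [hidx]; norm_num) (Subgroup.index_dvd_of_le fun x hx => ?_)
        show x • orbit (M.subgroupOf L) (⟨c, hcY⟩ : Y) = _
        exact smul_orbit (⟨x, hx⟩ : M.subgroupOf L) _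
      rw [hk] at h1
      exact (Nat.eq_of_mul_eq_mul_left hne0 h1).symm ▸ h2
    have hYodd : Odd (Nat.card Y) := Nat.card_coe_set_eq (orbit L c) ▸ hodd' c hcΩ
    rw [hk] at hYodd
    have hk1 := (Nat.odd_mul.mp hYodd).2
    obtain ⟨j, hj⟩ := hk1
    rw [hk, show k = 1 by omega, mul_one]
  obtain ⟨⟨x, hx⟩, hxd⟩ : (⟨d, horbit⟩ : Y) ∈ orbit (M.subgroupOf L) (⟨c, hcY⟩ : Y) := hfull.symm ▸ Set.mem_univ _
  exact ⟨(x : G), hx.1.1, hx.1.2, hx.2, congrArg Subtype.val hxd⟩

end CfsgLib.PrimRecog.NormalMultiply
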