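import Mathlib
import Cfsg.Agent.Lib.PrimRecog.NormalMultiply

/-! Jordan's theorem on normal subgroups of multiply transitive groups. -/
set_option autoImplicit false

namespace CfsgLib.PrimRecog.NormalMultiply

open MulAction

variable {α : Type*} [Fintype α] [DecidableEq α]

lemma eq_top_of_full {G : Subgroup (Equiv.Perm α)}
    (h : IsMultiplyPretransitive G α (Nat.card α)) : G = ⊤ :=
  Equiv.Perm.eq_top_of_isMultiplyPretransitive
    (isMultiplyPretransitive_of_le (n := Nat.card α) (Nat.sub_le _ 1) le_rfl)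

theorem jordan (G : Subgroup (Equiv.Perm α)) {k : ℕ} (hk : 1 < k) (hdeg : k < Fintype.card α)
    (hG : IsMultiplyPretransitive G α k) (N : Subgroup G) [N.Normal] (hN : N ≠ ⊥) :
    IsMultiplyPretransitive N α (k - 1) ∨
      (k = 3 ∧ (∀ a : α, stabilizer N a = ⊥) ∧ IsPretransitive N α ∧ ∀ n ∈ N, n ^ 2 = 1) := by
  classical
  have hc : Nat.card α = Fintype.card α := Nat.card_eq_fintype_card
  have hcard : ((k : ℕ) : ℕ∞) ≤ ENat.card α := by
    rw [ENat.card_eq_coe_natCard, hc]; exact_mod_cast hdeg.le
  have hp : IsMultiplyPreprimitive G α (k - 1) := by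
    have : IsMultiplyPretransitive G α (k - 1).succ := by
      rwa [show (k - 1).succ = k by omega]
    exact isMultiplyPreprimitive_of_isMultiplyPretransitive_succ G α
      (by rw [show (k - 1).succ = k by omega]; exact hcard)
  have hcard' : ((k - 1 : ℕ) : ℕ∞) ≤ ENat.card α := by
    rw [ENat.card_eq_coe_natCard, hc]; exact_mod_cast (by omega : k - 1 ≤ Fintype.card α)
  have h1 : IsPreprimitive G α := is_one_preprimitive_iff G α |>.mp
    (isMultiplyPreprimitive_of_le G α hp (by omega) hcard')
  have hNt : IsPretransitive N α := CfsgLib.PermGroup.isPretransitive_of_normal hN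
  by_cases hnr : ∃ a : α, stabilizer N a ≠ ⊥
  · left
    by_cases hbig : 3 ≤ k - 1 ∧ IsMultiplyPretransitive G α (Nat.card α)
    · obtain ⟨h3, hf⟩ := hbig
      have htop := eq_top_of_full hf
      have hNn : (N.map G.subtype).Normal := ⟨by
        rintro _ ⟨n, hn, rfl⟩ g
        exact ⟨⟨g, htop ▸ Subgroup.mem_top g⟩ * n * ⟨g, htop ▸ Subgroup.mem_top g⟩⁻¹,
          Subgroup.Normal.conj_mem ‹N.Normal› n hn _, rfl⟩⟩
      have hNnt : Nontrivial (N.map G.subtype) := (Subgroup.nontrivial_iff_ne_bot _).mpr fun e =>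
        hN ((Subgroup.map_eq_bot_iff_of_injective _ G.subtype_injective).mp e)
      have hle := Equiv.Perm.alternatingGroup_le_of_normal (α := α) (by omega) hNnt
      have hA := alternatingGroup.isMultiplyPretransitive α
      have hA' : IsMultiplyPretransitive (alternatingGroup α) α (k - 1) :=
        isMultiplyPretransitive_of_le (n := Nat.card α - 2) (by omega) (Nat.sub_le _ 2)
      refine ⟨fun x y => ?_⟩
      obtain ⟨s, hs⟩ := hA'.exists_smul_eq x y
      obtain ⟨n, hn, hns⟩ := hle s.2
      refine ⟨⟨n, hn⟩, Function.Embedding.ext fun i => ?_⟩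
      rw [← hs]
      show (n : Equiv.Perm α) (x i) = (s : Equiv.Perm α) (x i)
      rw [← hns]
      rfl
    · exact nonregular_normal (k - 1) (G := G) (X := α) (by omega) hp (fun h3 hf => hbig ⟨h3, hf⟩) N hN hnr
  push Not at hnr
  rcases Nat.lt_or_ge (k - 1) 2 with h2 | h2
  · left
    rw [show k - 1 = 1 by omega]
    exact is_one_pretransitive_iff.mpr hNt
  have hne : Nonempty α := (Fintype.card_pos_iff).mp (by omega)
  rcases Nat.lt_or_ge (k - 1) 3 with h3 | h3
  · right
    rcases CfsgLib.PermGroup.two_primitive_regular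
        (isMultiplyPreprimitive_of_le G α hp h2 hcard') N hnr with h | h
    · omega
    · exact ⟨by omega, hnr, hNt, h⟩
  · exfalso
    rcases CfsgLib.PermGroup.three_primitive_regular
        (isMultiplyPreprimitive_of_le G α hp h3 hcard') (by omega) N hnr with h | h <;> omega

end CfsgLib.PrimRecog.NormalMultiply
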