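import Mathlib

/-! A checkable criterion for a group of two by two matrices over a prime field to be regular on
non-zero vectors. -/
set_option autoImplicit false

namespace CfsgLib.PrimRecog.MatrixRegular

open Matrix

/-- A matrix modulo `p` as a quadruple of natural numbers. -/
abbrev Q := ℕ × ℕ × ℕ × ℕ

variable (p : ℕ)

/-- The matrix of a quadruple. -/
def toMat (x : Q) : Matrix (Fin 2) (Fin 2) (ZMod p) := !![(x.1 : ZMod p), x.2.1; x.2.2.1, x.2.2.2]

/-- Product modulo `p`. -/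
def qmul (x y : Q) : Q :=
  ((x.1 * y.1 + x.2.1 * y.2.2.1) % p, (x.1 * y.2.1 + x.2.1 * y.2.2.2) % p,
    (x.2.2.1 * y.1 + x.2.2.2 * y.2.2.1) % p, (x.2.2.1 * y.2.1 + x.2.2.2 * y.2.2.2) % p)

/-- Scalar multiple modulo `p`. -/
def qsmul (z : ℕ) (x : Q) : Q := (z * x.1 % p, z * x.2.1 % p, z * x.2.2.1 % p, z * x.2.2.2 % p)

lemma toMat_qmul (x y : Q) : toMat p (qmul p x y) = toMat p x * toMat p y := by
  ext i j
  fin_cases i <;> fin_cases j <;> simp [toMat, qmul, Matrix.mul_apply, Fin.sum_univ_two]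

lemma toMat_qsmul (z : ℕ) (x : Q) : toMat p (qsmul p z x) = (z : ZMod p) • toMat p x := by
  ext i j
  fin_cases i <;> fin_cases j <;> simp [toMat, qsmul]

/-- Every listed matrix is a generator times an earlier one (or the identity). -/
def built (gens : List Q) : List Q → List Q → Bool
  | _, [] => true
  | seen, x :: xs => (gens.any fun g => seen.any fun y => qmul p g y == x) && built gens (x :: seen) xs

/-- Every listed scalar is `c` times the previous one. -/
def chain (c : ℕ) : ℕ → List ℕ → Bool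
  | _, [] => true
  | z, w :: ws => (c * z % p == w) && chain c w ws

/-- All non-zero vectors, in a fixed order. -/
def allVecs : List (ℕ × ℕ) := ((List.range (p * p)).tail).map fun k => (k / p, k % p)

lemma mem_of_built (gens : List Q) (P : Q → Prop) (hP : ∀ g ∈ gens, ∀ y, P y → P (qmul p g y)) :
    ∀ (xs seen : List Q), built p gens seen xs = true → (∀ y ∈ seen, P y) → ∀ x ∈ xs, P x := by
  intro xs
  induction xs with
  | nil => intro seen _ _ x hx; simp at hx
  | cons a xs ih =>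
    intro seen h hseen x hx
    simp only [built, Bool.and_eq_true, List.any_eq_true, beq_iff_eq] at h
    obtain ⟨⟨g, hg, y, hy, rfl⟩, h'⟩ := h
    have ha := hP g hg y (hseen y hy)
    rcases List.mem_cons.mp hx with rfl | hx'
    · exact ha
    · exact ih _ h' (fun w hw => by
        rcases List.mem_cons.mp hw with rfl | hw'
        exacts [ha, hseen w hw']) x hx'

lemma mem_of_chain (c : ℕ) (P : ℕ → Prop) (hP : ∀ z, P z → P (c * z % p)) :
    ∀ (ws : List ℕ) (z : ℕ), chain p c z ws = true → P z → ∀ w ∈ ws, P w := by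
  intro ws
  induction ws with
  | nil => intro z _ _ w hw; simp at hw
  | cons a ws ih =>
    intro z h hz w hw
    simp only [chain, Bool.and_eq_true, beq_iff_eq] at h
    obtain ⟨rfl, h'⟩ := h
    rcases List.mem_cons.mp hw with rfl | hw'
    · exact hP z hz
    · exact ih _ h' (hP z hz) w hw'

/-- The criterion. `L` is a group of matrices containing the identity, `Z` a group of scalars. -/
theorem regular_of_check [Fact p.Prime] (gens : List Q) (c : ℕ) (L : List Q) (Z : List ℕ) (T : List (ℕ × ℕ))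
    (S : Set (GL (Fin 2) (ZMod p)))
    (hS1 : ∀ u ∈ S, (∃ g ∈ gens, (u : Matrix (Fin 2) (Fin 2) (ZMod p)) = toMat p g) ∨
      (u : Matrix (Fin 2) (Fin 2) (ZMod p)) = (c : ZMod p) • 1)
    (hS2 : ∀ g ∈ gens, ∃ u ∈ S, (u : Matrix (Fin 2) (Fin 2) (ZMod p)) = toMat p g)
    (hS3 : c = 1 ∨ ∃ u ∈ S, (u : Matrix (Fin 2) (Fin 2) (ZMod p)) = (c : ZMod p) • 1)
    (hL : built p gens [(1, 0, 0, 1)] L = true) (hL1 : ((1, 0, 0, 1) : Q) ∈ L)
    (hLc : (gens.all fun g => L.all fun x => L.contains (qmul p g x)) = true)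
    (hZ : chain p c 1 Z = true) (hZ1 : 1 ∈ Z) (hZc : (Z.all fun z => Z.contains (c * z % p)) = true)
    (hfpf : (Z.all fun z => L.all fun x => (qsmul p z x == (1, 0, 0, 1)) ||
      !(((z * x.1 + (p - 1)) * (z * x.2.2.2 + (p - 1))) % p == (z * z * x.2.1 * x.2.2.1) % p)) = true)
    (hT : (T.map fun t => ((Z.getD t.1 0) * (L.getD t.2 (0, 0, 0, 0)).1 % p,
      (Z.getD t.1 0) * (L.getD t.2 (0, 0, 0, 0)).2.2.1 % p)) = allVecs p)
    (hT' : (T.all fun t => decide (t.1 < Z.length) && decide (t.2 < L.length)) = true) :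
    Nat.card (Subgroup.closure S) = p * p - 1 ∧ ∀ v w : Fin 2 → ZMod p, v ≠ 0 → w ≠ 0 →
      ∃! h : Subgroup.closure S,
        Matrix.mulVec ((h : GL (Fin 2) (ZMod p)) : Matrix (Fin 2) (Fin 2) (ZMod p)) v = w := by
  classical
  have hone : toMat p (1, 0, 0, 1) = 1 := by
    ext i j; fin_cases i <;> fin_cases j <;> simp [toMat]
  -- the form of the elements of the group
  let P : GL (Fin 2) (ZMod p) → Prop := fun u =>
    ∃ z ∈ Z, ∃ x ∈ L, (u : Matrix (Fin 2) (Fin 2) (ZMod p)) = (z : ZMod p) • toMat p x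
  have hP : ∀ u ∈ Subgroup.closure S, P u := by
    intro u hu
    rw [← Subgroup.mem_toSubmonoid, Subgroup.closure_toSubmonoid_of_finite] at hu
    induction hu using Submonoid.closure_induction_left with
    | one => exact ⟨1, hZ1, _, hL1, by rw [hone, Nat.cast_one, one_smul]; rfl⟩
    | mul_left s hs y _ ih =>
      obtain ⟨z, hz, x, hx, hzx⟩ := ih
      rcases hS1 s hs with ⟨g, hg, hsg⟩ | hsc
      · refine ⟨z, hz, qmul p g x, ?_, ?_⟩
        · exact List.contains_iff_mem.mp (List.all_eq_true.mp (List.all_eq_true.mp hLc g hg) x hx)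
        · rw [Units.val_mul, hsg, hzx, toMat_qmul, Matrix.mul_smul]
      · refine ⟨c * z % p, List.contains_iff_mem.mp (List.all_eq_true.mp hZc z hz), x, hx, ?_⟩
        rw [Units.val_mul, hsc, hzx, Matrix.smul_mul, Matrix.one_mul, smul_smul, ZMod.natCast_mod, Nat.cast_mul]
  have hLmem : ∀ x ∈ L, ∃ u ∈ Subgroup.closure S, (u : Matrix (Fin 2) (Fin 2) (ZMod p)) = toMat p x := by
    refine mem_of_built p gens _ (fun g hg y => ?_) L _ hL ?_
    · rintro ⟨u, hu, hu'⟩
      obtain ⟨s, hs, hs'⟩ := hS2 g hg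
      exact ⟨s * u, Subgroup.mul_mem _ (Subgroup.subset_closure hs) hu, by rw [Units.val_mul, hs', hu', toMat_qmul]⟩
    · intro y hy
      rw [List.mem_singleton] at hy
      exact ⟨1, Subgroup.one_mem _, by rw [hy, hone]; rfl⟩
  have hZmem : ∀ z ∈ Z, ∃ u ∈ Subgroup.closure S, (u : Matrix (Fin 2) (Fin 2) (ZMod p)) = (z : ZMod p) • 1 := by
    refine mem_of_chain p c _ (fun z => ?_) Z 1 hZ ⟨1, Subgroup.one_mem _, by rw [Nat.cast_one, one_smul]; rfl⟩
    rintro ⟨u, hu, hu'⟩
    rcases hS3 with rfl | ⟨s, hs, hs'⟩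
    · exact ⟨u, hu, by rw [hu', ZMod.natCast_mod, one_mul]⟩
    · refine ⟨s * u, Subgroup.mul_mem _ (Subgroup.subset_closure hs) hu, ?_⟩
      rw [Units.val_mul, hs', hu', Matrix.smul_mul, Matrix.one_mul, smul_smul, ZMod.natCast_mod, Nat.cast_mul]
  -- fixed point free
  have hfree : ∀ u ∈ Subgroup.closure S, ∀ v : Fin 2 → ZMod p, v ≠ 0 →
      Matrix.mulVec (u : Matrix (Fin 2) (Fin 2) (ZMod p)) v = v → u = 1 := by
    intro u hu v hv huv
    obtain ⟨z, hz, x, hx, hzx⟩ := hP u hu
    have h := List.all_eq_true.mp (List.all_eq_true.mp hfpf z hz) x hx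
    rw [Bool.or_eq_true, beq_iff_eq] at h
    rcases h with h | h
    · refine Units.ext ?_
      rw [hzx, ← toMat_qsmul, h, hone]
      rfl
    · exfalso
      simp only [Bool.not_eq_true', beq_eq_false_iff_ne, ne_eq] at h
      refine h ((ZMod.natCast_eq_natCast_iff' _ _ p).mp ?_)
      have hdet : ((u : Matrix (Fin 2) (Fin 2) (ZMod p)) - 1).det = 0 := by
        refine Matrix.exists_mulVec_eq_zero_iff.mp ⟨v, hv, ?_⟩
        rw [Matrix.sub_mulVec, huv, Matrix.one_mulVec, sub_self]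
      rw [hzx, Matrix.det_fin_two] at hdet
      simp [toMat] at hdet
      have hp1 : ((p - 1 : ℕ) : ZMod p) = -1 := by
        rw [Nat.cast_sub (Fact.out : p.Prime).one_le, ZMod.natCast_self, Nat.cast_one, zero_sub]
      push_cast [hp1]
      linear_combination hdet
  -- transitive
  let e₁ : Fin 2 → ZMod p := ![1, 0]
  have hsurj : ∀ v : Fin 2 → ZMod p, v ≠ 0 → ∃ h : Subgroup.closure S,
      Matrix.mulVec ((h : GL (Fin 2) (ZMod p)) : Matrix (Fin 2) (Fin 2) (ZMod p)) e₁ = v := by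
    intro v hv
    have hp0 := (Fact.out : p.Prime).pos
    have hmem : ((v 0).val, (v 1).val) ∈ allVecs p := by
      unfold allVecs
      refine List.mem_map.mpr ⟨(v 0).val * p + (v 1).val, ?_, ?_⟩
      · have h1 := ZMod.val_lt (v 0)
        have h2 := ZMod.val_lt (v 1)
        have h3 : (v 0).val * p + (v 1).val < p * p := by
          calc _ < (v 0).val * p + p := by omega
            _ = ((v 0).val + 1) * p := by ring
            _ ≤ p * p := Nat.mul_le_mul_right _ h1
        obtain ⟨N, hN⟩ : ∃ N, p * p = N + 1 := ⟨p * p - 1, by omega⟩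
        rw [hN, List.range_succ_eq_map, List.tail_cons, List.mem_map]
        have h4 : (v 0).val * p + (v 1).val ≠ 0 := by
          intro h0
          refine hv (funext fun i => ?_)
          have ha : (v 0).val = 0 := by
            by_contra hne
            have := Nat.mul_pos (Nat.pos_of_ne_zero hne) hp0
            omega
          have hb : (v 1).val = 0 := by omega
          fin_cases i
          · exact (ZMod.val_eq_zero _).mp ha
          · exact (ZMod.val_eq_zero _).mp hb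
        refine ⟨(v 0).val * p + (v 1).val - 1, List.mem_range.mpr (by omega), ?_⟩
        show (v 0).val * p + (v 1).val - 1 + 1 = _
        omega
      · rw [Nat.mul_comm, Nat.mul_add_div hp0, Nat.div_eq_of_lt (ZMod.val_lt _), add_zero,
          Nat.mul_add_mod, Nat.mod_eq_of_lt (ZMod.val_lt _)]
    rw [← hT, List.mem_map] at hmem
    obtain ⟨⟨i, j⟩, ht, htv⟩ := hmem
    have hb := List.all_eq_true.mp hT' _ ht
    simp only [Bool.and_eq_true, decide_eq_true_eq] at hb
    simp only [Prod.mk.injEq] at htv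
    obtain ⟨uz, huz, huz'⟩ := hZmem (Z.getD i 0) (by rw [List.getD_eq_getElem _ _ hb.1]; exact List.getElem_mem _)
    obtain ⟨ux, hux, hux'⟩ := hLmem (L.getD j (0, 0, 0, 0)) (by rw [List.getD_eq_getElem _ _ hb.2]; exact List.getElem_mem _)
    refine ⟨⟨uz * ux, Subgroup.mul_mem _ huz hux⟩, ?_⟩
    show Matrix.mulVec ((uz * ux : GL (Fin 2) (ZMod p)) : Matrix (Fin 2) (Fin 2) (ZMod p)) e₁ = v
    rw [Units.val_mul, huz', hux', Matrix.smul_mul, Matrix.one_mul]
    funext k
    fin_cases k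
    · have := congrArg (fun a : ℕ => (a : ZMod p)) htv.1
      simp [e₁, toMat, ZMod.natCast_mod, ZMod.natCast_val, ZMod.cast_id] at this ⊢
      exact this
    · have := congrArg (fun a : ℕ => (a : ZMod p)) htv.2
      simp [e₁, toMat, ZMod.natCast_mod, ZMod.natCast_val, ZMod.cast_id] at this ⊢
      exact this
  have he₁ : e₁ ≠ 0 := fun h => by simpa [e₁] using congrFun h 0
  have huniq : ∀ (v : Fin 2 → ZMod p), v ≠ 0 → ∀ h h' : Subgroup.closure S,
      Matrix.mulVec ((h : GL (Fin 2) (ZMod p)) : Matrix (Fin 2) (Fin 2) (ZMod p)) v =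
        Matrix.mulVec ((h' : GL (Fin 2) (ZMod p)) : Matrix (Fin 2) (Fin 2) (ZMod p)) v → h = h' := by
    intro v hv h h' e
    have h2 := hfree ((h' : GL (Fin 2) (ZMod p))⁻¹ * h) (Subgroup.mul_mem _ (Subgroup.inv_mem _ h'.2) h.2) v hv
      (by rw [Units.val_mul, ← Matrix.mulVec_mulVec, e, Matrix.mulVec_mulVec, Units.inv_mul, Matrix.one_mulVec])
    exact Subtype.ext (inv_mul_eq_one.mp h2).symm
  have hnz : ∀ (h : Subgroup.closure S) (v : Fin 2 → ZMod p), v ≠ 0 →
      Matrix.mulVec ((h : GL (Fin 2) (ZMod p)) : Matrix (Fin 2) (Fin 2) (ZMod p)) v ≠ 0 := by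
    intro h v hv e
    refine hv ?_
    have := congrArg (Matrix.mulVec (((h : GL (Fin 2) (ZMod p))⁻¹ : GL (Fin 2) (ZMod p)) : Matrix (Fin 2) (Fin 2) (ZMod p))) e
    rwa [Matrix.mulVec_mulVec, Units.inv_mul, Matrix.one_mulVec, Matrix.mulVec_zero] at this
  refine ⟨?_, fun v w hv hw => ?_⟩
  · let f : Subgroup.closure S → {v : Fin 2 → ZMod p // v ≠ 0} := fun h => ⟨_, hnz h e₁ he₁⟩
    have hf : Function.Bijective f :=
      ⟨fun h h' e => huniq e₁ he₁ h h' (congrArg Subtype.val e),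
        fun v => let ⟨h, hh⟩ := hsurj v.1 v.2; ⟨h, Subtype.ext hh⟩⟩
    rw [Nat.card_eq_of_bijective f hf, Nat.card_eq_fintype_card, Fintype.card_subtype_compl,
      Fintype.card_subtype_eq, Fintype.card_fun, ZMod.card, Fintype.card_fin, pow_two]
  · obtain ⟨hv', hv''⟩ := hsurj v hv
    obtain ⟨hw', hw''⟩ := hsurj w hw
    refine ⟨hw' * hv'⁻¹, ?_, fun y hy => huniq v hv _ _ (hy.trans ?_)⟩
    · show Matrix.mulVec ((hw' * hv'⁻¹ : GL (Fin 2) (ZMod p)) : Matrix (Fin 2) (Fin 2) (ZMod p)) v = w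
      rw [← hv'', Units.val_mul, Matrix.mulVec_mulVec, Matrix.mul_assoc, Subgroup.coe_inv, Units.inv_mul, Matrix.mul_one, hw'']
    · show w = Matrix.mulVec ((hw' * hv'⁻¹ : GL (Fin 2) (ZMod p)) : Matrix (Fin 2) (Fin 2) (ZMod p)) v
      rw [← hv'', Units.val_mul, Matrix.mulVec_mulVec, Matrix.mul_assoc, Subgroup.coe_inv, Units.inv_mul, Matrix.mul_one, hw'']

end CfsgLib.PrimRecog.MatrixRegular
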