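import Mathlib

/-! No finite group with trivial centre admits a group of power-preserving permutations that
contains all inner automorphisms, leaves no proper subgroup invariant, and has maximal point
stabilizers on the non-identity elements. -/
set_option autoImplicit false

namespace CfsgLib.PrimRecog

variable {T H : Type*} [Group T] [Group H]

/-- The stabilizer of `x` for an action given by `ψ`. -/
def pstab (ψ : H →* Equiv.Perm T) (x : T) : Subgroup H where
  carrier := {h | ψ h x = x}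
  one_mem' := by simp
  mul_mem' := fun {a b} (ha : ψ a x = x) (hb : ψ b x = x) => by
    show ψ (a * b) x = x
    rw [map_mul, Equiv.Perm.mul_apply, hb, ha]
  inv_mem' := fun {a} (ha : ψ a x = x) => by
    show ψ a⁻¹ x = x
    rw [map_inv, Equiv.Perm.inv_eq_iff_eq]
    exact ha.symm

/-- The hypotheses on `ψ`. -/
structure CentralizerSystem (ψ : H →* Equiv.Perm T) : Prop where
  pow : ∀ h x, ∀ n : ℕ, ψ h (x ^ n) = ψ h x ^ n
  comm : ∀ h x y, Commute x y → Commute (ψ h x) (ψ h y)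
  inner : ∀ u : T, ∃ h, ∀ x, ψ h x = u * x * u⁻¹
  max : ∀ x : T, x ≠ 1 → IsCoatom (pstab ψ x)
  irred : ∀ L : Subgroup T, (∀ h, ∀ x ∈ L, ψ h x ∈ L) → L = ⊥ ∨ L = ⊤
  center : ∀ x : T, (∀ y, x * y = y * x) → x = 1

/-- `C(x)`. -/
abbrev cen (x : T) : Subgroup T := Subgroup.centralizer {x}

lemma mem_cen {x y : T} : y ∈ cen x ↔ Commute y x := by
  rw [Subgroup.mem_centralizer_singleton_iff]; exact Iff.rfl

/-- The `p`-part and `p'`-part decomposition, as membership in a subgroup. -/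
lemma mem_of_coprime_powers {K : Subgroup T} {y : T} {a b : ℕ} (hab : a.Coprime b)
    (ha : y ^ a ∈ K) (hb : y ^ b ∈ K) : y ∈ K := by
  have h := Int.isCoprime_iff_nat_coprime.mpr (show Nat.Coprime (a : ℤ).natAbs (b : ℤ).natAbs by simpa)
  obtain ⟨u, v, huv⟩ := h
  have : y = (y ^ a) ^ u * (y ^ b) ^ v := by
    rw [← zpow_natCast, ← zpow_natCast, ← zpow_mul, ← zpow_mul, ← zpow_add, mul_comm (a : ℤ),
      mul_comm (b : ℤ), huv, zpow_one]
  rw [this]
  exact K.mul_mem (K.zpow_mem ha u) (K.zpow_mem hb v)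

namespace CentralizerSystem

variable {ψ : H →* Equiv.Perm T} (hψ : CentralizerSystem ψ)
include hψ

lemma map_one' (h : H) : ψ h 1 = 1 := by
  have := hψ.pow h 1 0
  simpa using this

lemma map_pow_eq_one {x : T} {n : ℕ} (h : H) (hx : x ^ n = 1) : ψ h x ^ n = 1 := by
  rw [← hψ.pow, hx, hψ.map_one']

lemma stab_eq_of_le {x y : T} (hx : x ≠ 1) (hy : y ≠ 1) (hle : pstab ψ x ≤ pstab ψ y) :
    pstab ψ x = pstab ψ y := by
  rcases (hψ.max x hx).le_iff.mp hle with h | h
  · refine absurd (hψ.center y fun u => ?_) hy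
    obtain ⟨g, hg⟩ := hψ.inner u
    have h1 : ψ g y = y := (h ▸ Subgroup.mem_top g : g ∈ pstab ψ y)
    rw [hg, mul_inv_eq_iff_eq_mul] at h1
    exact h1.symm
  · exact h.symm

lemma cen_le_of_stab_le {x y : T} (hle : pstab ψ x ≤ pstab ψ y) : cen x ≤ cen y := by
  intro u hu
  obtain ⟨g, hg⟩ := hψ.inner u
  have h1 : g ∈ pstab ψ x := by
    show ψ g x = x
    rw [hg, mul_inv_eq_iff_eq_mul]
    exact mem_cen.mp hu
  have h2 : ψ g y = y := hle h1
  rw [hg, mul_inv_eq_iff_eq_mul] at h2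
  exact mem_cen.mpr h2

lemma cen_eq_of_coprime {x w : T} (hx : x ≠ 1) (hw : w ≠ 1) (hc : Commute x w)
    (hco : (orderOf x).Coprime (orderOf w)) : cen x = cen w := by
  have key : ∀ a b : T, Commute a b → (orderOf a).Coprime (orderOf b) →
      pstab ψ (a * b) ≤ pstab ψ a := by
    intro a b hab hco' g (hg : ψ g (a * b) = a * b)
    obtain ⟨k, hk⟩ := exists_pow_eq_self_of_coprime hco'.symm
    have : a = (a * b) ^ (orderOf b * k) := by
      rw [pow_mul, hab.mul_pow, pow_orderOf_eq_one, mul_one, hk]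
    show ψ g a = a
    rw [this, hψ.pow, hg]
  have hxw : x * w ≠ 1 := by
    intro h
    have : orderOf x = orderOf w := by rw [eq_inv_of_mul_eq_one_left h, orderOf_inv]
    rw [this, Nat.coprime_self, orderOf_eq_one_iff] at hco
    exact hw hco
  have h1 := hψ.stab_eq_of_le hxw hx (key x w hc hco)
  have h2 := hψ.stab_eq_of_le hxw hw (hc.eq ▸ key w x hc.symm hco.symm)
  exact le_antisymm (hψ.cen_le_of_stab_le (h1 ▸ h2.le))
    (hψ.cen_le_of_stab_le (h2 ▸ h1.le))

/-- Centralizers are self-normalizing. -/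
lemma mem_cen_of_normalizes {x t : T} (hx : x ≠ 1)
    (ht : ∀ y ∈ cen x, t * y * t⁻¹ ∈ cen x) (ht' : ∀ y ∈ cen x, t⁻¹ * y * t ∈ cen x) :
    t ∈ cen x := by
  let K : Subgroup H :=
    { carrier := {h | ∀ y, y ∈ cen x ↔ ψ h y ∈ cen x}
      one_mem' := fun y => by simp
      mul_mem' := fun {a b} ha hb y => by
        rw [map_mul, Equiv.Perm.mul_apply]; exact (hb y).trans (ha _)
      inv_mem' := fun {a} ha y => by
        have h := ha ((ψ a⁻¹) y)
        rw [← Equiv.Perm.mul_apply, ← map_mul, mul_inv_cancel, map_one, Equiv.Perm.one_apply] at h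
        exact h.symm }
  have hle : pstab ψ x ≤ K := by
    intro g hg y
    have hfwd : ∀ g' ∈ pstab ψ x, ∀ z ∈ cen x, ψ g' z ∈ cen x := fun g' hg' z hz =>
      mem_cen.mpr ((show ψ g' x = x from hg') ▸ hψ.comm g' z x (mem_cen.mp hz))
    refine ⟨hfwd g hg y, fun hy => ?_⟩
    have := hfwd g⁻¹ ((pstab ψ x).inv_mem hg) _ hy
    rwa [← Equiv.Perm.mul_apply, ← map_mul, inv_mul_cancel, map_one, Equiv.Perm.one_apply] at this
  rcases (hψ.max x hx).le_iff.mp hle with h | h
  · exfalso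
    rcases hψ.irred (cen x) (fun g y hy => ((h ▸ Subgroup.mem_top g : g ∈ K) y).mp hy) with h' | h'
    · exact hx (Subgroup.mem_bot.mp (h' ▸ mem_cen.mpr (Commute.refl x)))
    · exact hx (hψ.center x fun y => (mem_cen.mp (h' ▸ Subgroup.mem_top y)).symm)
  · obtain ⟨g, hg⟩ := hψ.inner t
    have hgK : g ∈ K := by
      intro y
      rw [hg]
      refine ⟨ht y, fun hy => ?_⟩
      have := ht' _ hy
      simpa [mul_assoc] using this
    rw [h] at hgK
    have h2 : ψ g x = x := hgK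
    rw [hg, mul_inv_eq_iff_eq_mul] at h2
    exact mem_cen.mpr h2

variable [Finite T] [Nontrivial T]

omit hψ [Finite T] [Nontrivial T] in
lemma isPGroup_orderOf {p : ℕ} [Fact p.Prime] {P : Subgroup T} (hP : IsPGroup p P) {y : T}
    (hy : y ∈ P) : ∃ k, orderOf y = p ^ k := by
  obtain ⟨k, hk⟩ := IsPGroup.iff_orderOf.mp hP ⟨y, hy⟩
  exact ⟨k, by rw [← hk, ← Subgroup.orderOf_coe]⟩

/-- Burnside's transfer gives an invariant normal complement, which is impossible. -/
lemma not_normalizer_le_centralizer {p : ℕ} [hp : Fact p.Prime] (hd : p ∣ Nat.card T)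
    (P : Sylow p T)
    (h : Subgroup.normalizer ((P : Subgroup T) : Set T) ≤ Subgroup.centralizer ((P : Subgroup T) : Set T)) :
    False := by
  set f := MonoidHom.transferSylow P h
  have hcompl := MonoidHom.ker_transferSylow_isComplement' P h
  have hmem : ∀ y : T, (orderOf y).Coprime p → y ∈ f.ker := by
    intro y hy
    rw [MonoidHom.mem_ker]
    obtain ⟨k, hk⟩ := IsPGroup.iff_orderOf.mp P.isPGroup' (f y)
    have h1 : p ^ k ∣ orderOf y := hk ▸ orderOf_map_dvd f y
    have h2 : p ^ k = 1 := Nat.eq_one_of_dvd_coprimes (hy.pow_right k) h1 dvd_rfl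
    exact orderOf_eq_one_iff.mp (hk.trans h2)
  have hco : ∀ y ∈ f.ker, (orderOf y).Coprime p := by
    intro y hy
    rw [Nat.coprime_comm, hp.out.coprime_iff_not_dvd]
    intro hpy
    obtain ⟨z, hz, hzord⟩ : ∃ z ∈ f.ker, orderOf z = p := by
      refine ⟨y ^ (orderOf y / p), f.ker.pow_mem hy _, ?_⟩
      rw [orderOf_pow_of_dvd (Nat.div_pos (Nat.le_of_dvd (orderOf_pos y) hpy) hp.out.pos).ne'
        (Nat.div_dvd_of_dvd hpy), Nat.div_div_self hpy (orderOf_pos y).ne']
    have h1 : p ∣ Nat.card f.ker := hzord ▸ Subgroup.orderOf_dvd_natCard f.ker hz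
    exact P.not_dvd_index (hcompl.index_eq_card ▸ h1)
  rcases hψ.irred f.ker (fun g y hy => hmem _ ((hco y hy).of_dvd_left
      (orderOf_dvd_of_pow_eq_one (hψ.map_pow_eq_one g (pow_orderOf_eq_one y))))) with hk | hk
  · have hT : (P : Subgroup T) = ⊤ := by
      rw [hk] at hcompl
      exact Subgroup.isComplement'_bot_left.mp hcompl
    have hPT : IsPGroup p T := fun y => by
      obtain ⟨k, hk'⟩ := P.isPGroup' ⟨y, hT ▸ Subgroup.mem_top y⟩
      exact ⟨k, congrArg Subtype.val hk'⟩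
    obtain ⟨⟨z, hz⟩, hz1⟩ := Subgroup.ne_bot_iff_exists_ne_one.mp
      ((Subgroup.nontrivial_iff_ne_bot _).mp hPT.center_nontrivial)
    exact hz1 (Subtype.ext (hψ.center z fun y => (Subgroup.mem_center_iff.mp hz y).symm))
  · rw [hk] at hcompl
    exact P.ne_bot_of_dvd_card hd (Subgroup.isComplement'_top_left.mp hcompl)

/-- A central element of a Sylow subgroup. -/
lemma exists_central {p : ℕ} [Fact p.Prime] (hd : p ∣ Nat.card T) (P : Sylow p T) :
    ∃ z ∈ (P : Subgroup T), z ≠ 1 ∧ ∀ y ∈ (P : Subgroup T), Commute y z := by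
  have : Nontrivial (P : Subgroup T) := (Subgroup.nontrivial_iff_ne_bot _).mpr (P.ne_bot_of_dvd_card hd)
  obtain ⟨⟨⟨z, hzP⟩, hzc⟩, hz1⟩ := Subgroup.ne_bot_iff_exists_ne_one.mp
    ((Subgroup.nontrivial_iff_ne_bot _).mp (P.isPGroup'.center_nontrivial))
  exact ⟨z, hzP, fun h => hz1 (Subtype.ext (Subtype.ext h)),
    fun y hy => congrArg Subtype.val (Subgroup.mem_center_iff.mp hzc ⟨y, hy⟩)⟩

/-- Centralizers of central elements of a Sylow subgroup contain no `p'`-elements. -/
lemma eq_one_of_coprime_mem {p : ℕ} [hp : Fact p.Prime] (hd : p ∣ Nat.card T) (P : Sylow p T)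
    {z : T} (hzP : z ∈ (P : Subgroup T)) (hz : z ≠ 1) (hzc : ∀ y ∈ (P : Subgroup T), Commute y z)
    {w : T} (hw : Commute w z) (hco : (orderOf w).Coprime p) : w = 1 := by
  by_contra hw1
  obtain ⟨k, hk⟩ := isPGroup_orderOf P.isPGroup' hzP
  have hzw : cen z = cen w := hψ.cen_eq_of_coprime hz hw1 hw.symm (hk ▸ (hco.pow_right k).symm)
  -- every element of the centralizer is central in it
  have hcent : ∀ y ∈ cen z, ∀ u ∈ cen z, Commute y u := by
    intro y hy u hu
    obtain ⟨e, m, hm, hym⟩ := Nat.exists_eq_pow_mul_and_not_dvd (orderOf_pos y).ne' p hp.out.ne_one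
    have hcop : Nat.Coprime (p ^ e) m := (hp.out.coprime_iff_not_dvd.mpr hm).pow_left e
    suffices y ∈ Subgroup.centralizer {u} from mem_cen.mp this
    refine mem_of_coprime_powers hcop (mem_cen.mpr ?_) (mem_cen.mpr ?_)
    · by_cases h1 : y ^ p ^ e = 1
      · rw [h1]; exact Commute.one_left u
      have hd' : orderOf (y ^ p ^ e) ∣ m := orderOf_dvd_of_pow_eq_one (by
        rw [← pow_mul, ← hym, pow_orderOf_eq_one])
      have heq : cen z = cen (y ^ p ^ e) := hψ.cen_eq_of_coprime hz h1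
        (((mem_cen.mp hy).pow_left _).symm) (hk ▸ ((hp.out.coprime_iff_not_dvd.mpr hm).pow_left k).of_dvd_right hd')
      exact (mem_cen.mp (heq ▸ hu)).symm
    · by_cases h1 : y ^ m = 1
      · rw [h1]; exact Commute.one_left u
      have hd' : orderOf (y ^ m) ∣ p ^ e := orderOf_dvd_of_pow_eq_one (by
        rw [← pow_mul, mul_comm, ← hym, pow_orderOf_eq_one])
      have heq : cen (y ^ m) = cen w := hψ.cen_eq_of_coprime h1 hw1
        ((mem_cen.mp (hzw ▸ hy)).pow_left _) (((hco.pow_right e).symm).of_dvd_left hd')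
      exact (mem_cen.mp (heq.symm ▸ (hzw ▸ hu : u ∈ cen w))).symm
  refine hψ.not_normalizer_le_centralizer hd P fun t ht => ?_
  have hPM : (P : Subgroup T) ≤ cen z := fun y hy => mem_cen.mpr (hzc y hy)
  have hCP : ∀ y, y ∈ cen z ↔ ∀ u ∈ (P : Subgroup T), Commute y u :=
    fun y => ⟨fun hy u hu => hcent y hy u (hPM hu), fun h => mem_cen.mpr (h z hzP)⟩
  have hconj : ∀ s ∈ Subgroup.normalizer ((P : Subgroup T) : Set T), ∀ y ∈ cen z,
      s * y * s⁻¹ ∈ cen z := by
    intro s hs y hy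
    rw [hCP] at hy ⊢
    intro u hu
    have hs' : s⁻¹ * u * s ∈ (P : Subgroup T) := by
      have := (Subgroup.mem_normalizer_iff.mp ((Subgroup.normalizer ((P : Subgroup T) : Set T)).inv_mem hs) u).mp hu
      simpa using this
    have h2 := congrArg (fun v => s * v * s⁻¹) (hy _ hs').eq
    show s * y * s⁻¹ * u = u * (s * y * s⁻¹)
    simpa [mul_assoc] using h2
  have htM : t ∈ cen z := hψ.mem_cen_of_normalizes hz (hconj t ht) (fun y hy => by
    simpa using hconj t⁻¹ ((Subgroup.normalizer ((P : Subgroup T) : Set T)).inv_mem ht) y hy)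
  exact Subgroup.mem_centralizer_iff.mpr fun u hu => ((hCP t).mp htM u hu).symm

/-- All centralizers are Sylow subgroups. -/
lemma exists_sylow {x : T} (hx : x ≠ 1) :
    ∃ p, p.Prime ∧ p ∣ Nat.card T ∧ ∃ Q : Sylow p T, x ∈ (Q : Subgroup T) ∧
      (∀ y ∈ (Q : Subgroup T), Commute y x) ∧
      ¬ (∀ a ∈ (Q : Subgroup T), ∀ b ∈ (Q : Subgroup T), Commute a b) := by
  obtain ⟨p, hp, hpx⟩ := Nat.exists_prime_and_dvd (n := orderOf x) (fun h => hx (orderOf_eq_one_iff.mp h))
  have := Fact.mk hp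
  have hd : p ∣ Nat.card T := hpx.trans (orderOf_dvd_natCard x)
  obtain ⟨e, m, hm, hxm⟩ := Nat.exists_eq_pow_mul_and_not_dvd (orderOf_pos x).ne' p hp.ne_one
  have hco : (orderOf (x ^ p ^ e)).Coprime p :=
    ((hp.coprime_iff_not_dvd.mpr hm).symm).of_dvd_left (orderOf_dvd_of_pow_eq_one (by
      rw [← pow_mul, ← hxm, pow_orderOf_eq_one]))
  set x₁ := x ^ m with hx₁
  have hx₁1 : x₁ ≠ 1 := by
    intro h
    have h1 := orderOf_dvd_of_pow_eq_one h
    exact hm (hpx.trans h1)
  have hx₁p : x₁ ^ p ^ e = 1 := by rw [hx₁, ← pow_mul, mul_comm, ← hxm, pow_orderOf_eq_one]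
  obtain ⟨j, -, hj⟩ := (Nat.dvd_prime_pow hp).mp (orderOf_dvd_of_pow_eq_one hx₁p)
  -- the centralizer of a `p`-element is a `p`-group
  have hnop : ∀ w : T, Commute w x₁ → (orderOf w).Coprime p → w = 1 := by
    intro w hw hw'
    by_contra hw1
    have heq : cen x₁ = cen w := hψ.cen_eq_of_coprime hx₁1 hw1 hw.symm (hj ▸ (hw'.pow_right j).symm)
    have hzp : IsPGroup p (Subgroup.zpowers x₁) := IsPGroup.of_card (by rw [Nat.card_zpowers, hj])
    obtain ⟨P, hP⟩ := hzp.exists_le_sylow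
    obtain ⟨z, hzP, hz1, hzc⟩ := exists_central (hψ := hψ) hd P
    have hzx : z ∈ cen x₁ := mem_cen.mpr (hzc x₁ (hP (Subgroup.mem_zpowers x₁))).symm
    rw [heq] at hzx
    exact hw1 (hψ.eq_one_of_coprime_mem hd P hzP hz1 hzc (mem_cen.mp hzx).symm hw')
  have hxx : x ^ p ^ e = 1 := hnop _ (Commute.pow_pow_self x _ _) hco
  have hxp : IsPGroup p (cen x₁) := by
    intro y
    obtain ⟨e', m', hm', hym⟩ := Nat.exists_eq_pow_mul_and_not_dvd (orderOf_pos (y : T)).ne' p hp.ne_one
    refine ⟨e', Subtype.ext ?_⟩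
    rw [Subgroup.coe_pow, Subgroup.coe_one]
    refine hnop _ ((mem_cen.mp y.2).pow_left _) (((hp.coprime_iff_not_dvd.mpr hm').symm).of_dvd_left
      (orderOf_dvd_of_pow_eq_one (by rw [← pow_mul, ← hym, pow_orderOf_eq_one])))
  obtain ⟨Q, hQ⟩ := hxp.exists_le_sylow
  have hQeq : cen x₁ = (Q : Subgroup T) := by
    by_contra hne
    have hnc : NormalizerCondition (Q : Subgroup T) := by
      have := Q.isPGroup'.isNilpotent
      exact Group.normalizerCondition_of_isNilpotent
    have hlt : (cen x₁).subgroupOf Q < ⊤ :=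
      lt_top_iff_ne_top.mpr fun h => hne (hQ.antisymm (Subgroup.subgroupOf_eq_top.mp h))
    obtain ⟨t, htn, ht⟩ := SetLike.exists_of_lt (hnc _ hlt)
    refine ht (Subgroup.mem_subgroupOf.mpr (hψ.mem_cen_of_normalizes hx₁1 (fun y hy => ?_) (fun y hy => ?_)))
    · exact (Subgroup.mem_normalizer_iff.mp htn ⟨y, hQ hy⟩).mp hy
    · have := (Subgroup.mem_normalizer_iff.mp (Subgroup.inv_mem _ htn) ⟨y, hQ hy⟩).mp hy
      simpa [Subgroup.mem_subgroupOf] using this
  refine ⟨p, hp, hd, Q, ?_, fun y hy => ?_, fun hab => ?_⟩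
  · refine hQeq ▸ mem_cen.mpr ?_
    exact Commute.self_pow x m
  · rw [← hQeq] at hy
    have hy' : Commute y x₁ := mem_cen.mp hy
    have hcop : Nat.Coprime (p ^ e) m := (hp.coprime_iff_not_dvd.mpr hm).pow_left e
    have hmem : x ∈ cen y := mem_of_coprime_powers hcop
      (by rw [hxx]; exact one_mem _) (mem_cen.mpr hy'.symm)
    exact (mem_cen.mp hmem).symm
  · refine hψ.not_normalizer_le_centralizer hd Q fun t ht => ?_
    have hcen : ∀ y ∈ cen x₁, ∀ s ∈ Subgroup.normalizer ((Q : Subgroup T) : Set T),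
        s * y * s⁻¹ ∈ cen x₁ := by
      intro y hy s hs
      rw [hQeq] at hy ⊢
      exact (Subgroup.mem_normalizer_iff.mp hs y).mp hy
    have htQ : t ∈ cen x₁ := hψ.mem_cen_of_normalizes hx₁1 (fun y hy => hcen y hy t ht)
      (fun y hy => by simpa using hcen y hy t⁻¹ (Subgroup.inv_mem _ ht))
    rw [hQeq] at htQ
    exact Subgroup.mem_centralizer_iff.mpr fun u hu => (hab t htQ u hu).symm

end CentralizerSystem

end CfsgLib.PrimRecog
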