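import Mathlib

/-! Permutations of a prime field with few slopes are affine. -/
set_option autoImplicit false

namespace CfsgLib.PrimRecog

open Polynomial

variable {p : ℕ} [hp : Fact p.Prime]

/-- The sum of the values of a polynomial of small degree. -/
lemma sum_eval_eq_neg_coeff (g : (ZMod p)[X]) (hg : g.natDegree < 2 * (p - 1)) :
    ∑ x : ZMod p, g.eval x = - g.coeff (p - 1) := by
  have hp1 : 0 < p - 1 := Nat.sub_pos_of_lt hp.out.one_lt
  have hpow : ∀ k < 2 * (p - 1), ∑ x : ZMod p, x ^ k = if k = p - 1 then -1 else 0 := by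
    intro k hk
    by_cases hk1 : k < p - 1
    · rw [FiniteField.sum_pow_lt_card_sub_one (ZMod p) k (by rwa [ZMod.card]), if_neg hk1.ne]
    push Not at hk1
    obtain ⟨j, rfl⟩ := Nat.exists_eq_add_of_le hk1
    have hrw : ∀ x : ZMod p, x ≠ 0 → x ^ (p - 1 + j) = x ^ j := fun x hx => by
      rw [pow_add, ZMod.pow_card_sub_one_eq_one hx, one_mul]
    by_cases hj : j = 0
    · subst hj
      rw [add_zero, if_pos rfl, ← Finset.add_sum_erase _ _ (Finset.mem_univ (0 : ZMod p)),
        zero_pow hp1.ne', zero_add,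
        Finset.sum_congr rfl fun x hx => ZMod.pow_card_sub_one_eq_one (Finset.ne_of_mem_erase hx),
        Finset.sum_const, Finset.card_erase_of_mem (Finset.mem_univ _), Finset.card_univ, ZMod.card,
        nsmul_eq_mul, mul_one, Nat.cast_sub hp.out.one_le, ZMod.natCast_self, Nat.cast_one, zero_sub]
    · rw [if_neg (by omega), ← FiniteField.sum_pow_lt_card_sub_one (ZMod p) j (by rw [ZMod.card]; omega)]
      refine Finset.sum_congr rfl fun x _ => ?_
      by_cases hx : x = 0
      · rw [hx, zero_pow hj, zero_pow (by omega)]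
      · exact hrw x hx
  calc ∑ x : ZMod p, g.eval x
      = ∑ x : ZMod p, ∑ k ∈ Finset.range (2 * (p - 1)), g.coeff k * x ^ k :=
        Finset.sum_congr rfl fun x _ => eval_eq_sum_range' hg x
    _ = ∑ k ∈ Finset.range (2 * (p - 1)), g.coeff k * ∑ x : ZMod p, x ^ k := by
        rw [Finset.sum_comm]; simp_rw [Finset.mul_sum]
    _ = ∑ k ∈ Finset.range (2 * (p - 1)), (if k = p - 1 then - g.coeff k else 0) :=
        Finset.sum_congr rfl fun k hk => by
          rw [hpow k (Finset.mem_range.mp hk)]
          split_ifs <;> simp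
    _ = _ := by rw [Finset.sum_ite_eq', if_pos (Finset.mem_range.mpr (by omega))]

/-- If many translates `σ x - c x` are bijective, the mixed power sums of `x` and `σ x` vanish. -/
lemma sum_mixed_eq_zero (σ : ZMod p → ZMod p) (C : Finset (ZMod p))
    (hC : ∀ c ∈ C, Function.Bijective fun x => σ x - c * x) {i l : ℕ} (hlt : i + l < p - 1)
    (hle : i + l ≤ C.card) : ∑ x : ZMod p, x ^ i * σ x ^ l = 0 := by
  classical
  set j := i + l with hj
  let P : (ZMod p)[X] := ∑ k ∈ Finset.range (j + 1),
    monomial k (((-1) ^ k * (j.choose k : ZMod p)) * ∑ x : ZMod p, x ^ k * σ x ^ (j - k))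
  have heval : ∀ c, P.eval c = ∑ x : ZMod p, (-(c * x) + σ x) ^ j := by
    intro c
    simp only [P, eval_finsetSum, eval_monomial]
    rw [Finset.sum_congr rfl (fun x _ => add_pow _ _ j), Finset.sum_comm]
    refine Finset.sum_congr rfl fun k _ => ?_
    rw [Finset.mul_sum, Finset.sum_mul]
    refine Finset.sum_congr rfl fun x _ => ?_
    rw [neg_pow (c * x), mul_pow]
    ring
  have hdeg : P.natDegree ≤ j := natDegree_sum_le_of_forall_le _ _ fun k hk =>
    (natDegree_monomial_le _).trans (Nat.lt_succ_iff.mp (Finset.mem_range.mp hk))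
  have hcoeff : ∀ k ≤ j, P.coeff k = (-1) ^ k * (j.choose k : ZMod p) * ∑ x : ZMod p, x ^ k * σ x ^ (j - k) := by
    intro k hk
    simp only [P, finsetSum_coeff, coeff_monomial]
    rw [Finset.sum_ite_eq', if_pos (Finset.mem_range.mpr (by omega))]
  have hroots : ∀ c ∈ C, P.eval c = 0 := by
    intro c hc
    rw [heval, ← FiniteField.sum_pow_lt_card_sub_one (ZMod p) j (by rwa [ZMod.card])]
    exact Fintype.sum_bijective _ (by
      convert hC c hc using 1
      funext x
      rw [neg_add_eq_sub]) _ _ fun x => rfl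
  have hzero : P = 0 := by
    by_contra hne
    have hlt' : P.natDegree < C.card := by
      by_contra hge
      have hPj : P.natDegree = j := by omega
      apply hne
      rw [← leadingCoeff_eq_zero, leadingCoeff, hPj, hcoeff j le_rfl]
      simp [FiniteField.sum_pow_lt_card_sub_one (ZMod p) j (by rwa [ZMod.card])]
    exact hne (eq_zero_of_natDegree_lt_card_of_eval_eq_zero' P C hroots hlt')
  have h1 := hcoeff i (by omega)
  rw [hzero, coeff_zero, show j - i = l by omega] at h1
  have hne : ((-1) ^ i * (j.choose i : ZMod p)) ≠ 0 := by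
    refine mul_ne_zero (pow_ne_zero _ (by simp)) ?_
    rw [Ne, ZMod.natCast_eq_zero_iff]
    intro hd
    have h2 : p ∣ j.factorial := by
      rw [← Nat.choose_mul_factorial_mul_factorial (show i ≤ j by omega)]
      exact dvd_mul_of_dvd_left (dvd_mul_of_dvd_left hd _) _
    have := hp.out.dvd_factorial.mp h2
    omega
  exact (mul_eq_zero.mp h1.symm).resolve_left hne

/-- A map whose slopes avoid more than half of the field is affine. -/
theorem exists_affine_of_slopes (σ : ZMod p → ZMod p) (C : Finset (ZMod p))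
    (hC : ∀ c ∈ C, Function.Bijective fun x => σ x - c * x) (hcard : p + 1 ≤ 2 * C.card) :
    ∃ a b : ZMod p, ∀ x, σ x = a * x + b := by
  classical
  set f : (ZMod p)[X] := Lagrange.interpolate Finset.univ id σ with hf
  have hinj : Set.InjOn (id : ZMod p → ZMod p) (Finset.univ : Finset (ZMod p)) := Set.injOn_id _
  have hfeval : ∀ x, f.eval x = σ x := fun x =>
    Lagrange.eval_interpolate_at_node σ hinj (Finset.mem_univ x)
  set d := f.natDegree with hd
  have hdp : d < p := by
    have := Lagrange.degree_interpolate_lt σ hinj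
    rw [Finset.card_univ, ZMod.card, ← hf] at this
    by_cases h0 : f = 0
    · rw [hd, h0, natDegree_zero]; exact hp.out.pos
    · exact (natDegree_lt_iff_degree_lt h0).mpr this
  by_cases hp2 : p ≤ 2
  · have h2 : p = 2 := le_antisymm hp2 hp.out.two_le
    refine ⟨f.coeff 1, f.coeff 0, fun x => ?_⟩
    rw [← hfeval, eval_eq_sum_range' (show f.natDegree < 2 by omega)]
    simp [Finset.sum_range_succ, add_comm]
  have hodd : p % 2 = 1 := hp.out.eq_two_or_odd.resolve_left (by omega)
  have hsum : ∀ i, i + 1 ≤ C.card → i + 1 < p - 1 → i + d < 2 * (p - 1) →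
      i ≤ p - 1 → f.coeff (p - 1 - i) = 0 := by
    intro i h1 h2 h3 h4
    have hz := sum_mixed_eq_zero σ C hC (i := i) (l := 1) h2 h1
    simp only [pow_one] at hz
    have h5 := sum_eval_eq_neg_coeff (X ^ i * f)
      (lt_of_le_of_lt natDegree_mul_le (by rwa [natDegree_X_pow]))
    simp only [eval_mul, eval_pow, eval_X, hfeval, hz] at h5
    rw [coeff_X_pow_mul', if_pos h4] at h5
    exact neg_eq_zero.mp h5.symm
  by_cases hd1 : d ≤ 1
  · refine ⟨f.coeff 1, f.coeff 0, fun x => ?_⟩
    rw [← hfeval, eval_eq_sum_range' (show f.natDegree < 2 by omega)]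
    simp [Finset.sum_range_succ, add_comm]
  exfalso
  have hf0 : f ≠ 0 := fun h => hd1 (by rw [hd, h, natDegree_zero]; omega)
  have hlc : f.coeff d ≠ 0 := by
    rw [hd]; exact leadingCoeff_ne_zero.mpr hf0
  -- the degree is less than half
  have hsmall : 2 * d + 3 ≤ p := by
    by_contra hlarge
    rcases Nat.lt_or_ge d (p - 1) with hlt | hge
    · refine hlc ?_
      have := hsum (p - 1 - d) (by omega) (by omega) (by omega) (by omega)
      rwa [show p - 1 - (p - 1 - d) = d by omega] at this
    · refine hlc ?_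
      have := hsum 0 (by omega) (by omega) (by omega) (by omega)
      rwa [Nat.sub_zero, show p - 1 = d by omega] at this
  set l := (p - 1) / d with hl
  set i := (p - 1) % d with hi
  have hdl : d * l + i = p - 1 := Nat.div_add_mod _ _
  have hid : i < d := Nat.mod_lt _ (by omega)
  have hl2 : 2 ≤ l := (Nat.le_div_iff_mul_le (by omega)).mpr (by omega)
  have hil : 2 * (i + l) ≤ p + 1 := by
    obtain ⟨e, he⟩ := Nat.exists_eq_add_of_le (show 2 ≤ d by omega)
    rw [he] at hdl hid
    have h2 : e * 1 ≤ e * l := Nat.mul_le_mul_left e (by omega)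
    have h3 : 2 * l + e * l + i = p - 1 := by rw [← hdl]; ring
    omega
  have hz := sum_mixed_eq_zero σ C hC (i := i) (l := l) (by omega) (by omega)
  have hnd : (X ^ i * f ^ l).natDegree = p - 1 := by
    rw [natDegree_mul (pow_ne_zero _ X_ne_zero) (pow_ne_zero _ hf0), natDegree_X_pow, natDegree_pow,
      ← hd, mul_comm l, add_comm, hdl]
  have h5 := sum_eval_eq_neg_coeff (X ^ i * f ^ l) (by rw [hnd]; omega)
  simp only [eval_mul, eval_pow, eval_X, hfeval, hz] at h5
  have h6 : (X ^ i * f ^ l).coeff (p - 1) = f.coeff d ^ l := by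
    rw [← hnd]
    show (X ^ i * f ^ l).leadingCoeff = _
    rw [leadingCoeff_mul, leadingCoeff_X_pow, leadingCoeff_pow, one_mul]
    rfl
  rw [h6] at h5
  exact pow_ne_zero l hlc (neg_eq_zero.mp h5.symm)

end CfsgLib.PrimRecog
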