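import Mathlib

/-! Which 2-elements of a symmetric group lie in a single Sylow 2-subgroup. -/
set_option autoImplicit false

namespace CfsgLib.PrimRecog.SymSylowUnique

open Equiv Equiv.Perm

universe u

variable {α : Type u} [Fintype α] [DecidableEq α]

/-- A pairing of the points: an involution with at most one fixed point. -/
def Pairing (τ : Perm α) : Prop :=
  (∀ a, τ (τ a) = a) ∧ ∀ a b, τ a = a → τ b = b → a = b

/-- The period of a point. -/
noncomputable def per (x : Perm α) (a : α) : ℕ := orderOf (x.cycleOf a)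

lemma pow_apply_eq_iff (x : Perm α) (a : α) (k : ℕ) : (x ^ k) a = a ↔ per x a ∣ k := by
  rw [per, ← cycleOf_pow_apply_self, orderOf_dvd_iff_pow_eq_one]
  refine ⟨fun h => ?_, fun h => by rw [h]; rfl⟩
  by_cases hx : x a = a
  · rw [(cycleOf_eq_one_iff x).mpr hx, one_pow]
  · exact ((isCycle_cycleOf x hx).pow_eq_one_iff' (by rwa [cycleOf_apply_self])).mpr h

lemma per_eq_one_iff (x : Perm α) (a : α) : per x a = 1 ↔ x a = a := by
  rw [← Nat.dvd_one, ← pow_apply_eq_iff, pow_one]

lemma per_eq_of_iff (x : Perm α) {a b : α} (h : ∀ k, per x a ∣ k ↔ per x b ∣ k) : per x a = per x b :=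
  Nat.dvd_antisymm ((h _).mpr dvd_rfl) ((h _).mp dvd_rfl)

lemma per_eq_of_iff' {β : Type*} [Fintype β] [DecidableEq β] {x : Perm α} {y : Perm β} {a : α} {b : β}
    (h : ∀ k, per x a ∣ k ↔ per y b ∣ k) : per x a = per y b :=
  Nat.dvd_antisymm ((h _).mpr dvd_rfl) ((h _).mp dvd_rfl)

lemma two_dvd_per {x : Perm α} (hx : ∃ k, orderOf x = 2 ^ k) {a : α} (ha : x a ≠ a) : 2 ∣ per x a := by
  obtain ⟨k, hk⟩ := hx
  have : per x a ∣ 2 ^ k := by rw [← hk, ← pow_apply_eq_iff, pow_orderOf_eq_one]; rfl
  obtain ⟨j, -, hj⟩ := (Nat.dvd_prime_pow Nat.prime_two).mp this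
  rw [hj]
  rcases j with _ | j
  · exact absurd ((per_eq_one_iff x a).mp (by rw [hj, pow_zero])) ha
  · exact dvd_pow_self 2 (Nat.succ_ne_zero j)

lemma apply_pow_comm {τ x : Perm α} (h : Commute τ x) (k : ℕ) (a : α) : τ ((x ^ k) a) = (x ^ k) (τ a) := by
  rw [← Perm.mul_apply, (h.pow_right k).eq, Perm.mul_apply]

lemma per_apply {τ x : Perm α} (h : Commute τ x) (a : α) : per x (τ a) = per x a :=
  per_eq_of_iff x fun k => by
    rw [← pow_apply_eq_iff, ← pow_apply_eq_iff, ← apply_pow_comm h, τ.injective.eq_iff]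

/-- A moved point is fixed by no power below its period: the partner is the half turn. -/
lemma pair_iff {x τ : Perm α} (hc : Commute τ x) (h2 : ∀ b, τ (τ b) = b) {a : α} (hne : τ a ≠ a)
    (hsame : x.SameCycle a (τ a)) (k : ℕ) :
    ((x ^ k) a = a ∨ (x ^ k) a = τ a) ↔ per x a ∣ 2 * k := by
  obtain ⟨j, hj⟩ := hsame.exists_nat_pow_eq
  rw [← hj, ← pow_apply_eq_iff]
  have hjj : per x a ∣ 2 * j := by
    rw [← pow_apply_eq_iff, two_mul, pow_add, Perm.mul_apply, hj, ← apply_pow_comm hc, hj, h2]
  have hj0 : ¬ per x a ∣ j := fun h => hne (hj ▸ (pow_apply_eq_iff x a j).mpr h)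
  constructor
  · rintro (h | h)
    · rw [two_mul, pow_add, Perm.mul_apply, h, h]
    · rw [hj] at h
      rw [two_mul, pow_add, Perm.mul_apply, h, ← apply_pow_comm hc, h, h2]
  · intro h
    rw [pow_apply_eq_iff] at h
    by_cases hk : per x a ∣ k
    · exact Or.inl ((pow_apply_eq_iff x a k).mpr hk)
    right
    obtain ⟨p, hp⟩ : ∃ p, p = per x a := ⟨_, rfl⟩
    rw [← hp] at h hjj hj0 hk
    have hppos : 0 < p := hp ▸ orderOf_pos _
    -- both exponents are the half of `p` modulo `p`
    have half : ∀ i, p ∣ 2 * i → ¬ p ∣ i → 2 * (i % p) = p := by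
      intro i hi hi'
      have h1 : p ∣ 2 * (i % p) := (Nat.ModEq.dvd_iff ((Nat.mod_modEq i p).mul_left 2) dvd_rfl).mpr hi
      have h2' : i % p ≠ 0 := fun e => hi' (Nat.dvd_of_mod_eq_zero e)
      have h3 := Nat.mod_lt i hppos
      obtain ⟨c, hc'⟩ := h1
      rcases Nat.lt_or_ge c 2 with hc2 | hc2
      · rcases (by omega : c = 0 ∨ c = 1) with rfl | rfl <;> omega
      · have := Nat.mul_le_mul_left p hc2
        omega
    have e : k % p = j % p := by have := half k h hk; have := half j hjj hj0; omega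
    have hmod : ∀ i, (x ^ i) a = (x ^ (i % p)) a := fun i => by
      conv_lhs => rw [← Nat.mod_add_div i p, pow_add, Perm.mul_apply,
        (pow_apply_eq_iff x a (p * (i / p))).mpr (hp ▸ dvd_mul_right p _)]
    rw [hmod k, e, ← hmod j]

/-! ## The pairs -/

/-- The pairs of an involution. -/
def pairSetoid (τ : Perm α) (hτ : ∀ a, τ (τ a) = a) : Setoid α where
  r a b := b = a ∨ b = τ a
  iseqv := ⟨fun a => Or.inl rfl,
    fun {a b} h => by rcases h with rfl | rfl; exacts [Or.inl rfl, Or.inr (hτ a).symm],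
    fun {a b c} h h' => by
      rcases h with rfl | rfl
      · exact h'
      · rcases h' with rfl | rfl
        exacts [Or.inr rfl, Or.inl (hτ a)]⟩

/-- The type of pairs. -/
abbrev Pairs (τ : Perm α) (hτ : ∀ a, τ (τ a) = a) : Type u := Quotient (pairSetoid τ hτ)

noncomputable instance pairsFintype (τ : Perm α) (hτ : ∀ a, τ (τ a) = a) : Fintype (Pairs τ hτ) :=
  Fintype.ofFinite _

noncomputable instance pairsDecEq (τ : Perm α) (hτ : ∀ a, τ (τ a) = a) : DecidableEq (Pairs τ hτ) :=
  Classical.decEq _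

/-- The map induced on pairs by an element commuting with `τ`. -/
def pairMap (τ : Perm α) (hτ : ∀ a, τ (τ a) = a) (g : Subgroup.centralizer ({τ} : Set (Perm α))) :
    Pairs τ hτ → Pairs τ hτ :=
  Quotient.map g.1 (by
    intro a b h
    have hg : g.1 * τ = τ * g.1 := Subgroup.mem_centralizer_singleton_iff.mp g.2
    rcases h with rfl | rfl
    · exact Or.inl rfl
    · refine Or.inr ?_
      rw [← Perm.mul_apply, hg, Perm.mul_apply])

/-- The action of the centralizer of `τ` on its pairs. -/
def onPairs (τ : Perm α) (hτ : ∀ a, τ (τ a) = a) :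
    Subgroup.centralizer ({τ} : Set (Perm α)) →* Perm (Pairs τ hτ) where
  toFun g :=
    { toFun := pairMap τ hτ g
      invFun := pairMap τ hτ g⁻¹
      left_inv := fun q => Quotient.inductionOn q fun a => congrArg (Quotient.mk _) (by simp)
      right_inv := fun q => Quotient.inductionOn q fun a => congrArg (Quotient.mk _) (by simp) }
  map_one' := Equiv.ext fun q => Quotient.inductionOn q fun _ => rfl
  map_mul' _ _ := Equiv.ext fun q => Quotient.inductionOn q fun _ => rfl

variable {τ : Perm α} {hτ : ∀ a, τ (τ a) = a}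

lemma onPairs_mk (g : Subgroup.centralizer ({τ} : Set (Perm α))) (a : α) :
    onPairs τ hτ g (Quotient.mk _ a) = Quotient.mk _ (g.1 a) := rfl

lemma onPairs_pow_mk (g : Subgroup.centralizer ({τ} : Set (Perm α))) (k : ℕ) (a : α) :
    (onPairs τ hτ g ^ k) (Quotient.mk _ a) = Quotient.mk _ ((g.1 ^ k) a) := by
  rw [← map_pow, onPairs_mk, SubmonoidClass.coe_pow]

lemma mk_eq_iff {a b : α} : (Quotient.mk _ b : Pairs τ hτ) = Quotient.mk _ a ↔ b = a ∨ b = τ a :=
  ⟨fun h => Quotient.exact h.symm, fun h => (Quotient.sound (show (pairSetoid τ hτ).r a b from h)).symm⟩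

lemma isPGroup_ker : IsPGroup 2 (onPairs τ hτ).ker := by
  intro g
  refine ⟨1, Subtype.ext (Subtype.ext (Equiv.ext fun a => ?_))⟩
  have hg : g.1.1 * τ = τ * g.1.1 := Subgroup.mem_centralizer_singleton_iff.mp g.1.2
  have hk := congrArg (fun p : Perm (Pairs τ hτ) => p (Quotient.mk _ a)) (MonoidHom.mem_ker.mp g.2)
  simp only [Perm.one_apply, onPairs_mk, mk_eq_iff] at hk
  show (g.1.1 ^ (2 ^ 1)) a = a
  rw [pow_one, pow_two, Perm.mul_apply]
  rcases hk with h | h
  · rw [h, h]
  · rw [h, ← Perm.mul_apply, hg, Perm.mul_apply, h, hτ]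

/-- The centralizer of a pairing has odd index. -/
lemma odd_index (hpair : Pairing τ) : ¬ 2 ∣ (Subgroup.centralizer ({τ} : Set (Perm α))).index := by
  have hfix : Fintype.card α ≤ τ.support.card + 1 := by
    have h : τ.supportᶜ.card ≤ 1 := Finset.card_le_one.mpr fun a ha b hb => hpair.2 a b
      (notMem_support.mp (Finset.mem_compl.mp ha)) (notMem_support.mp (Finset.mem_compl.mp hb))
    rw [Finset.card_compl] at h
    omega
  have hct : τ.cycleType = Multiset.replicate τ.cycleType.card 2 := by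
    refine Multiset.eq_replicate.mpr ⟨rfl, fun c hc => ?_⟩
    have h2 := two_le_of_mem_cycleType hc
    have hd : c ∣ orderOf τ := lcm_cycleType τ ▸ Multiset.dvd_lcm hc
    have ho : orderOf τ ∣ 2 := orderOf_dvd_of_pow_eq_one (by
      rw [pow_two]; exact Equiv.ext fun a => hpair.1 a)
    have := Nat.le_of_dvd two_pos (hd.trans ho)
    omega
  obtain ⟨m, hm⟩ : ∃ m, m = τ.cycleType.card := ⟨_, rfl⟩
  rw [← hm] at hct
  have hsum : τ.support.card = 2 * m := by
    rw [← sum_cycleType, hct, Multiset.sum_replicate, smul_eq_mul, mul_comm]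
  obtain ⟨e, he, hen⟩ : ∃ e ≤ 1, Fintype.card α = 2 * m + e :=
    ⟨Fintype.card α - 2 * m, by omega, by have := Finset.card_le_univ τ.support; omega⟩
  have hC : Nat.card (Subgroup.centralizer ({τ} : Set (Perm α))) = 2 ^ m * m.factorial := by
    rw [Equiv.Perm.nat_card_centralizer, hct, Multiset.sum_replicate, Multiset.prod_replicate, smul_eq_mul,
      hen]
    rcases Nat.eq_zero_or_pos m with rfl | hmpos
    · interval_cases e <;> simp
    · rw [Multiset.toFinset_replicate, if_neg hmpos.ne', Finset.prod_singleton, Multiset.count_replicate_self,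
        show 2 * m + e - m * 2 = e by omega]
      interval_cases e <;> simp
  have hidx := Subgroup.card_mul_index (Subgroup.centralizer ({τ} : Set (Perm α)))
  rw [hC, Nat.card_perm, Nat.card_eq_fintype_card, hen] at hidx
  intro hdvd
  haveI : Fact (Nat.Prime 2) := ⟨Nat.prime_two⟩
  have h1 : padicValNat 2 (2 * m + e).factorial = padicValNat 2 m.factorial + m := by
    rw [padicValNat_factorial_mul_add m (by omega), padicValNat_factorial_mul]
  have hi0 : (Subgroup.centralizer ({τ} : Set (Perm α))).index ≠ 0 := Subgroup.index_ne_zero_of_finite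
  rw [← hidx, padicValNat.mul (mul_ne_zero (by simp) (Nat.factorial_ne_zero m)) hi0,
    padicValNat.mul (by simp) (Nat.factorial_ne_zero m), padicValNat.prime_pow] at h1
  have := one_le_padicValNat_of_dvd hi0 hdvd
  omega

/-! ## Sylow subgroups and pairings -/

lemma sylow_le_centralizer_of_odd {G : Type*} [Group G] [Finite G] (C : Subgroup G) (hC : ¬ 2 ∣ C.index)
    (Q : Subgroup G) (hQ : IsPGroup 2 Q) (hQC : Q ≤ C) : ∃ P : Sylow 2 G, Q ≤ P ∧ (P : Subgroup G) ≤ C := by
  haveI : Fact (Nat.Prime 2) := ⟨Nat.prime_two⟩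
  obtain ⟨S, hS⟩ := (hQ.comap_subtype (K := C)).exists_le_sylow
  have hS' : IsPGroup 2 ((S : Subgroup C).map C.subtype) := S.2.map _
  have hidx : ¬ 2 ∣ ((S : Subgroup C).map C.subtype).index := by
    rw [Subgroup.index_map_subtype]
    exact Nat.prime_two.not_dvd_mul S.not_dvd_index hC
  refine ⟨hS'.toSylow hidx, fun q hq => ?_, Subgroup.map_subtype_le _⟩
  exact ⟨⟨q, hQC hq⟩, hS hq, rfl⟩

lemma exists_pairing : ∀ (s : Finset α), ∃ τ : Perm α, (∀ a, τ (τ a) = a) ∧ (∀ a ∉ s, τ a = a) ∧
    ∀ a b, a ∈ s → b ∈ s → τ a = a → τ b = b → a = b := by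
  intro s
  induction s using Finset.strongInduction with
  | _ s ih =>
    by_cases h : 1 < s.card
    · obtain ⟨u, hu, v, hv, huv⟩ := Finset.one_lt_card.mp h
      obtain ⟨τ, h2, hout, hfix⟩ := ih ((s.erase u).erase v)
        ((Finset.erase_subset _ _).trans_ssubset (Finset.erase_ssubset hu))
      have hu' : τ u = u := hout u (by simp)
      have hv' : τ v = v := hout v (by simp)
      refine ⟨τ * swap u v, fun a => ?_, fun a ha => ?_, fun a b ha hb ea eb => ?_⟩
      · have hcm : τ * swap u v = swap u v * τ := by rw [Equiv.mul_swap_eq_swap_mul, hu', hv']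
        have : (τ * swap u v) * (τ * swap u v) = 1 := by
          calc (τ * swap u v) * (τ * swap u v) = (τ * swap u v) * (swap u v * τ) := by rw [hcm]
            _ = τ * τ := by rw [mul_assoc, ← mul_assoc (swap u v), swap_mul_self, one_mul]
            _ = 1 := Equiv.ext h2
        exact congrArg (fun p : Perm α => p a) this
      · rw [Perm.mul_apply, swap_apply_of_ne_of_ne (fun e => ha (by rw [e]; exact hu)) (fun e => ha (by rw [e]; exact hv))]
        exact hout a (fun h => ha (Finset.mem_of_mem_erase (Finset.mem_of_mem_erase h)))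
      · have key : ∀ c, (τ * swap u v) c = c → c ≠ u ∧ c ≠ v := fun c hc => by
          constructor <;> rintro rfl
          · rw [Perm.mul_apply, swap_apply_left, hv'] at hc; exact huv hc.symm
          · rw [Perm.mul_apply, swap_apply_right, hu'] at hc; exact huv hc
        obtain ⟨a1, a2⟩ := key a ea
        obtain ⟨b1, b2⟩ := key b eb
        rw [Perm.mul_apply, swap_apply_of_ne_of_ne a1 a2] at ea
        rw [Perm.mul_apply, swap_apply_of_ne_of_ne b1 b2] at eb
        exact hfix a b (by simp [a1, a2, ha]) (by simp [b1, b2, hb]) ea eb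
    · exact ⟨1, fun a => rfl, fun a _ => rfl, fun a b ha hb _ _ => Finset.card_le_one.mp (by omega) a ha b hb⟩

lemma sylow_pairing (P : Sylow 2 (Perm α)) :
    ∃ τ : Perm α, Pairing τ ∧ (P : Subgroup (Perm α)) ≤ Subgroup.centralizer {τ} := by
  haveI : Fact (Nat.Prime 2) := ⟨Nat.prime_two⟩
  obtain ⟨τ₀, h2, -, hfix⟩ := exists_pairing (Finset.univ : Finset α)
  have hp : Pairing τ₀ := ⟨h2, fun a b => hfix a b (Finset.mem_univ _) (Finset.mem_univ _)⟩
  obtain ⟨P₀, -, hP₀⟩ := sylow_le_centralizer_of_odd _ (odd_index hp) ⊥ IsPGroup.of_bot bot_le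
  obtain ⟨g, rfl⟩ := MulAction.exists_smul_eq (Perm α) P₀ P
  refine ⟨g * τ₀ * g⁻¹, ⟨fun a => ?_, fun a b ha hb => ?_⟩, fun q hq => ?_⟩
  · simp [h2]
  · have h : ∀ c, (g * τ₀ * g⁻¹) c = c → τ₀ (g⁻¹ c) = g⁻¹ c := fun c hc => by
      apply g.injective
      rw [Perm.mul_apply, Perm.mul_apply] at hc
      rw [hc]; simp
    exact g⁻¹.injective (hp.2 _ _ (h a ha) (h b hb))
  · rw [Sylow.coe_subgroup_smul, Subgroup.mem_pointwise_smul_iff_inv_smul_mem, ← map_inv,
      MulAut.smul_def, MulAut.conj_apply, inv_inv] at hq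
    have := Subgroup.mem_centralizer_singleton_iff.mp (hP₀ hq)
    rw [Subgroup.mem_centralizer_singleton_iff]
    calc q * (g * τ₀ * g⁻¹) = g * ((g⁻¹ * q * g) * τ₀) * g⁻¹ := by group
      _ = g * (τ₀ * (g⁻¹ * q * g)) * g⁻¹ := by rw [this]
      _ = g * τ₀ * g⁻¹ * q := by group

lemma ker_map_le (hpair : Pairing τ) (P : Sylow 2 (Perm α))
    (hP : (P : Subgroup (Perm α)) ≤ Subgroup.centralizer {τ}) :
    (onPairs τ hpair.1).ker.map (Subgroup.subtype _) ≤ P := by
  have h : IsPGroup 2 (((P : Subgroup (Perm α)).subgroupOf _ ⊔ (onPairs τ hpair.1).ker :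
      Subgroup (Subgroup.centralizer ({τ} : Set (Perm α))))) :=
    (P.2.comap_subtype).to_sup_of_normal_right isPGroup_ker
  have h' := P.3 (h.map (Subgroup.subtype _)) (fun q hq => ⟨⟨q, hP hq⟩, Subgroup.mem_sup_left hq, rfl⟩)
  exact (Subgroup.map_mono le_sup_right).trans h'.le

lemma swap_mem_sylow (hpair : Pairing τ) (P : Sylow 2 (Perm α))
    (hP : (P : Subgroup (Perm α)) ≤ Subgroup.centralizer {τ}) (a : α) : swap a (τ a) ∈ P := by
  have hc : swap a (τ a) ∈ Subgroup.centralizer ({τ} : Set (Perm α)) := by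
    rw [Subgroup.mem_centralizer_singleton_iff, Equiv.mul_swap_eq_swap_mul, hpair.1, Equiv.swap_comm]
  refine ker_map_le hpair P hP ⟨⟨_, hc⟩, MonoidHom.mem_ker.mpr (Equiv.ext fun q => ?_), rfl⟩
  induction q using Quotient.inductionOn with
  | _ b =>
    rw [onPairs_mk, Perm.one_apply, mk_eq_iff]
    rcases eq_or_ne b a with rfl | hba
    · exact Or.inr (swap_apply_left _ _)
    rcases eq_or_ne b (τ a) with rfl | hbt
    · exact Or.inr (by rw [swap_apply_right, hpair.1])
    · exact Or.inl (swap_apply_of_ne_of_ne hba hbt)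

lemma onPairs_surjective (hfpf : ∀ a, τ a ≠ a) : Function.Surjective (onPairs τ hτ) := by
  classical
  intro σ
  let sec : Pairs τ hτ → α := fun q => q.out
  have hsec : ∀ q, Quotient.mk _ (sec q) = q := fun q => q.out_eq
  let f : Perm (Pairs τ hτ) → α → α := fun σ a =>
    if a = sec (Quotient.mk _ a) then sec (σ (Quotient.mk _ a)) else τ (sec (σ (Quotient.mk _ a)))
  have hcl : ∀ (σ : Perm (Pairs τ hτ)) a, Quotient.mk _ (f σ a) = σ (Quotient.mk _ a) := by
    intro σ a
    simp only [f]
    split_ifs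
    · exact hsec _
    · exact (mk_eq_iff.mpr (Or.inr rfl)).trans (hsec _)
  have hflip : ∀ q, τ (sec q) ≠ sec q := fun q => hfpf _
  have hfcomm : ∀ (σ : Perm (Pairs τ hτ)) a, f σ (τ a) = τ (f σ a) := by
    intro σ a
    have e : (Quotient.mk _ (τ a) : Pairs τ hτ) = Quotient.mk _ a := mk_eq_iff.mpr (Or.inr rfl)
    simp only [f, e]
    rcases mk_eq_iff.mp (hsec (Quotient.mk _ a)) with h | h
    · rw [if_pos h.symm, if_neg]
      rw [h]; exact hfpf a
    · rw [if_pos h.symm, if_neg, hτ]
      rw [h]; exact (hfpf a).symm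
  have hinv : ∀ (σ : Perm (Pairs τ hτ)) a, f σ⁻¹ (f σ a) = a := by
    intro σ a
    have h1 : f σ⁻¹ (sec (σ (Quotient.mk _ a))) = sec (Quotient.mk _ a) := by
      simp only [f, hsec, Perm.coe_inv, Equiv.symm_apply_apply, if_true]
    by_cases ha : a = sec (Quotient.mk _ a)
    · show f σ⁻¹ (if _ then _ else _) = a
      rw [if_pos ha, h1]
      exact ha.symm
    · show f σ⁻¹ (if _ then _ else _) = a
      rw [if_neg ha, hfcomm, h1]
      rcases mk_eq_iff.mp (hsec (Quotient.mk _ a)) with h | h
      · exact absurd h.symm ha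
      · rw [h, hτ]
  let g : Perm α := ⟨f σ, f σ⁻¹, hinv σ, fun a => by simpa using hinv σ⁻¹ a⟩
  have hg : g ∈ Subgroup.centralizer ({τ} : Set (Perm α)) :=
    Subgroup.mem_centralizer_singleton_iff.mpr (Equiv.ext fun a => hfcomm σ a)
  exact ⟨⟨g, hg⟩, Equiv.ext fun q => Quotient.inductionOn q fun a => (onPairs_mk _ a).trans (hcl σ a)⟩

/-- The pairing of a Sylow 2-subgroup is unique. -/
lemma pairing_unique {τ' : Perm α} (hpair : Pairing τ) (hpair' : Pairing τ') (P : Sylow 2 (Perm α))
    (hP : (P : Subgroup (Perm α)) ≤ Subgroup.centralizer {τ})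
    (hP' : (P : Subgroup (Perm α)) ≤ Subgroup.centralizer {τ'}) : τ = τ' := by
  have h3 : ∀ a b c : α, a ≠ b → a ≠ c → b ≠ c → swap a b ∈ P → swap a c ∉ P := by
    intro a b c hab hac hbc h1 h2
    obtain ⟨k, hk⟩ := P.2 ⟨_, mul_mem h1 h2⟩
    have h' : (swap a b * swap a c) ^ (2 ^ k) = 1 := congrArg Subtype.val hk
    have := orderOf_dvd_of_pow_eq_one h'
    rw [(isThreeCycle_swap_mul_swap_same hab hac hbc).orderOf] at this
    exact absurd (Nat.prime_three.dvd_of_dvd_pow this) (by decide)
  have key : ∀ a, τ a ≠ a → τ' a ≠ a → τ a = τ' a := by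
    intro a h h'
    by_contra hne
    exact h3 a (τ a) (τ' a) (Ne.symm h) (Ne.symm h') hne (swap_mem_sylow hpair P hP a) (swap_mem_sylow hpair' P hP' a)
  refine Equiv.ext fun a => ?_
  by_cases h : τ a = a <;> by_cases h' : τ' a = a
  · rw [h, h']
  · -- the partner of `a` is then fixed by neither
    exfalso
    have hb : τ (τ' a) ≠ τ' a := fun e => h' (hpair.2 _ _ e h)
    have e := key (τ' a) hb (fun e => h' (τ'.injective e))
    rw [hpair'.1] at e
    have := congrArg τ e
    rw [hpair.1, h] at this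
    exact h' this
  · exfalso
    have hb : τ' (τ a) ≠ τ a := fun e => h (hpair'.2 _ _ e h')
    have e := key (τ a) (fun e => h (τ.injective e)) hb
    rw [hpair.1] at e
    have := congrArg τ' e
    rw [hpair'.1, h'] at this
    exact h this.symm
  · exact key a h h'

/-- At most two fixed points, and points of the same period above one are in one cycle. -/
def Cond (x : Perm α) : Prop :=
  (∀ a b c, x a = a → x b = b → x c = c → a = b ∨ a = c ∨ b = c) ∧
    ∀ a b, x a ≠ a → x b ≠ b → per x a = per x b → x.SameCycle a b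

lemma sameCycle_partner {x : Perm α} (hcond : ∀ a b, x a ≠ a → x b ≠ b → per x a = per x b → x.SameCycle a b)
    (hpair : Pairing τ) (hc : Commute τ x) {a : α} (ha : x a ≠ a) : τ a ≠ a ∧ x.SameCycle a (τ a) := by
  refine ⟨fun e => ha (hpair.2 _ _ ?_ e), hcond a (τ a) ha (fun e => ha ?_) (per_apply hc a).symm⟩
  · rw [← Perm.mul_apply, hc.eq, Perm.mul_apply, e]
  · apply τ.injective
    rw [← Perm.mul_apply, hc.eq, Perm.mul_apply]
    exact e

lemma pairing_unique_of_cond {x τ' : Perm α} (hcond : Cond x) (hpair : Pairing τ) (hpair' : Pairing τ')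
    (hc : Commute τ x) (hc' : Commute τ' x) : τ = τ' := by
  refine Equiv.ext fun a => ?_
  by_cases ha : x a = a
  · have hfix : ∀ σ : Perm α, Commute σ x → ∀ c, x c = c → x (σ c) = σ c := fun σ hσ c hc0 => by
      rw [← Perm.mul_apply, ← hσ.eq, Perm.mul_apply, hc0]
    have := hcond.1 a (τ a) (τ' a) ha (hfix _ hc a ha) (hfix _ hc' a ha)
    rcases this with h | h | h
    · by_contra hne
      have hb := hfix _ hc' a ha
      rcases hcond.1 a (τ' a) (τ (τ' a)) ha hb (hfix _ hc _ hb) with h' | h' | h'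
      · exact hne (h.symm.trans h')
      · have := congrArg τ h'
        rw [hpair.1, ← h] at this
        exact hne (h.symm.trans this)
      · exact hne (h.symm.trans (hpair.2 _ _ h.symm h'.symm))
    · by_contra hne
      have hb := hfix _ hc a ha
      rcases hcond.1 a (τ a) (τ' (τ a)) ha hb (hfix _ hc' _ hb) with h' | h' | h'
      · exact hne (h'.symm.trans h)
      · have := congrArg τ' h'
        rw [hpair'.1, ← h] at this
        exact hne (this.symm.trans h)
      · exact hne ((hpair'.2 _ _ h.symm h'.symm).symm.trans h)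
    · exact h
  · obtain ⟨hn, hs⟩ := sameCycle_partner hcond.2 hpair hc ha
    obtain ⟨hn', hs'⟩ := sameCycle_partner hcond.2 hpair' hc' ha
    obtain ⟨j, hj⟩ := hs'.exists_nat_pow_eq
    have h2 : per x a ∣ 2 * j := (pair_iff hc' hpair'.1 hn' hs' j).mp (Or.inr hj)
    rcases (pair_iff hc hpair.1 hn hs j).mpr h2 with h | h
    · exact absurd (hj.symm.trans h) hn'
    · rw [← h, hj]

/-- The image on pairs: periods halve. -/
lemma pairs_pow_eq_iff (hpair : Pairing τ) (g : Subgroup.centralizer ({τ} : Set (Perm α))) {a : α}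
    (hn : τ a ≠ a) (hs : g.1.SameCycle a (τ a)) (k : ℕ) :
    (onPairs τ hpair.1 g ^ k) (Quotient.mk _ a) = Quotient.mk _ a ↔ per g.1 a ∣ 2 * k := by
  rw [onPairs_pow_mk, mk_eq_iff]
  exact pair_iff (Subgroup.mem_centralizer_singleton_iff.mp g.2).symm hpair.1 hn hs k

lemma cond_pairs (hpair : Pairing τ) (g : Subgroup.centralizer ({τ} : Set (Perm α)))
    (hx : ∃ k, orderOf g.1 = 2 ^ k) (hcond : Cond g.1) : Cond (onPairs τ hpair.1 g) := by
  have hc : Commute τ g.1 := (Subgroup.mem_centralizer_singleton_iff.mp g.2).symm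
  constructor
  · intro p q r
    induction p using Quotient.inductionOn with | _ a => ?_
    induction q using Quotient.inductionOn with | _ b => ?_
    induction r using Quotient.inductionOn with | _ c => ?_
    intro ha hb hc'
    rw [onPairs_mk, mk_eq_iff] at ha hb hc'
    -- two of them are of the same kind
    have key : ∀ u v, (g.1 u = u ∨ g.1 u = τ u) → (g.1 v = v ∨ g.1 v = τ v) → (g.1 u = u ↔ g.1 v = v) →
        (Quotient.mk _ u : Pairs τ hpair.1) = Quotient.mk _ v := by
      intro u v hu hv huv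
      rw [mk_eq_iff]
      by_cases h : g.1 u = u
      · have hv' := huv.mp h
        have ht : g.1 (τ v) = τ v := by rw [← Perm.mul_apply, ← hc.eq, Perm.mul_apply, hv']
        rcases hcond.1 u v (τ v) h hv' ht with e | e | e
        · exact Or.inl e
        · exact Or.inr e
        · have htu : g.1 (τ u) = τ u := by rw [← Perm.mul_apply, ← hc.eq, Perm.mul_apply, h]
          rcases hcond.1 v u (τ u) hv' h htu with e' | e' | e'
          · exact Or.inl e'.symm
          · exact Or.inr (by rw [e', hpair.1])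
          · exact Or.inl (hpair.2 _ _ e'.symm e.symm)
      · have h' : g.1 v ≠ v := fun e => h (huv.mpr e)
        have p2 : ∀ w, g.1 w ≠ w → g.1 w = τ w → per g.1 w = 2 := by
          intro w hw1 hw2
          refine Nat.dvd_antisymm ?_ (two_dvd_per hx hw1)
          rw [← pow_apply_eq_iff, pow_two, Perm.mul_apply, hw2, ← Perm.mul_apply, ← hc.eq, Perm.mul_apply, hw2,
            hpair.1]
        have hu' := hu.resolve_left h
        have hv' := hv.resolve_left h'
        obtain ⟨j, hj⟩ := (hcond.2 v u h' h (by rw [p2 u h hu', p2 v h' hv'])).exists_nat_pow_eq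
        obtain ⟨hn, hs⟩ := sameCycle_partner hcond.2 hpair hc h'
        have h2 : per g.1 v ∣ 2 * j := by rw [p2 v h' hv']; exact dvd_mul_right 2 j
        rcases (pair_iff hc hpair.1 hn hs j).mpr h2 with e | e
        · exact Or.inl (hj.symm.trans e)
        · exact Or.inr (hj.symm.trans e)
    by_cases AB : g.1 a = a ↔ g.1 b = b
    · exact Or.inl (key a b ha hb AB)
    by_cases AC : g.1 a = a ↔ g.1 c = c
    · exact Or.inr (Or.inl (key a c ha hc' AC))
    exact Or.inr (Or.inr (key b c hb hc' (by tauto)))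
  · intro p q
    induction p using Quotient.inductionOn with | _ a => ?_
    induction q using Quotient.inductionOn with | _ b => ?_
    intro ha hb hab
    rw [onPairs_mk, ne_eq, mk_eq_iff, not_or] at ha hb
    obtain ⟨hna, hsa⟩ := sameCycle_partner hcond.2 hpair hc ha.1
    obtain ⟨hnb, hsb⟩ := sameCycle_partner hcond.2 hpair hc hb.1
    obtain ⟨r, hr⟩ := two_dvd_per hx ha.1
    obtain ⟨s, hs⟩ := two_dvd_per hx hb.1
    have e : ∀ k, per g.1 a ∣ 2 * k ↔ per g.1 b ∣ 2 * k := fun k => by
      rw [← pairs_pow_eq_iff hpair g hna hsa, ← pairs_pow_eq_iff hpair g hnb hsb, pow_apply_eq_iff,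
        pow_apply_eq_iff, hab]
    have hpab : per g.1 a = per g.1 b := Nat.dvd_antisymm
      (by rw [hs]; exact (e s).mpr (hs ▸ dvd_rfl)) (by rw [hr]; exact (e r).mp (hr ▸ dvd_rfl))
    obtain ⟨j, hj⟩ := (hcond.2 a b ha.1 hb.1 hpab).exists_nat_pow_eq
    exact ⟨(j : ℤ), by rw [zpow_natCast, onPairs_pow_mk, hj]⟩

lemma card_pairs_lt {a : α} (ha : τ a ≠ a) : Nat.card (Pairs τ hτ) < Fintype.card α := by
  rw [Nat.card_eq_fintype_card]
  refine Fintype.card_lt_of_surjective_not_injective _ (Quotient.mk_surjective) fun hinj => ha ?_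
  exact hinj ((mk_eq_iff (hτ := hτ)).mpr (Or.inr rfl))

lemma orderOf_onPairs (g : Subgroup.centralizer ({τ} : Set (Perm α))) (hx : ∃ k, orderOf g.1 = 2 ^ k) :
    ∃ k, orderOf (onPairs τ hτ g) = 2 ^ k := by
  obtain ⟨k, hk⟩ := hx
  have : orderOf (onPairs τ hτ g) ∣ 2 ^ k := hk ▸ by rw [Subgroup.orderOf_coe]; exact orderOf_map_dvd _ g
  obtain ⟨j, -, hj⟩ := (Nat.dvd_prime_pow Nat.prime_two).mp this
  exact ⟨j, hj⟩

/-- Under the condition at most one Sylow 2-subgroup contains the element. -/
theorem unique_of_cond : ∀ (n : ℕ) {α : Type u} [Fintype α] [DecidableEq α], Fintype.card α ≤ n →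
    ∀ x : Perm α, (∃ k, orderOf x = 2 ^ k) → Cond x → ∀ P P' : Sylow 2 (Perm α), x ∈ P → x ∈ P' → P = P' := by
  intro n
  induction n with
  | zero =>
    intro α _ _ hn x _ _ P P' _ _
    have : IsEmpty α := Fintype.card_eq_zero_iff.mp (by omega)
    exact Sylow.ext (Subgroup.ext fun g => by rw [Subsingleton.elim g 1]; simp [one_mem])
  | succ n ih =>
    intro α _ _ hn x hx hcond P P' hP hP'
    classical
    obtain ⟨τ, hpair, hPC⟩ := sylow_pairing P
    obtain ⟨τ', hpair', hPC'⟩ := sylow_pairing P'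
    have hxC := hPC hP
    obtain rfl : τ = τ' := pairing_unique_of_cond hcond hpair hpair'
      (Subgroup.mem_centralizer_singleton_iff.mp hxC).symm
      (Subgroup.mem_centralizer_singleton_iff.mp (hPC' hP')).symm
    by_cases hone : ∀ a, τ a = a
    · have : Subsingleton α := ⟨fun a b => hpair.2 a b (hone a) (hone b)⟩
      exact Sylow.ext (Subgroup.ext fun g => by rw [Subsingleton.elim g 1]; simp [one_mem])
    push Not at hone
    obtain ⟨a, ha⟩ := hone
    have hlt := card_pairs_lt (hτ := hpair.1) ha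
    rw [Nat.card_eq_fintype_card] at hlt
    haveI : Fact (Nat.Prime 2) := ⟨Nat.prime_two⟩
    set φ := onPairs τ hpair.1
    have hsyl : ∀ Q : Sylow 2 (Perm α), (Q : Subgroup (Perm α)) ≤ Subgroup.centralizer {τ} → x ∈ Q →
        ∀ R : Sylow 2 (Perm (Pairs τ hpair.1)), ((Q : Subgroup (Perm α)).subgroupOf _).map φ ≤ R →
          (Q : Subgroup (Perm α)) = ((R : Subgroup _).comap φ).map (Subgroup.subtype _) := by
      intro Q hQ _ R hR
      refine (Q.3 ((R.2.comap_of_ker_isPGroup φ isPGroup_ker).map _) ?_).symm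
      intro q hq
      exact ⟨⟨q, hQ hq⟩, hR ⟨⟨q, hQ hq⟩, hq, rfl⟩, rfl⟩
    obtain ⟨R, hR⟩ := ((P.2.comap_subtype (K := Subgroup.centralizer {τ})).map φ).exists_le_sylow
    obtain ⟨R', hR'⟩ := ((P'.2.comap_subtype (K := Subgroup.centralizer {τ})).map φ).exists_le_sylow
    have hRR : R = R' := ih (by omega) (φ ⟨x, hxC⟩) (orderOf_onPairs _ hx) (cond_pairs hpair ⟨x, hxC⟩ hx hcond)
      R R' (hR ⟨⟨x, hxC⟩, hP, rfl⟩) (hR' ⟨⟨x, hxC⟩, hP', rfl⟩)
    exact Sylow.ext ((hsyl P hPC hP R hR).trans (hRR ▸ (hsyl P' hPC' hP' R' hR').symm))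

/-- An element in only one Sylow 2-subgroup satisfies the condition. -/
theorem cond_of_unique : ∀ (n : ℕ) {α : Type u} [Fintype α] [DecidableEq α], Fintype.card α ≤ n →
    ∀ x : Perm α, (∃ k, orderOf x = 2 ^ k) → (∃! P : Sylow 2 (Perm α), x ∈ P) → Cond x := by
  intro n
  induction n with
  | zero =>
    intro α _ _ hn x _ _
    have : IsEmpty α := Fintype.card_eq_zero_iff.mp (by omega)
    exact ⟨fun a => isEmptyElim a, fun a => isEmptyElim a⟩
  | succ n ih =>
    intro α _ _ hn x hx hu
    classical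
    haveI : Fact (Nat.Prime 2) := ⟨Nat.prime_two⟩
    obtain ⟨P, hP, huniq⟩ := hu
    obtain ⟨τ, hpair, hPC⟩ := sylow_pairing P
    have hxC := hPC hP
    have hc : Commute τ x := (Subgroup.mem_centralizer_singleton_iff.mp hxC).symm
    have hnorm : ∀ g : Perm α, Commute g x → g • P = P := fun g hg => huniq (g • P) (by
      show x ∈ g • P
      rw [← SetLike.mem_coe, Sylow.coe_smul]
      exact Set.mem_smul_set.mpr ⟨x, hP, by rw [MulAut.smul_def, MulAut.conj_apply, hg.eq, mul_inv_cancel_right]⟩)
    have hcomm : ∀ g : Perm α, Commute g x → Commute g τ := by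
      intro g hg
      have h : (P : Subgroup (Perm α)) ≤ Subgroup.centralizer {g * τ * g⁻¹} := by
        intro q hq
        rw [← hnorm g hg, Sylow.coe_subgroup_smul, Subgroup.mem_pointwise_smul_iff_inv_smul_mem,
          ← map_inv, MulAut.smul_def, MulAut.conj_apply, inv_inv] at hq
        have := Subgroup.mem_centralizer_singleton_iff.mp (hPC hq)
        rw [Subgroup.mem_centralizer_singleton_iff]
        calc q * (g * τ * g⁻¹) = g * ((g⁻¹ * q * g) * τ) * g⁻¹ := by group
          _ = g * (τ * (g⁻¹ * q * g)) * g⁻¹ := by rw [this]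
          _ = g * τ * g⁻¹ * q := by group
      have hp' : Pairing (g * τ * g⁻¹) := by
        refine ⟨fun a => by simp [hpair.1], fun a b ha hb => ?_⟩
        have h : ∀ c, (g * τ * g⁻¹) c = c → τ (g⁻¹ c) = g⁻¹ c := fun c hc => by
          apply g.injective
          rw [Perm.mul_apply, Perm.mul_apply] at hc
          rw [hc]; simp
        exact g⁻¹.injective (hpair.2 _ _ (h a ha) (h b hb))
      exact mul_inv_eq_iff_eq_mul.mp (pairing_unique hpair hp' P hPC h).symm
    have hmem : ∀ g : Perm α, Commute g x → (∃ k, orderOf g = 2 ^ k) → g ∈ P := by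
      intro g hg ⟨k, hk⟩
      have hgN : Subgroup.zpowers g ≤ Subgroup.normalizer ((P : Subgroup (Perm α)) : Set (Perm α)) :=
        Subgroup.zpowers_le.mpr (Sylow.smul_eq_iff_mem_normalizer.mp (hnorm g hg))
      have h2 : IsPGroup 2 (Subgroup.zpowers g) := IsPGroup.of_card (n := k) (by rw [Nat.card_zpowers, hk])
      have := P.3 (h2.to_sup_of_normal_right' P.2 hgN) le_sup_right
      exact this.le (Subgroup.mem_sup_left (Subgroup.mem_zpowers g))
    have hfix : ∀ a b c, x a = a → x b = b → x c = c → a = b ∨ a = c ∨ b = c := by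
      intro a b c ha hb hc'
      by_contra hne
      simp only [not_or] at hne
      have hs : ∀ u v, x u = u → x v = v → u ≠ v → swap u v ∈ P := fun u v hu hv huv =>
        hmem _ (by
          show swap u v * x = x * swap u v
          rw [Equiv.mul_swap_eq_swap_mul x u v, hu, hv]) ⟨1, by
            rw [pow_one]; exact (IsSwap.orderOf ⟨u, v, huv, rfl⟩)⟩
      obtain ⟨k, hk⟩ := P.2 ⟨_, mul_mem (hs a b ha hb hne.1) (hs a c ha hc' hne.2.1)⟩
      have h' : (swap a b * swap a c) ^ (2 ^ k) = 1 := congrArg Subtype.val hk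
      have := orderOf_dvd_of_pow_eq_one h'
      rw [(isThreeCycle_swap_mul_swap_same hne.1 hne.2.1 hne.2.2).orderOf] at this
      exact absurd (Nat.prime_three.dvd_of_dvd_pow this) (by decide)
    refine ⟨hfix, fun a b ha hb hab => ?_⟩
    by_cases hfu : ∃ u, τ u = u
    · -- drop the fixed point of the pairing
      obtain ⟨u, hu⟩ := hfu
      have hxu : x u = u := (hpair.2 _ _ hu (by rw [← Perm.mul_apply, hc.eq, Perm.mul_apply, hu])).symm
      let β := {c : α // c ≠ u}
      have hinj : Function.Injective (Perm.ofSubtype : Perm β →* Perm α) := Perm.ofSubtype_injective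
      have hxb : ∀ c, x c ≠ u ↔ c ≠ u := fun c => by
        conv_lhs => rw [← hxu]
        exact x.injective.ne_iff
      let x' : Perm β := x.subtypePerm hxb
      have hxx : Perm.ofSubtype x' = x := Perm.ofSubtype_subtypePerm hxb (fun c hc => fun e => hc (e ▸ hxu))
      have hcardβ : Fintype.card β = Fintype.card α - 1 := by
        rw [Fintype.card_subtype_compl, Fintype.card_subtype_eq]
      have hodd : ¬ 2 ∣ Fintype.card α := by
        intro h2
        have hsupp : τ.support = Finset.univ.erase u := by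
          ext c
          simp only [Perm.mem_support, Finset.mem_erase, Finset.mem_univ, and_true]
          exact ⟨fun h e => h (e ▸ hu), fun h e => h (hpair.2 _ _ e hu)⟩
        have h2' : 2 ∣ τ.support.card := by
          rw [← sum_cycleType]
          refine Multiset.dvd_sum fun c hc' => ?_
          have hd : c ∣ orderOf τ := lcm_cycleType τ ▸ Multiset.dvd_lcm hc'
          have ho : orderOf τ ∣ 2 := orderOf_dvd_of_pow_eq_one (by
            rw [pow_two]; exact Equiv.ext fun d => hpair.1 d)
          have := Nat.le_of_dvd two_pos (hd.trans ho)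
          have := two_le_of_mem_cycleType hc'
          rw [show c = 2 by omega]
        rw [hsupp, Finset.card_erase_of_mem (Finset.mem_univ _), Finset.card_univ] at h2'
        have := Fintype.card_pos_iff.mpr ⟨u⟩
        omega
      have hsyl : ∀ R : Sylow 2 (Perm β), ¬ 2 ∣ ((R : Subgroup (Perm β)).map Perm.ofSubtype).index := by
        intro R h2
        rw [Subgroup.index_map_of_injective _ hinj] at h2
        rcases Nat.prime_two.dvd_mul.mp h2 with h | h
        · exact R.not_dvd_index h
        · refine hodd (h.trans (dvd_of_eq ?_))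
          have : Nonempty α := ⟨u⟩
          have := Subgroup.card_mul_index (Perm.ofSubtype : Perm β →* Perm α).range
          rw [← Nat.card_congr (MonoidHom.ofInjective hinj).toEquiv, Nat.card_perm, Nat.card_perm,
            Nat.card_eq_fintype_card, Nat.card_eq_fintype_card, hcardβ,
            ← Nat.mul_factorial_pred (Fintype.card_ne_zero (α := α)), mul_comm (Fintype.card α)] at this
          exact Nat.eq_of_mul_eq_mul_left (Nat.factorial_pos _) this
      have hu' : ∃! R : Sylow 2 (Perm β), x' ∈ R := by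
        obtain ⟨k, hk⟩ := hx
        have hk' : orderOf x' = 2 ^ k := by rw [← orderOf_injective _ hinj, hxx, hk]
        obtain ⟨R, hR⟩ := (IsPGroup.of_card (n := k)
          (show Nat.card (Subgroup.zpowers x') = 2 ^ k by rw [Nat.card_zpowers, hk'])).exists_le_sylow
        refine ⟨R, hR (Subgroup.mem_zpowers x'), fun R' hR' => Sylow.ext ?_⟩
        have e1 := huniq ((R.2.map _).toSylow (hsyl R)) ⟨x', hR (Subgroup.mem_zpowers x'), hxx⟩
        have e2 := huniq ((R'.2.map _).toSylow (hsyl R')) ⟨x', hR', hxx⟩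
        exact Subgroup.map_injective hinj (congrArg Sylow.toSubgroup (e2.trans e1.symm))
      have hcond' := ih (by omega) x' (by
        obtain ⟨k, hk⟩ := hx
        exact ⟨k, by rw [← orderOf_injective _ hinj, hxx, hk]⟩) hu'
      have hau : a ≠ u := fun e => ha (e ▸ hxu)
      have hbu : b ≠ u := fun e => hb (e ▸ hxu)
      have hper : ∀ c (hcu : c ≠ u), per x' ⟨c, hcu⟩ = per x c := fun c hcu => per_eq_of_iff' fun k => by
        rw [← pow_apply_eq_iff, ← pow_apply_eq_iff, subtypePerm_pow, Subtype.ext_iff]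
        rfl
      exact sameCycle_subtypePerm.mp (hcond'.2 ⟨a, hau⟩ ⟨b, hbu⟩ (fun e => ha (congrArg Subtype.val e))
        (fun e => hb (congrArg Subtype.val e)) (by rw [hper a hau, hper b hbu, hab]))
    push Not at hfu
    have hfpf : ∀ u, τ u ≠ u := hfu
    have hpart : ∀ u, x u ≠ u → τ u ≠ u ∧ x.SameCycle u (τ u) := by
      intro u hu
      have hcu : Commute (x.cycleOf u) τ := hcomm _ (self_mem_cycle_factors_commute (cycleOf_mem_cycleFactorsFinset_iff.mpr (mem_support.mpr hu)))
      refine ⟨fun e => hu (hpair.2 _ _ ?_ e), ?_⟩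
      · rw [← Perm.mul_apply, hc.eq, Perm.mul_apply, e]
      · by_contra hns
        have h1 : (x.cycleOf u) (τ u) = τ u := cycleOf_apply_of_not_sameCycle hns
        rw [← Perm.mul_apply, hcu.eq, Perm.mul_apply, cycleOf_apply_self] at h1
        exact hu (τ.injective h1)
    obtain ⟨hna, hsa⟩ := hpart a ha
    obtain ⟨hnb, hsb⟩ := hpart b hb
    by_cases hxa : x a = τ a
    · -- two 2-cycles: a second pairing
      by_contra hns
      have hp2 : per x a = 2 := Nat.dvd_antisymm (by
        rw [← pow_apply_eq_iff, pow_two, Perm.mul_apply, hxa, ← Perm.mul_apply, ← hc.eq, Perm.mul_apply, hxa,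
          hpair.1]) (two_dvd_per hx ha)
      have hxb : x b = τ b := by
        rcases (pair_iff hc hpair.1 hnb hsb 1).mpr (by rw [← hab, hp2]) with h | h
        · exact absurd (by rwa [pow_one] at h) hb
        · rwa [pow_one] at h
      have d1 : a ≠ b := fun e => hns (e ▸ Perm.SameCycle.refl x a)
      have d2 : a ≠ τ b := fun e => hns ((e ▸ hsb.symm : x.SameCycle a b))
      have d3 : τ a ≠ b := fun e => hns (e ▸ hsa)
      have d4 : τ a ≠ τ b := fun e => d1 (τ.injective e)
      obtain ⟨r, hr⟩ : ∃ r, r = swap a (τ b) * swap b (τ a) := ⟨_, rfl⟩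
      have hdisj : Commute (swap a (τ b)) (swap b (τ a)) := by
        refine (disjoint_iff_disjoint_support.mpr ?_).commute
        rw [support_swap d2, support_swap d3.symm]
        simp [d1, d1.symm, hna, hna.symm, hnb, hnb.symm, d4, d4.symm]
      have hrc : ∀ σ : Perm α, σ a = τ a → σ b = τ b → σ (τ a) = a → σ (τ b) = b →
          Commute r σ := by
        intro σ h1 h2 h3 h4
        show r * σ = σ * r
        have : σ * r = swap (σ a) (σ (τ b)) * swap (σ b) (σ (τ a)) * σ := by
          rw [hr, ← mul_assoc, Equiv.mul_swap_eq_swap_mul σ, mul_assoc _ σ, Equiv.mul_swap_eq_swap_mul σ, ← mul_assoc]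
        rw [this, h1, h2, h3, h4, swap_comm (τ a), swap_comm (τ b), ← hdisj.eq, hr]
      have hx2 : ∀ u, x u = τ u → x (τ u) = u := fun u hu => by
        rw [← Perm.mul_apply, ← hc.eq, Perm.mul_apply, hu, hpair.1]
      have hrx : Commute r x := hrc x hxa hxb (hx2 a hxa) (hx2 b hxb)
      have hrt : Commute r τ := hrc τ rfl rfl (hpair.1 a) (hpair.1 b)
      have hr2 : ∀ c, r (r c) = c := fun c => by
        have : r * r = 1 := by
          rw [hr, hdisj.symm.mul_mul_mul_comm, swap_mul_self, swap_mul_self, one_mul]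
        rw [← Perm.mul_apply, this]; rfl
      have hp' : Pairing (τ * r) := by
        refine ⟨fun c => ?_, fun c d hc1 hd1 => hpair.2 c d ?_ ?_⟩
        · rw [Perm.mul_apply, Perm.mul_apply]
          have : r (τ (r c)) = τ (r (r c)) := by rw [← Perm.mul_apply, hrt.eq, Perm.mul_apply]
          rw [this, hr2, hpair.1]
        all_goals
          · have hfixr : ∀ e, (τ * r) e = e → r e = e := fun e he => by
              rw [hr] at he ⊢
              rw [Perm.mul_apply, Perm.mul_apply] at he
              rw [Perm.mul_apply]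
              rcases eq_or_ne e a with rfl | ea
              · rw [swap_apply_of_ne_of_ne d1 hna.symm, swap_apply_left, hpair.1] at he; exact absurd he d1.symm
              rcases eq_or_ne e b with rfl | eb
              · rw [swap_apply_left, swap_apply_of_ne_of_ne hna d4, hpair.1] at he; exact absurd he d1
              rcases eq_or_ne e (τ a) with rfl | eta
              · rw [swap_apply_right, swap_apply_of_ne_of_ne d1.symm hnb.symm] at he
                exact absurd he (fun e' => d4 e'.symm)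
              rcases eq_or_ne e (τ b) with rfl | etb
              · rw [swap_apply_of_ne_of_ne hnb (fun e' => d4 e'.symm), swap_apply_right] at he
                exact absurd he d4
              rw [swap_apply_of_ne_of_ne eb eta, swap_apply_of_ne_of_ne ea etb]
            first
              | (have h := hfixr c hc1; rw [Perm.mul_apply, h] at hc1; exact hc1)
              | (have h := hfixr d hd1; rw [Perm.mul_apply, h] at hd1; exact hd1)
      have hx' : x ∈ Subgroup.centralizer ({τ * r} : Set (Perm α)) :=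
        Subgroup.mem_centralizer_singleton_iff.mpr ((hc.mul_left hrx).symm.eq)
      obtain ⟨k, hk⟩ := hx
      obtain ⟨Q, hxQ, hQ⟩ := sylow_le_centralizer_of_odd _ (odd_index hp') (Subgroup.zpowers x)
        (IsPGroup.of_card (n := k) (by rw [Nat.card_zpowers, hk])) (Subgroup.zpowers_le.mpr hx')
      have hQP : Q = P := huniq Q (hxQ (Subgroup.mem_zpowers x))
      have := congrArg (fun p : Perm α => p a) (pairing_unique hpair hp' P hPC (hQP ▸ hQ))
      simp only [hr, Perm.mul_apply, swap_apply_of_ne_of_ne d1 hna.symm, swap_apply_left, hpair.1] at this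
      exact d3 this
    · -- go to the pairs
      have hmoved : x b ≠ τ b := fun h => by
        apply hxa
        have h2b : per x b ∣ 2 := by
          rw [← pow_apply_eq_iff, pow_two, Perm.mul_apply, h, ← Perm.mul_apply, ← hc.eq, Perm.mul_apply, h,
            hpair.1]
        rcases (pair_iff hc hpair.1 hna hsa 1).mpr (by rw [hab]; exact h2b) with e | e
        · exact absurd (by rwa [pow_one] at e) ha
        · rwa [pow_one] at e
      have hlt := card_pairs_lt (hτ := hpair.1) hna
      rw [Nat.card_eq_fintype_card] at hlt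
      set φ := onPairs τ hpair.1
      have hu' : ∃! R : Sylow 2 (Perm (Pairs τ hpair.1)), φ ⟨x, hxC⟩ ∈ R := by
        obtain ⟨R, hR⟩ := ((P.2.comap_subtype (K := Subgroup.centralizer {τ})).map φ).exists_le_sylow
        refine ⟨R, hR ⟨⟨x, hxC⟩, hP, rfl⟩, fun R' hR' => ?_⟩
        obtain ⟨P', hP'⟩ := ((R'.2.comap_of_ker_isPGroup φ isPGroup_ker).map
          (Subgroup.subtype _)).exists_le_sylow
        obtain rfl : P' = P := huniq P' (hP' ⟨⟨x, hxC⟩, hR', rfl⟩)
        refine Sylow.ext (R'.3 R.2 fun q hq => ?_).symm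
        obtain ⟨g, rfl⟩ := onPairs_surjective hfpf q
        exact hR ⟨g, hP' ⟨g, hq, rfl⟩, rfl⟩
      have hcond' : Cond (φ ⟨x, hxC⟩) := ih (by omega) _ (orderOf_onPairs _ hx) hu'
      have hmov : ∀ u, x u ≠ u → x u ≠ τ u → φ ⟨x, hxC⟩ (Quotient.mk _ u) ≠ Quotient.mk _ u := by
        intro u h1 h2 e
        rw [onPairs_mk, mk_eq_iff] at e
        exact e.elim h1 h2
      have hsame : (φ ⟨x, hxC⟩).SameCycle (Quotient.mk _ a) (Quotient.mk _ b) := by
        refine hcond'.2 _ _ (hmov a ha hxa) (hmov b hb hmoved) (per_eq_of_iff _ fun k => ?_)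
        rw [← pow_apply_eq_iff, ← pow_apply_eq_iff, pairs_pow_eq_iff hpair _ hna hsa,
          pairs_pow_eq_iff hpair _ hnb hsb, hab]
      obtain ⟨j, hj⟩ := hsame.exists_nat_pow_eq
      rw [onPairs_pow_mk, mk_eq_iff] at hj
      rcases hj with h | h
      · exact ⟨j, by rw [zpow_natCast]; exact h⟩
      · exact Perm.SameCycle.trans ⟨j, by rw [zpow_natCast]; exact h⟩ hsb.symm

end CfsgLib.PrimRecog.SymSylowUnique
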