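import Mathlib
import Cfsg.Agent.Lib.Maximal.Derangement

/-! Two-closed groups of degree `2p²` have derangements of prime order. -/
set_option autoImplicit false

namespace CfsgLib.PrimRecog

open MulAction

/-- A nontrivial normal subgroup of a finite `p`-group has a central element of order `p`. -/
lemma exists_central_of_normal {P : Type*} [Group P] [Finite P] {p : ℕ} [hp : Fact p.Prime]
    (hP : IsPGroup p P) {N : Subgroup P} (hN : N.Normal) (hN1 : N ≠ ⊥) :
    ∃ y ∈ N, orderOf y = p ∧ ∀ x : P, x * y = y * x := by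
  have hact : ∀ (x : ConjAct P) (n : P), n ∈ N → x • n ∈ N := fun x n hn => by
    rw [ConjAct.smul_def]; exact hN.conj_mem n hn _
  let S : SubMulAction (ConjAct P) P := { carrier := N, smul_mem' := fun x n hn => hact x n hn }
  have hd : p ∣ Nat.card S := by
    obtain ⟨k, hk⟩ := IsPGroup.iff_card.mp (hP.to_subgroup N)
    change p ∣ Nat.card N
    rw [hk]
    refine dvd_pow_self p ?_
    rintro rfl
    exact hN1 (Subgroup.card_eq_one.mp (by simpa using hk))
  have hPC : IsPGroup p (ConjAct P) := fun x => by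
    obtain ⟨k, hk⟩ := hP (ConjAct.ofConjAct x)
    exact ⟨k, ConjAct.ofConjAct.injective (by simpa using hk)⟩
  have h1 : (⟨1, N.one_mem⟩ : S) ∈ fixedPoints (ConjAct P) S := fun x => Subtype.ext (by
    show x • (1 : P) = 1
    rw [ConjAct.smul_def]; simp)
  obtain ⟨⟨y, hy⟩, hfix, hne⟩ :=
    hPC.exists_fixed_point_of_prime_dvd_card_of_fixed_point S hd h1
  have hy1 : y ≠ 1 := fun h => hne (Subtype.ext h.symm)
  have hyc : ∀ x : P, x * y = y * x := fun x => by
    have : x * y * x⁻¹ = y := congrArg Subtype.val (hfix (ConjAct.toConjAct x))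
    exact mul_inv_eq_iff_eq_mul.mp this
  obtain ⟨k, hk⟩ := IsPGroup.iff_orderOf.mp hP y
  have hk0 : k ≠ 0 := fun h => hy1 (orderOf_eq_one_iff.mp (by rw [hk, h, pow_zero]))
  refine ⟨y ^ p ^ (k - 1), N.pow_mem hy _, ?_, fun x => (Commute.pow_right (hyc x) _).eq⟩
  rw [orderOf_pow_of_dvd (pow_ne_zero _ hp.out.ne_zero) (hk ▸ pow_dvd_pow p (Nat.sub_le k 1)), hk,
    Nat.pow_div (Nat.sub_le k 1) hp.out.pos, show k - (k - 1) = 1 by omega, pow_one]

variable {G Ω : Type*} [Group G] [Finite G] [MulAction G Ω] [FaithfulSMul G Ω] [Finite Ω]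

/-- A two-closed transitive group of degree `2 p ^ 2` has a derangement of prime order. -/
theorem exists_derangement_two_closed (htrans : IsPretransitive G Ω) (p : ℕ) (hp : p.Prime)
    (hcard : Nat.card Ω = 2 * p ^ 2)
    (hcl : ∀ σ : Equiv.Perm Ω, (∀ a b : Ω, ∃ g : G, σ a = g • a ∧ σ b = g • b) →
      ∃ g : G, ∀ a : Ω, σ a = g • a) :
    ∃ g : G, (orderOf g).Prime ∧ ∀ ω : Ω, g • ω ≠ ω := by
  classical
  have := Fact.mk hp
  obtain ⟨P⟩ : Nonempty (Sylow p G) := inferInstance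
  have hΩpos : 0 < Nat.card Ω := by rw [hcard]; exact Nat.mul_pos two_pos (pow_pos hp.pos 2)
  obtain ⟨hne, -⟩ := Nat.card_pos_iff.mp hΩpos
  by_cases hp2 : p = 2
  · subst hp2
    have hΩ : Nontrivial Ω := Finite.one_lt_card_iff_nontrivial.mp (by rw [hcard]; norm_num)
    have hfull : ∀ a : Ω, orbit (P : Subgroup G) a = Set.univ := fun a => by
      have h1 := CfsgLib.Maximal.sylow_orbit_dvd htrans (k := 3) (p := 2) (by rw [hcard]; norm_num) P a
      have : Nonempty (orbit (P : Subgroup G) a) := ⟨⟨a, mem_orbit_self a⟩⟩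
      have h2 := Nat.le_of_dvd Nat.card_pos h1
      refine Set.eq_of_subset_of_ncard_le (Set.subset_univ _) ?_ (Set.toFinite _)
      rw [Set.ncard_univ, hcard, ← Nat.card_coe_set_eq]
      omega
    obtain ⟨g, hg, hgd⟩ := CfsgLib.Maximal.exists_derangement_of_transitive 2 (P : Subgroup G)
      P.isPGroup' (fun a b => by
        obtain ⟨g, hg⟩ : b ∈ orbit (P : Subgroup G) a := (hfull a).symm ▸ Set.mem_univ b
        exact ⟨g, hg⟩)
    exact ⟨g, hg ▸ hp, hgd⟩
  have hp3 : 3 ≤ p := by have := hp.two_le; omega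
  set P₀ := (P : Subgroup G)
  -- every orbit of the Sylow subgroup has `p ^ 2` points
  have horb : ∀ a : Ω, (orbit P₀ a).ncard = p ^ 2 := by
    intro a
    have h1 := CfsgLib.Maximal.sylow_orbit_dvd htrans (k := 2) (p := p) (by rw [hcard]; exact dvd_mul_left _ _) P a
    obtain ⟨j, hj⟩ := P.isPGroup'.card_orbit a
    rw [hj] at h1
    rw [← Nat.card_coe_set_eq, hj]
    have hle : p ^ j ≤ 2 * p ^ 2 := by
      rw [← hj, ← hcard]; exact Finite.card_subtype_le _
    have h2 : 2 ≤ j := (Nat.pow_dvd_pow_iff_le_right hp.one_lt).mp h1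
    by_contra hne'
    have h3 : 3 ≤ j := by
      by_contra h
      exact hne' (by rw [show j = 2 by omega])
    have h4 : p ^ 3 ≤ p ^ j := Nat.pow_le_pow_right hp.pos h3
    have h5 : 3 * p ^ 2 ≤ p ^ 3 := by rw [pow_succ p 2, mul_comm]; exact Nat.mul_le_mul_left _ hp3
    have h6 : 0 < p ^ 2 := pow_pos hp.pos 2
    omega
  -- a central element of order `p`
  obtain ⟨a₀⟩ := hne
  have hP1 : P₀ ≠ ⊥ := by
    intro h
    have h1 := horb a₀
    have h2 : orbit P₀ a₀ = {a₀} := by
      refine Set.eq_singleton_iff_unique_mem.mpr ⟨mem_orbit_self a₀, ?_⟩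
      rintro _ ⟨⟨g, hg⟩, rfl⟩
      rw [h, Subgroup.mem_bot] at hg
      subst hg
      exact one_smul G a₀
    rw [h2, Set.ncard_singleton] at h1
    have := Nat.one_lt_pow (two_ne_zero) hp.one_lt
    omega
  have : Nontrivial P₀ := (Subgroup.nontrivial_iff_ne_bot P₀).mpr hP1
  obtain ⟨z, -, hzord, hzc⟩ := exists_central_of_normal (P := P₀) P.isPGroup'
    (N := ⊤) inferInstance top_ne_bot
  by_cases hzd : ∀ ω : Ω, (z : G) • ω ≠ ω
  · exact ⟨z, by rw [Subgroup.orderOf_coe, hzord]; exact hp, hzd⟩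
  push Not at hzd
  obtain ⟨b, hzb⟩ := hzd
  -- the second orbit
  obtain ⟨a, ha⟩ : ∃ a, a ∉ orbit P₀ b := by
    by_contra h
    push Not at h
    have := horb b
    rw [Set.eq_univ_of_forall h, Set.ncard_univ, hcard] at this
    have := pow_pos hp.pos 2
    omega
  have hpart : ∀ x : Ω, x ∈ orbit P₀ a ∨ x ∈ orbit P₀ b := by
    intro x
    have hdisj : Disjoint (orbit P₀ a) (orbit P₀ b) := by
      rw [Set.disjoint_left]
      intro y hya hyb
      exact ha (orbit_eq_iff.mp ((orbit_eq_iff.mpr hya).symm.trans (orbit_eq_iff.mpr hyb)))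
    have h : orbit P₀ a ∪ orbit P₀ b = Set.univ := by
      refine Set.eq_of_subset_of_ncard_le (Set.subset_univ _) ?_ (Set.toFinite _)
      rw [Set.ncard_union_eq hdisj (Set.toFinite _) (Set.toFinite _), horb, horb, Set.ncard_univ, hcard]
      omega
    exact (h.symm ▸ Set.mem_univ x : x ∈ orbit P₀ a ∪ orbit P₀ b)
  have hnotboth : ∀ x, x ∈ orbit P₀ a → x ∈ orbit P₀ b → False := fun x hxa hxb =>
    ha (orbit_eq_iff.mp ((orbit_eq_iff.mpr hxa).symm.trans (orbit_eq_iff.mpr hxb)))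
  have hzB : ∀ x ∈ orbit P₀ b, z • x = x := by
    rintro _ ⟨g, rfl⟩
    show z • g • b = g • b
    rw [← mul_smul, ← hzc g, mul_smul]
    exact congrArg (g • ·) hzb
  have hzA : ∀ x ∈ orbit P₀ a, z • x ≠ x := by
    intro x hx hzx
    have hz1 : (z : G) = 1 := by
      refine FaithfulSMul.eq_of_smul_eq_smul (α := Ω) fun w => ?_
      rw [one_smul]
      rcases hpart w with hw | hw
      · rw [← orbit_eq_iff.mpr hx] at hw
        obtain ⟨g, rfl⟩ := hw
        show z • g • x = g • x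
        rw [← mul_smul, ← hzc g, mul_smul, hzx]
      · exact hzB w hw
    rw [show z = 1 from Subtype.ext hz1, orderOf_one] at hzord
    exact hp.ne_one hzord.symm
  -- the subgroup preserving the cycle of `a`
  let Z : Subgroup P₀ := Subgroup.zpowers z
  let J : Subgroup P₀ :=
    { carrier := {g | ∃ u ∈ Z, g • a = u • a}
      one_mem' := ⟨1, Z.one_mem, rfl⟩
      mul_mem' := by
        rintro g h ⟨u, hu, hgu⟩ ⟨v, hv, hhv⟩
        refine ⟨v * u, Z.mul_mem hv hu, ?_⟩
        obtain ⟨i, rfl⟩ := hv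
        have hc : g * z ^ i = z ^ i * g := (Commute.zpow_right (hzc g) i).eq
        rw [mul_smul, hhv, ← mul_smul, hc, mul_smul, hgu, ← mul_smul]
      inv_mem' := by
        rintro g ⟨u, hu, hgu⟩
        refine ⟨u⁻¹, Z.inv_mem hu, ?_⟩
        obtain ⟨i, rfl⟩ := hu
        have hc : g⁻¹ * z ^ i = z ^ i * g⁻¹ := (Commute.zpow_right (hzc g⁻¹) i).eq
        rw [eq_inv_smul_iff, ← mul_smul, ← hc, mul_smul, ← hgu, inv_smul_smul] }
  have hstabJ : stabilizer P₀ a ≤ J := fun g hg => ⟨1, Z.one_mem, by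
    rw [one_smul]; exact hg⟩
  have hJorb : orbit J a = orbit Z a := by
    ext x
    constructor
    · rintro ⟨⟨g, u, hu, hgu⟩, rfl⟩
      exact ⟨⟨u, hu⟩, hgu.symm⟩
    · rintro ⟨⟨u, hu⟩, rfl⟩
      exact ⟨⟨u, u, hu, rfl⟩, rfl⟩
  have hZorb : (orbit Z a).ncard = p := by
    have hcardZ : Nat.card Z = p := by rw [Nat.card_zpowers, hzord]
    have hzp : IsPGroup p Z := IsPGroup.of_card (n := 1) (by rw [hcardZ, pow_one])
    obtain ⟨j, hj⟩ := hzp.card_orbit a
    have h1 : (orbit Z a).ncard ∣ p := hcardZ ▸ (index_stabilizer Z a) ▸ Subgroup.index_dvd_card _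
    refine ((Nat.dvd_prime hp).mp h1).resolve_left fun h => ?_
    obtain ⟨w, hw⟩ := Set.ncard_eq_one.mp h
    have e1 : a ∈ ({w} : Set Ω) := hw ▸ mem_orbit_self a
    have e2 : z • a ∈ ({w} : Set Ω) := hw ▸ ⟨⟨z, Subgroup.mem_zpowers z⟩, rfl⟩
    exact hzA a (mem_orbit_self a) (e2.trans e1.symm)
  have hJidx : J.index = p := by
    have h1 : (stabilizer P₀ a).index = p ^ 2 := by rw [index_stabilizer, horb]
    rw [← Subgroup.relIndex_mul_index hstabJ] at h1
    have h2 : (stabilizer P₀ a).relIndex J = p := by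
      rw [← hZorb, ← hJorb, ← index_stabilizer]; rfl
    rw [h2, pow_two] at h1
    exact Nat.eq_of_mul_eq_mul_left hp.pos h1
  have hJn : J.Normal := by
    refine Subgroup.normal_of_index_eq_minFac_card ?_
    obtain ⟨k, hk⟩ := IsPGroup.iff_card.mp P.isPGroup'
    have hk0 : k ≠ 0 := by
      rintro rfl
      rw [pow_zero] at hk
      exact hP1 (Subgroup.card_eq_one.mp hk)
    rw [hJidx, hk, Nat.pow_minFac hk0, hp.minFac_eq]
  -- an element of `J` acting centrally on the second orbit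
  let f : P₀ →* Equiv.Perm (orbit P₀ b) := MulAction.toPermHom P₀ (orbit P₀ b)
  have hJf : J.map f.rangeRestrict ≠ ⊥ := by
    intro h
    rw [Subgroup.map_eq_bot_iff, MonoidHom.ker_rangeRestrict] at h
    have hle : J ≤ stabilizer P₀ b := fun g hg => by
      have := congrArg (fun π : Equiv.Perm (orbit P₀ b) => ((π ⟨b, mem_orbit_self b⟩ : orbit P₀ b) : Ω))
        (MonoidHom.mem_ker.mp (h hg))
      exact this
    have h1 := Subgroup.index_dvd_of_le hle
    rw [hJidx, index_stabilizer, horb] at h1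
    have h2 := Nat.le_of_dvd hp.pos h1
    have h3 : p * 1 < p ^ 2 := by rw [pow_two]; exact Nat.mul_lt_mul_of_pos_left hp.one_lt hp.pos
    omega
  obtain ⟨w, hwJ, hword, hwc⟩ := exists_central_of_normal (P.isPGroup'.of_surjective _ f.rangeRestrict_surjective)
    (hJn.map _ f.rangeRestrict_surjective) hJf
  obtain ⟨y, hyJ, rfl⟩ := hwJ
  have hyc : ∀ (g : P₀), ∀ x ∈ orbit P₀ b, g • y • x = y • g • x := by
    intro g x hx
    have := congrArg (fun π : f.range => (((π : Equiv.Perm (orbit P₀ b)) ⟨x, hx⟩ : orbit P₀ b) : Ω))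
      (hwc (f.rangeRestrict g))
    exact this
  have hyfix : ∀ x ∈ orbit P₀ b, y • x ≠ x := by
    intro x hx hyx
    have h1 : f.rangeRestrict y = 1 := by
      refine Subtype.ext (Equiv.ext fun w => Subtype.ext ?_)
      obtain ⟨g, hg⟩ : (w : Ω) ∈ orbit P₀ x := by rw [orbit_eq_iff.mpr hx]; exact w.2
      show y • (w : Ω) = w
      rw [← hg]
      show y • g • x = g • x
      rw [← hyc g x hx, hyx]
    rw [h1, orderOf_one] at hword
    exact hp.ne_one hword.symm
  have hyA : ∀ x ∈ orbit P₀ a, ∃ i : ℤ, y • x = z ^ i • x := by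
    rintro _ ⟨g, rfl⟩
    obtain ⟨u, ⟨i, rfl⟩, hu⟩ := hJn.conj_mem y hyJ g⁻¹
    refine ⟨i, ?_⟩
    rw [inv_inv, mul_smul, mul_smul, inv_smul_eq_iff] at hu
    show y • g • a = z ^ i • g • a
    rw [hu, ← mul_smul, ← mul_smul, (Commute.zpow_right (hzc g) i).eq]
  -- glue the two parts
  let s : Ω → Ω := fun x => if x ∈ orbit P₀ a then z • x else y • x
  have hs_inj : Function.Injective s := by
    intro u v huv
    by_cases hu : u ∈ orbit P₀ a <;> by_cases hv : v ∈ orbit P₀ a <;>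
      simp only [s, hu, hv, if_true, if_false] at huv
    · exact smul_left_cancel z huv
    · exfalso
      refine hv ?_
      have : y • v ∈ orbit P₀ a := huv ▸ mem_orbit_of_mem_orbit z hu
      simpa using mem_orbit_of_mem_orbit y⁻¹ this
    · exfalso
      refine hu ?_
      have : y • u ∈ orbit P₀ a := huv.symm ▸ mem_orbit_of_mem_orbit z hv
      simpa using mem_orbit_of_mem_orbit y⁻¹ this
    · exact smul_left_cancel y huv
  let σ : Equiv.Perm Ω := Equiv.ofBijective s (Finite.injective_iff_bijective.mp hs_inj)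
  have hsA : ∀ x ∈ orbit P₀ a, σ x = z • x := fun x hx => if_pos hx
  have hsB : ∀ x ∈ orbit P₀ b, σ x = y • x := fun x hx => if_neg fun h => hnotboth x h hx
  have hmix : ∀ u ∈ orbit P₀ a, ∀ v ∈ orbit P₀ b, ∃ g : G, σ u = g • u ∧ σ v = g • v := by
    intro u hu v hv
    obtain ⟨i, hi⟩ := hyA u hu
    refine ⟨((z ^ (1 - i) * y : P₀) : G), ?_, ?_⟩
    · show σ u = (z ^ (1 - i) * y) • u
      rw [hsA u hu, mul_smul, hi, ← mul_smul, ← zpow_add, sub_add_cancel, zpow_one]
    · show σ v = (z ^ (1 - i) * y) • v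
      rw [hsB v hv, mul_smul]
      exact (Subgroup.zpow_mem _ (show z ∈ stabilizer P₀ (y • v) from
        hzB _ (mem_orbit_of_mem_orbit y hv)) (1 - i)).symm
  obtain ⟨g, hg⟩ := hcl σ fun u v => by
    rcases hpart u with hu | hu <;> rcases hpart v with hv | hv
    · exact ⟨z, hsA u hu, hsA v hv⟩
    · exact hmix u hu v hv
    · obtain ⟨g, h1, h2⟩ := hmix v hv u hu
      exact ⟨g, h2, h1⟩
    · exact ⟨y, hsB u hu, hsB v hv⟩
  have hgder : ∀ ω : Ω, g • ω ≠ ω := by
    intro ω hω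
    rw [← hg] at hω
    rcases hpart ω with h | h
    · rw [hsA ω h] at hω; exact hzA ω h hω
    · rw [hsB ω h] at hω; exact hyfix ω h hω
  have hgA : ∀ (k : ℕ), ∀ x ∈ orbit P₀ a, g ^ k • x = z ^ k • x := by
    intro k x hx
    induction k with
    | zero => simp
    | succ k ih =>
      rw [pow_succ', pow_succ', mul_smul, mul_smul, ih, ← hg, hsA _ (mem_orbit_of_mem_orbit _ hx)]
  have hgB : ∀ (k : ℕ), ∀ x ∈ orbit P₀ b, g ^ k • x = y ^ k • x := by
    intro k x hx
    induction k with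
    | zero => simp
    | succ k ih =>
      rw [pow_succ', pow_succ', mul_smul, mul_smul, ih, ← hg, hsB _ (mem_orbit_of_mem_orbit _ hx)]
  have hgp : g ^ p = 1 := by
    refine FaithfulSMul.eq_of_smul_eq_smul (α := Ω) fun x => ?_
    rw [one_smul]
    rcases hpart x with h | h
    · rw [hgA p x h, ← hzord, pow_orderOf_eq_one, one_smul]
    · rw [hgB p x h]
      have h2 : f.rangeRestrict (y ^ p) = 1 := by rw [map_pow, ← hword, pow_orderOf_eq_one]
      exact congrArg (fun π : f.range => (((π : Equiv.Perm (orbit P₀ b)) ⟨x, h⟩ : orbit P₀ b) : Ω)) h2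
  refine ⟨g, ?_, hgder⟩
  rw [((Nat.dvd_prime hp).mp (orderOf_dvd_of_pow_eq_one hgp)).resolve_left fun h =>
    hgder a₀ (by rw [orderOf_eq_one_iff.mp h, one_smul])]
  exact hp

end CfsgLib.PrimRecog
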