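import Mathlib

/-! A `p`-power element acting on an elementary abelian normal subgroup. -/
set_option autoImplicit false

namespace CfsgLib.PrimRecog

lemma pow_sub_one_eq_zero {V : Type*} [AddCommGroup V] [Finite V] (p m : ℕ) (hp : p.Prime)
    (hV : Nat.card V = p ^ m) (e : AddMonoid.End V) (hnil : ∃ i, (e - 1) ^ i = 0) :
    (e - 1) ^ m = 0 := by
  set f := e - 1
  -- the kernels grow strictly until they are everything
  let K : ℕ → AddSubgroup V := fun i => AddMonoidHom.ker (f ^ i : AddMonoid.End V)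
  have hstep : ∀ i, K i = K (i + 1) → ∀ j, i ≤ j → K j = K i := by
    intro i hi j hj
    induction j, hj using Nat.le_induction with
    | base => rfl
    | succ j hj ih =>
      refine le_antisymm ?_ ?_
      · intro v hv
        have h1 : f v ∈ K j := by
          show (f ^ j) (f v) = 0
          rw [← show (f ^ (j + 1)) v = (f ^ j) (f v) by rw [pow_succ]; rfl]
          exact hv
        rw [ih] at h1
        rw [hi]
        show (f ^ (i + 1)) v = 0
        rw [pow_succ]; exact h1
      · intro v hv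
        show (f ^ (j + 1)) v = 0
        have h1 : (f ^ i) v = 0 := hv
        have : j + 1 = (j + 1 - i) + i := by omega
        rw [this, pow_add]
        show (f ^ (j + 1 - i)) ((f ^ i) v) = 0
        rw [h1, map_zero]
  by_contra hne
  obtain ⟨i₀, hi₀⟩ := hnil
  have hlt : ∀ i ≤ m, p ^ i ∣ Nat.card (K i) := by
    intro i hi
    induction i with
    | zero => simp
    | succ i ih =>
      have hle : K i ≤ K (i + 1) := fun v hv => by
        show (f ^ (i + 1)) v = 0
        rw [pow_succ']
        show f ((f ^ i) v) = 0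
        rw [show (f ^ i) v = 0 from hv, map_zero]
      have hne' : K i ≠ K (i + 1) := by
        intro heq
        apply hne
        refine AddMonoidHom.ext fun v => ?_
        have h1 : v ∈ K (max i₀ i) := by
          show (f ^ max i₀ i) v = 0
          rw [show max i₀ i = (max i₀ i - i₀) + i₀ by omega, pow_add, hi₀, mul_zero]
          rfl
        rw [hstep i heq _ (le_max_right _ _), ← hstep i heq m (by omega)] at h1
        exact h1
      have hd : Nat.card (K i) ∣ Nat.card (K (i + 1)) := AddSubgroup.card_dvd_of_le hle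
      obtain ⟨a, -, hae⟩ := (Nat.dvd_prime_pow hp).mp (hV ▸ AddSubgroup.card_addSubgroup_dvd_card (K i))
      obtain ⟨b, -, hbe⟩ := (Nat.dvd_prime_pow hp).mp (hV ▸ AddSubgroup.card_addSubgroup_dvd_card (K (i + 1)))
      have hia := ih (by omega)
      have hab : a < b := by
        rw [hae, hbe, Nat.pow_dvd_pow_iff_le_right hp.one_lt] at hd
        refine lt_of_le_of_ne hd fun he => hne' (AddSubgroup.eq_of_le_of_card_ge hle ?_)
        rw [hae, hbe, he]
      rw [hae, Nat.pow_dvd_pow_iff_le_right hp.one_lt] at hia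
      rw [hbe]
      exact pow_dvd_pow p (by omega)
  have htop : K m = ⊤ := AddSubgroup.eq_top_of_card_eq _ (Nat.dvd_antisymm
    (AddSubgroup.card_addSubgroup_dvd_card _) (hV ▸ hlt m le_rfl))
  exact hne (AddMonoidHom.ext fun v => (htop ▸ AddSubgroup.mem_top v : v ∈ K m))

open Polynomial in
lemma geom_sum_eq_pow_sub_one {R : Type*} [Ring R] (p a : ℕ) [Fact p.Prime] (hR : (p : R) = 0) (x : R) :
    x ^ p ^ a = 1 + (x - 1) ^ p ^ a ∧ ∑ i ∈ Finset.range (p ^ a), x ^ i = (x - 1) ^ (p ^ a - 1) := by
  rcases subsingleton_or_nontrivial R with h | h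
  · exact ⟨Subsingleton.elim _ _, Subsingleton.elim _ _⟩
  have : CharP R p := (CharP.charP_iff_prime_eq_zero Fact.out).mpr hR
  letI : Algebra (ZMod p) R := ZMod.algebra R p
  have h1 : ((X : (ZMod p)[X]) - 1) ^ p ^ a = X ^ p ^ a - 1 := by
    rw [sub_pow_char_pow, one_pow]
  have hne : ((X : (ZMod p)[X]) - 1) ≠ 0 := by
    rw [← C_1]; exact X_sub_C_ne_zero 1
  have h2 : ∑ i ∈ Finset.range (p ^ a), (X : (ZMod p)[X]) ^ i = (X - 1) ^ (p ^ a - 1) := by
    refine mul_right_cancel₀ hne ?_
    rw [geom_sum_mul, ← pow_succ, Nat.sub_add_cancel (Nat.one_le_pow _ _ (Fact.out : p.Prime).pos), h1]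
  constructor
  · have := congrArg (aeval x) h1
    simp only [map_pow, map_sub, aeval_X, map_one] at this
    rw [this]; abel
  · have := congrArg (aeval x) h2
    simpa using this

/-- If `v ∈ N` and `h` acts on `N` with `p`-power order, large powers of `v * h` lose `v`. -/
theorem unipotent_pow {G : Type*} [Group G] [Finite G] {N : Subgroup G} (p m a : ℕ) [hp : Fact p.Prime]
    (hn : Nat.card N = p ^ m) (hNc : IsMulCommutative N) (hNp : ∀ n ∈ N, n ^ p = 1)
    (hkm : m + 1 ≤ p ^ a) {v : G} (hv : v ∈ N) (h : G) (hconj : ∀ n ∈ N, ∀ x : G, x * n * x⁻¹ ∈ N)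
    (hper : ∀ n ∈ N, ∃ r, h ^ p ^ r * n * (h ^ p ^ r)⁻¹ = n) :
    (∀ n ∈ N, n * h ^ p ^ a = h ^ p ^ a * n) ∧ (v * h) ^ p ^ a = h ^ p ^ a := by
  have hNn : N.Normal := ⟨hconj⟩
  letI : CommGroup N := { (inferInstance : Group N) with mul_comm := fun x y => hNc.is_comm.comm x y }
  let e : AddMonoid.End (Additive N) := MonoidHom.toAdditive (MulAut.conjNormal (H := N) h).toMonoidHom
  have hpow : ∀ (i : ℕ) (n : Additive N),
      ((Additive.toMul ((e ^ i) n) : N) : G) = h ^ i * (Additive.toMul n : N) * (h ^ i)⁻¹ := by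
    intro i
    induction i with
    | zero => intro n; simp
    | succ i ih =>
      intro n
      rw [pow_succ']
      show h * ((Additive.toMul ((e ^ i) n) : N) : G) * h⁻¹ = _
      rw [ih, pow_succ']
      group
  have hR : (p : AddMonoid.End (Additive N)) = 0 := by
    refine AddMonoidHom.ext fun n => ?_
    rw [← nsmul_one]
    show p • n = 0
    exact congrArg Additive.ofMul (Subtype.ext (by simpa using hNp _ (Additive.toMul n : N).2) :
      (Additive.toMul n : N) ^ p = 1)
  have hnil : ∃ i, (e - 1) ^ i = 0 := by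
    obtain ⟨i, hi⟩ : ∃ i, ∀ n : N, h ^ p ^ i * (n : G) * (h ^ p ^ i)⁻¹ = n := by
      classical
      have := Fintype.ofFinite N
      choose r hr using fun n : N => hper n n.2
      refine ⟨Finset.univ.sup r, fun n => ?_⟩
      obtain ⟨c, hc⟩ := Nat.le.dest (Finset.le_sup (Finset.mem_univ n) : r n ≤ Finset.univ.sup r)
      have hcomm : Commute (h ^ p ^ r n) (n : G) := mul_inv_eq_iff_eq_mul.mp (hr n)
      rw [mul_inv_eq_iff_eq_mul, ← hc, pow_add, pow_mul]
      exact (hcomm.pow_left _).eq
    refine ⟨p ^ i, ?_⟩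
    have h1 := (geom_sum_eq_pow_sub_one p i hR e).1
    have h2 : e ^ p ^ i = 1 := AddMonoidHom.ext fun n =>
      Additive.toMul.injective (Subtype.ext ((hpow _ n).trans (hi _)))
    rw [h2] at h1
    exact left_eq_add.mp h1
  have hz := pow_sub_one_eq_zero p m hp.out (by rw [Nat.card_congr (Additive.toMul (α := N)), hn]) e hnil
  obtain ⟨h1, h2⟩ := geom_sum_eq_pow_sub_one p a hR e
  have hek : e ^ p ^ a = 1 := by
    rw [h1, show p ^ a = (p ^ a - m) + m by omega, pow_add, hz, mul_zero, add_zero]
  have hsum : ∑ i ∈ Finset.range (p ^ a), e ^ i = 0 := by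
    rw [h2, show p ^ a - 1 = (p ^ a - 1 - m) + m by omega, pow_add, hz, mul_zero]
  refine ⟨fun n hn' => ?_, ?_⟩
  · have := hpow (p ^ a) (Additive.ofMul ⟨n, hn'⟩)
    rw [hek] at this
    exact eq_mul_inv_iff_mul_eq.mp this
  · have hprod : ∀ k : ℕ, (v * h) ^ k =
        ((Additive.toMul (∑ i ∈ Finset.range k, (e ^ i) (Additive.ofMul ⟨v, hv⟩)) : N) : G) * h ^ k := by
      intro k
      induction k with
      | zero => simp
      | succ k ih =>
        rw [pow_succ, ih, Finset.sum_range_succ, toMul_add, Subgroup.coe_mul, hpow, toMul_ofMul,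
          pow_succ]
        group
    have hev : ∑ i ∈ Finset.range (p ^ a), (e ^ i) (Additive.ofMul ⟨v, hv⟩) = 0 := by
      have := congrArg (fun f : AddMonoid.End (Additive N) => f (Additive.ofMul (⟨v, hv⟩ : N))) hsum
      exact (map_sum (AddMonoidHom.eval (Additive.ofMul (⟨v, hv⟩ : N))) _ _).symm.trans this
    rw [hprod, hev]
    simp

end CfsgLib.PrimRecog
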